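import Cfsg.Agent.Lib.L34Sylow67.Frame
import Cfsg.Agent.Lib.Linear.Order

/-!
# Coordinates of the Sylow 2-subgroups of `PSL(3,4)`

helper67.  The images of the upper unitriangular matrices.
-/

set_option autoImplicit false
set_option linter.unusedSectionVars false
set_option linter.style.haveILetI false

open Subgroup Matrix

namespace Cfsg.Agent.Lib.L34Sylow67

universe u w

variable {F : Type w} [Field F] [Fintype F] (hF : IsFour F)

/-- An upper unitriangular matrix. -/
def upper (x y z : F) : Matrix.SpecialLinearGroup (Fin 3) F :=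
  ⟨!![1, x, z; 0, 1, y; 0, 0, 1], by simp [Matrix.det_fin_three]⟩

theorem upper_mul (x y z x' y' z' : F) :
    upper x y z * upper x' y' z' = upper (x + x') (y + y') (z + z' + x * y') := by
  refine Subtype.ext ?_
  show !![1, x, z; 0, 1, y; 0, 0, 1] * !![1, x', z'; 0, 1, y'; 0, 0, 1] =
    !![1, x + x', z + z' + x * y'; 0, 1, y + y'; 0, 0, 1]
  ext i j
  fin_cases i <;> fin_cases j <;> simp [Matrix.mul_apply, Fin.sum_univ_three] <;> ring

theorem upper_inj {x y z x' y' z' : F} (h : upper x y z = upper x' y' z') :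
    x = x' ∧ y = y' ∧ z = z' := by
  have h' := congrArg (fun m : Matrix.SpecialLinearGroup (Fin 3) F => (m : Matrix (Fin 3) (Fin 3) F)) h
  exact ⟨by simpa [upper] using congrFun (congrFun h' 0) 1,
    by simpa [upper] using congrFun (congrFun h' 1) 2,
    by simpa [upper] using congrFun (congrFun h' 0) 2⟩

theorem upper_zero : upper (0 : F) 0 0 = 1 := by
  refine Subtype.ext ?_
  simp only [upper, Matrix.SpecialLinearGroup.coe_one]
  ext i j
  fin_cases i <;> fin_cases j <;> simp

theorem upper_center {x y z : F}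
    (h : upper x y z ∈ center (Matrix.SpecialLinearGroup (Fin 3) F)) :
    x = 0 ∧ y = 0 ∧ z = 0 := by
  obtain ⟨r, -, hr⟩ := Matrix.SpecialLinearGroup.mem_center_iff.1 h
  exact ⟨by simpa [upper] using (congrFun (congrFun hr 0) 1).symm,
    by simpa [upper] using (congrFun (congrFun hr 1) 2).symm,
    by simpa [upper] using (congrFun (congrFun hr 0) 2).symm⟩

include hF in
/-- The unitriangular group. -/
def upperGroup : Subgroup (Matrix.SpecialLinearGroup (Fin 3) F) where
  carrier := {m | ∃ x y z, upper x y z = m}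
  one_mem' := ⟨0, 0, 0, upper_zero⟩
  mul_mem' := by
    rintro _ _ ⟨x, y, z, rfl⟩ ⟨x', y', z', rfl⟩
    exact ⟨_, _, _, (upper_mul x y z x' y' z').symm⟩
  inv_mem' := by
    rintro _ ⟨x, y, z, rfl⟩
    refine ⟨x, y, z + x * y, (inv_eq_of_mul_eq_one_right ?_).symm⟩
    rw [upper_mul, add_self hF, add_self hF,
      show z + (z + x * y) + x * y = (z + z) + (x * y + x * y) by ring, add_self hF, add_self hF,
      add_zero, upper_zero]

theorem card_upperGroup : Nat.card ↥(upperGroup hF) = 64 := by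
  rw [← Nat.card_congr (Equiv.ofBijective
    (fun p : F × F × F => (⟨upper p.1 p.2.1 p.2.2, _, _, _, rfl⟩ : ↥(upperGroup hF)))
    ⟨fun p q e => by
      obtain ⟨h1, h2, h3⟩ := upper_inj (congrArg Subtype.val e)
      exact Prod.ext h1 (Prod.ext h2 h3),
    fun ⟨_, x, y, z, h⟩ => ⟨(x, y, z), Subtype.ext h⟩⟩), Nat.card_eq_fintype_card,
    Fintype.card_prod, Fintype.card_prod, hF]

include hF in
theorem card_PSL : Nat.card (Matrix.ProjectiveSpecialLinearGroup (Fin 3) F) = 20160 := by
  have h := Linear.sub_one_mul_card_SL (F := F) 3 (by norm_num)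
  rw [hF, Fin.prod_univ_three] at h
  have h2 := Linear.card_SL_eq_gcd_mul_card_PSL (ι := Fin 3) (F := F)
  rw [Fintype.card_fin, Nat.card_eq_fintype_card (α := F), hF,
    show Nat.gcd 3 (4 - 1) = 3 by decide] at h2
  rw [h2] at h
  generalize Nat.card (Matrix.ProjectiveSpecialLinearGroup (Fin 3) F) = n at h ⊢
  norm_num at h
  omega

/-- The coordinates of the unitriangular group. -/
def upperFrame : Frame F (upperGroup hF) where
  a v := upper v.2 0 v.1
  b w := upper 0 w.2 w.1
  a_mem _ := ⟨_, _, _, rfl⟩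
  b_mem _ := ⟨_, _, _, rfl⟩
  a_add v v' := by rw [upper_mul]; simp
  b_add v v' := by rw [upper_mul]; simp
  a_inj v v' e := by obtain ⟨h1, -, h3⟩ := upper_inj e; exact Prod.ext h3 h1
  b_inj v v' e := by obtain ⟨-, h2, h3⟩ := upper_inj e; exact Prod.ext h3 h2
  axis _ := rfl
  act v w := by
    rw [mul_inv_eq_iff_eq_mul, upper_mul, upper_mul]
    congr 1 <;> simp
    rw [show v.1 + w.2 * v.2 + w.1 + v.2 * w.2 = v.1 + w.1 + (v.2 * w.2 + v.2 * w.2) by ring,
      add_self hF, add_zero, add_comm]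
  four := hF
  card := card_upperGroup hF

include hF in
/-- The Sylow 2-subgroups of `PSL(3,4)` have coordinates. -/
theorem exists_frame_psl (P : Sylow 2 (Matrix.ProjectiveSpecialLinearGroup (Fin 3) F)) :
    Nonempty (Frame F (P : Subgroup (Matrix.ProjectiveSpecialLinearGroup (Fin 3) F))) := by
  haveI : Fact (Nat.Prime 2) := ⟨Nat.prime_two⟩
  haveI : Finite (Matrix.ProjectiveSpecialLinearGroup (Fin 3) F) :=
    Nat.finite_of_card_ne_zero (by rw [card_PSL hF]; norm_num)
  let f : Matrix.SpecialLinearGroup (Fin 3) F →*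
      Matrix.ProjectiveSpecialLinearGroup (Fin 3) F := QuotientGroup.mk' _
  let Φ := (upperFrame hF).map f (fun m ⟨x, y, z, hm⟩ e => by
    have hc := (QuotientGroup.eq_one_iff m).1 e
    rw [← hm] at hc
    obtain ⟨rfl, rfl, rfl⟩ := upper_center hc
    rw [← hm, upper_zero])
  let T : Sylow 2 (Matrix.ProjectiveSpecialLinearGroup (Fin 3) F) :=
    Sylow.ofCard ((upperGroup hF).map f) (by
      rw [Φ.card, card_PSL hF, show (20160 : ℕ) = 2 ^ 6 * 315 by norm_num,
        Nat.factorization_mul (by norm_num) (by norm_num), Finsupp.add_apply,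
        Nat.prime_two.factorization_pow, Finsupp.single_eq_same,
        Nat.factorization_eq_zero_of_not_dvd (show ¬ 2 ∣ 315 by norm_num)]
      norm_num)
  obtain ⟨g, hg⟩ := MulAction.exists_smul_eq (Matrix.ProjectiveSpecialLinearGroup (Fin 3) F) T P
  refine ⟨(Φ.map (MulAut.conj g).toMonoidHom (fun x _ h => ?_)).congr ?_⟩
  · exact (MulAut.conj g).injective (h.trans (map_one _).symm)
  · rw [← hg, Sylow.coe_subgroup_smul]
    rfl

include hF in
/-- A group isomorphic to such a Sylow subgroup has coordinates. -/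
theorem exists_frame {G : Type u} [Group G] (S : Subgroup G)
    (P : Sylow 2 (Matrix.ProjectiveSpecialLinearGroup (Fin 3) F))
    (e : ↥S ≃* ↥(P : Subgroup (Matrix.ProjectiveSpecialLinearGroup (Fin 3) F))) :
    Nonempty (Frame F S) := by
  obtain ⟨Φ⟩ := exists_frame_psl hF P
  let φ : F × F → G := fun v => (e.symm ⟨Φ.a v, Φ.a_mem v⟩ : ↥S)
  let ψ : F × F → G := fun v => (e.symm ⟨Φ.b v, Φ.b_mem v⟩ : ↥S)
  refine ⟨{
    a := φ
    b := ψ
    a_mem := fun v => (e.symm _).2
    b_mem := fun v => (e.symm _).2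
    a_add := fun v v' => ?_
    b_add := fun v v' => ?_
    a_inj := fun v v' h => Φ.a_inj (congrArg Subtype.val (e.symm.injective (Subtype.ext h)))
    b_inj := fun v v' h => Φ.b_inj (congrArg Subtype.val (e.symm.injective (Subtype.ext h)))
    axis := fun x => ?_
    act := fun v w => ?_
    four := hF
    card := (Nat.card_congr e.toEquiv).trans Φ.card }⟩
  · simp only [φ, ← Subgroup.coe_mul, ← map_mul]
    exact congrArg (fun t => ((e.symm t : ↥S) : G)) (Subtype.ext (Φ.a_add v v'))
  · simp only [ψ, ← Subgroup.coe_mul, ← map_mul]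
    exact congrArg (fun t => ((e.symm t : ↥S) : G)) (Subtype.ext (Φ.b_add v v'))
  · exact congrArg (fun t => ((e.symm t : ↥S) : G)) (Subtype.ext (Φ.axis x))
  · simp only [φ, ψ, ← Subgroup.coe_inv, ← Subgroup.coe_mul, ← map_inv, ← map_mul]
    exact congrArg (fun t => ((e.symm t : ↥S) : G)) (Subtype.ext (Φ.act v w))

end Cfsg.Agent.Lib.L34Sylow67
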