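import Cfsg.Agent.Lib.L34Sylow67.Action
import Cfsg.Prelude.Def_TwoFusion

/-!
# Fusion in a Sylow 2-subgroup of type `PSL(3,4)`

helper67.  Either the second subgroup is strongly closed or `N(A)` moves the axis.
-/

set_option autoImplicit false
set_option linter.unusedSectionVars false
set_option linter.style.haveILetI false

open Subgroup

namespace Cfsg.Agent.Lib.L34Sylow67

universe u w

variable {G : Type u} [Group G] [Finite G]

/-- Normalisers as stabilisers. -/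
theorem normalizer_iff_map {H : Subgroup G} {g : G} :
    g ∈ normalizer (H : Set G) ↔ H.map (MulAut.conj g).toMonoidHom = H := by
  constructor
  · intro h
    ext x
    simp only [Subgroup.mem_map_equiv, MulAut.conj_symm_apply]
    have := Subgroup.mem_normalizer_iff.1 (inv_mem h) x
    rw [inv_inv] at this
    exact this.symm
  · intro h
    refine Subgroup.mem_normalizer_iff.2 fun x => ?_
    conv_rhs => rw [← h]
    simp [Subgroup.mem_map_equiv, mul_assoc]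

/-- A 2-subgroup of `C` is conjugate inside `C` into a Sylow subgroup contained in `C`. -/
theorem exists_conj_into (Sy : Sylow 2 G) {C R : Subgroup G} (hSC : (Sy : Subgroup G) ≤ C)
    (hRC : R ≤ C) (hR : IsPGroup 2 ↥R) :
    ∃ c ∈ C, ∀ r ∈ R, c * r * c⁻¹ ∈ (Sy : Subgroup G) := by
  haveI : Fact (Nat.Prime 2) := ⟨Nat.prime_two⟩
  obtain ⟨P, hP⟩ := (hR.of_equiv (Subgroup.subgroupOfEquivOfLe hRC).symm).exists_le_sylow
  obtain ⟨c, hc⟩ := MulAction.exists_smul_eq ↥C P (Sy.subtype hSC)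
  refine ⟨c, c.2, fun r hr => ?_⟩
  have h1 : c * ⟨r, hRC hr⟩ * c⁻¹ ∈ ((c • P : Sylow 2 ↥C) : Subgroup ↥C) := by
    rw [Sylow.coe_subgroup_smul]
    exact ⟨⟨r, hRC hr⟩, hP (by simpa [Subgroup.mem_subgroupOf] using hr), rfl⟩
  rw [hc, Sylow.coe_subtype, Subgroup.mem_subgroupOf] at h1
  exact h1

/-- A 2-subgroup is conjugate into `S`. -/
theorem exists_conj_sylow (Sy : Sylow 2 G) {R : Subgroup G} (hR : IsPGroup 2 ↥R) :
    ∃ g : G, ∀ r ∈ R, g * r * g⁻¹ ∈ (Sy : Subgroup G) := by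
  obtain ⟨c, -, hc⟩ := exists_conj_into Sy (C := ⊤) le_top le_top hR
  exact ⟨c, hc⟩

/-- A 2-element normalising a Sylow 2-subgroup lies in it. -/
theorem mem_of_normalizer (Sy : Sylow 2 G) {x : G} (hx : x ∈ normalizer ((Sy : Subgroup G) : Set G))
    {k : ℕ} (hk : x ^ 2 ^ k = 1) : x ∈ (Sy : Subgroup G) := by
  haveI : Fact (Nat.Prime 2) := ⟨Nat.prime_two⟩
  obtain ⟨j, -, hj⟩ := (Nat.dvd_prime_pow Nat.prime_two).1 (orderOf_dvd_of_pow_eq_one hk)
  have h2 : IsPGroup 2 ↥(Subgroup.zpowers x) :=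
    IsPGroup.of_card (n := j) (by rw [Nat.card_zpowers, hj])
  have h3 := IsPGroup.to_sup_of_normal_left' Sy.2 h2 (Subgroup.zpowers_le.2 hx)
  exact (Sy.3 h3 le_sup_left).le (Subgroup.mem_sup_right (Subgroup.mem_zpowers x))

namespace Frame

variable {F : Type w} [Field F] [Fintype F] {S : Subgroup G} (Φ : Frame F S) (Sy : Sylow 2 G)
  (hS : (Sy : Subgroup G) = S)

theorem isPGroup_A : IsPGroup 2 ↥Φ.A :=
  IsPGroup.of_card (n := 4) (by rw [Φ.card_A]; norm_num)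

theorem conj_sub (g : G) : ∀ x ∈ Φ.A.map (MulAut.conj g).toMonoidHom, x * x = 1 := by
  rintro _ ⟨_, ⟨v, rfl⟩, rfl⟩
  rw [← map_mul, Φ.a_sq, map_one]

theorem card_conj (g : G) : Nat.card ↥(Φ.A.map (MulAut.conj g).toMonoidHom) = 16 :=
  (Subgroup.card_map_of_injective (MulAut.conj g).injective).trans Φ.card_A

include hS

/-- The two subgroups are not conjugate. -/
theorem not_conj (g : G) : Φ.A.map (MulAut.conj g).toMonoidHom ≠ Φ.B := by
  haveI : Fact (Nat.Prime 2) := ⟨Nat.prime_two⟩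
  intro hg
  have hnA : S ≤ normalizer (Φ.A : Set G) := Φ.S_le_normalizer
  have hnB : S ≤ normalizer (Φ.B : Set G) := Φ.symm.S_le_normalizer
  -- `g S g⁻¹` and `S` normalise `B`
  have hconj : ∀ s ∈ S, g * s * g⁻¹ ∈ normalizer (Φ.B : Set G) := by
    intro s hs
    refine Subgroup.mem_normalizer_iff.2 fun x => ?_
    rw [← hg]
    simp only [Subgroup.mem_map_equiv, MulAut.conj_symm_apply]
    rw [show g⁻¹ * (g * s * g⁻¹ * x * (g * s * g⁻¹)⁻¹) * g = s * (g⁻¹ * x * g) * s⁻¹ by group]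
    exact Subgroup.mem_normalizer_iff.1 (hnA hs) _
  have hR : IsPGroup 2 ↥(S.map (MulAut.conj g).toMonoidHom) := (hS ▸ Sy.2).map _
  obtain ⟨c, hc, hcS⟩ := exists_conj_into Sy (C := normalizer (Φ.B : Set G)) (hS ▸ hnB)
    (by rintro _ ⟨s, hs, rfl⟩; exact hconj s hs) hR
  set n := c * g with hn
  have hnS : ∀ s ∈ S, n * s * n⁻¹ ∈ S := fun s hs => by
    have := hcS _ ⟨s, hs, rfl⟩
    rw [hS] at this
    simpa [hn, mul_assoc, MulAut.conj_apply] using this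
  have hnAB : Φ.A.map (MulAut.conj n).toMonoidHom = Φ.B := by
    refine Subgroup.eq_of_le_of_card_ge ?_ (by rw [Φ.card_B, Φ.card_conj])
    rintro _ ⟨x, hx, rfl⟩
    have h1 : g * x * g⁻¹ ∈ Φ.B := hg ▸ ⟨x, hx, rfl⟩
    have h2 := (Subgroup.mem_normalizer_iff.1 hc _).1 h1
    simpa [hn, mul_assoc, MulAut.conj_apply] using h2
  have hnN : n ∈ normalizer (S : Set G) := by
    refine normalizer_iff_map.2 (Subgroup.eq_of_le_of_card_ge ?_
      (Subgroup.card_map_of_injective (MulAut.conj n).injective).ge)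
    rintro _ ⟨s, hs, rfl⟩
    exact hnS s hs
  have hBA : Φ.B.map (MulAut.conj n).toMonoidHom = Φ.A := by
    rcases Φ.eq_or_eq (E := Φ.B.map (MulAut.conj n).toMonoidHom)
      (by rintro _ ⟨x, hx, rfl⟩; exact hnS x (Φ.B_le hx)) (Φ.symm.conj_sub n)
      (Φ.symm.card_conj n).ge with h | h
    · exact h
    · exact absurd (Subgroup.map_injective (f := (MulAut.conj n).toMonoidHom)
        (MulAut.conj n).injective (hnAB.trans h.symm)) Φ.A_ne_B
  have hn2 : n * n ∈ normalizer (Φ.A : Set G) := by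
    refine normalizer_iff_map.2 ?_
    conv_rhs => rw [← hBA, ← hnAB, Subgroup.map_map]
    congr 1
    ext x
    simp [mul_assoc]
  obtain ⟨a, m, hm, ham⟩ := Nat.exists_eq_two_pow_mul_odd (orderOf_pos n).ne'
  have hnm : n ^ m ∈ normalizer (Φ.A : Set G) := hnA (hS ▸ mem_of_normalizer Sy
    (hS ▸ pow_mem hnN m) (k := a) (by rw [← pow_mul, mul_comm, ← ham, pow_orderOf_eq_one]))
  obtain ⟨j, rfl⟩ := hm
  have hnA' : n ∈ normalizer (Φ.A : Set G) := by
    rw [pow_succ, pow_mul, pow_two] at hnm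
    exact (Subgroup.mul_mem_cancel_left _ (pow_mem hn2 j)).1 hnm
  exact Φ.A_ne_B ((normalizer_iff_map.1 hnA').symm.trans hnAB)

omit hS in
/-- Conjugates of `a v` in the axis. -/
def Fused (v : F × F) : Prop := ∃ g : G, ∃ z : F, g * Φ.a v * g⁻¹ = Φ.a (z, 0)

/-- Fusion into the axis is realised in `N(A)`. -/
theorem exists_normalizer_fusion {v : F × F} (hv : Φ.Fused v) :
    ∃ n ∈ normalizer (Φ.A : Set G), ∃ z : F, n * Φ.a v * n⁻¹ = Φ.a (z, 0) := by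
  obtain ⟨g, z, hg⟩ := hv
  have hSC : S ≤ centralizer ({Φ.a (z, 0)} : Set G) := fun s hs =>
    mem_centralizer_singleton_iff.2 (Φ.axis_comm hs z)
  have hAC : Φ.A.map (MulAut.conj g).toMonoidHom ≤ centralizer ({Φ.a (z, 0)} : Set G) := by
    rintro _ ⟨_, ⟨v', rfl⟩, rfl⟩
    rw [mem_centralizer_singleton_iff, ← hg]
    show MulAut.conj g (Φ.a v') * MulAut.conj g (Φ.a v) = MulAut.conj g (Φ.a v) * MulAut.conj g _
    rw [← map_mul, ← map_mul, Φ.a_comm]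
  obtain ⟨c, hc, hcS⟩ := exists_conj_into Sy (hS ▸ hSC) hAC (Φ.isPGroup_A.map _)
  rcases Φ.eq_or_eq (E := Φ.A.map (MulAut.conj (c * g)).toMonoidHom)
    (by
      rintro _ ⟨x, hx, rfl⟩
      have := hcS _ ⟨x, hx, rfl⟩
      rw [hS] at this
      simpa [mul_assoc, MulAut.conj_apply] using this)
    (Φ.conj_sub _) (Φ.card_conj _).ge with h | h
  · refine ⟨c * g, normalizer_iff_map.2 h, z, ?_⟩
    rw [show c * g * Φ.a v * (c * g)⁻¹ = c * (g * Φ.a v * g⁻¹) * c⁻¹ by group, hg,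
      mem_centralizer_singleton_iff.1 hc, mul_inv_cancel_right]
  · exact absurd h (Φ.not_conj Sy hS _)

omit hS in
/-- `N(A)` moves the axis. -/
def Moves : Prop :=
  ∃ n ∈ normalizer (Φ.A : Set G), ∃ z : F, n * Φ.a (z, 0) * n⁻¹ ∉ Φ.B

theorem moves_of_fused {v : F × F} (h2 : v.2 ≠ 0) (hv : Φ.Fused v) : Φ.Moves := by
  obtain ⟨n, hn, z, e⟩ := Φ.exists_normalizer_fusion Sy hS hv
  refine ⟨n⁻¹, inv_mem hn, z, fun h => h2 (Φ.mem_B_iff.1 ?_)⟩
  rw [← e] at h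
  simpa [mul_assoc] using h

theorem card_two_le_of_unfused {v : F × F} (h2 : v.2 ≠ 0) (hv : ¬ Φ.Fused v) {R : Subgroup G}
    (hR : IsPGroup 2 ↥R) (hRC : R ≤ centralizer ({Φ.a v} : Set G)) (hvR : Φ.a v ∈ R) :
    Nat.card ↥R ≤ 16 := by
  obtain ⟨g, hg⟩ := exists_conj_sylow Sy hR
  rw [hS] at hg
  have hx := hg _ hvR
  have hx2 : g * Φ.a v * g⁻¹ * (g * Φ.a v * g⁻¹) = 1 := by
    rw [show g * Φ.a v * g⁻¹ * (g * Φ.a v * g⁻¹) = g * (Φ.a v * Φ.a v) * g⁻¹ by group, Φ.a_sq]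
    group
  have hcomm : ∀ r ∈ R, (g * r * g⁻¹) * (g * Φ.a v * g⁻¹) = (g * Φ.a v * g⁻¹) * (g * r * g⁻¹) :=
    fun r hr => by
      rw [show g * r * g⁻¹ * (g * Φ.a v * g⁻¹) = g * (r * Φ.a v) * g⁻¹ by group,
        mem_centralizer_singleton_iff.1 (hRC hr)]
      group
  have ecard : Nat.card ↥(R.map (MulAut.conj g).toMonoidHom) = Nat.card ↥R :=
    Subgroup.card_map_of_injective (MulAut.conj g).injective
  rw [← ecard]
  rcases Φ.invol hx hx2 with ⟨v', hv'⟩ | ⟨w', hw'⟩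
  · have hv'2 : v'.2 ≠ 0 := fun e => hv ⟨g, v'.1, by
      rw [← hv', show (v'.1, (0 : F)) = v' from Prod.ext rfl e.symm]⟩
    rw [← Φ.card_A]
    refine Nat.card_mono (Set.toFinite _) ?_
    rintro _ ⟨r, hr, rfl⟩
    exact Φ.mem_A_of_comm (hg r hr) hv'2 (hv' ▸ hcomm r hr)
  · have hw'2 : w'.2 ≠ 0 := fun e => hv ⟨g, w'.1, by
      rw [← hw', show w' = (w'.1, 0) from Prod.ext rfl e]
      exact (Φ.axis _).symm⟩
    rw [← Φ.card_B]
    refine Nat.card_mono (Set.toFinite _) ?_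
    rintro _ ⟨r, hr, rfl⟩
    refine Φ.symm.mem_A_of_comm (hg r hr) hw'2 ?_
    show g * r * g⁻¹ * Φ.b w' = Φ.b w' * (g * r * g⁻¹)
    rw [hw']
    exact hcomm r hr

/-- If no element of `A` outside the axis is fused into it, `B` is strongly closed. -/
theorem closed_of_unfused (h : ∀ v : F × F, v.2 ≠ 0 → ¬ Φ.Fused v) :
    Cfsg.IsStronglyClosed Φ.B S := by
  haveI : Fact (Nat.Prime 2) := ⟨Nat.prime_two⟩
  refine ⟨Φ.B_le, ?_⟩
  rintro _ ⟨w, rfl⟩ g hg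
  have hsq : g * Φ.b w * g⁻¹ * (g * Φ.b w * g⁻¹) = 1 := by
    rw [show g * Φ.b w * g⁻¹ * (g * Φ.b w * g⁻¹) = g * (Φ.b w * Φ.b w) * g⁻¹ by group, Φ.b_sq]
    group
  rcases Φ.invol hg hsq with ⟨v, hv⟩ | hB
  swap
  · exact hB
  by_cases hv2 : v.2 = 0
  · exact hv ▸ Φ.mem_B_iff.2 hv2
  exfalso
  have hva := h v hv2
  -- the conjugate of `B` centralises `a v`
  have hBC : Φ.B.map (MulAut.conj g).toMonoidHom ≤ centralizer ({Φ.a v} : Set G) := by
    rintro _ ⟨_, ⟨w', rfl⟩, rfl⟩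
    rw [mem_centralizer_singleton_iff, hv]
    show MulAut.conj g (Φ.b w') * MulAut.conj g (Φ.b w) = MulAut.conj g (Φ.b w) * MulAut.conj g _
    rw [← map_mul, ← map_mul, Φ.b_comm]
  have hAC : Φ.A ≤ centralizer ({Φ.a v} : Set G) := by
    rintro _ ⟨v', rfl⟩
    exact mem_centralizer_singleton_iff.2 (Φ.a_comm v' v)
  set C := centralizer ({Φ.a v} : Set G) with hC
  obtain ⟨R, hR⟩ := (Φ.isPGroup_A.of_equiv
    (Subgroup.subgroupOfEquivOfLe hAC).symm).exists_le_sylow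
  have hAR : Φ.A ≤ (R : Subgroup ↥C).map C.subtype := fun x hx =>
    ⟨⟨x, hAC hx⟩, hR (by simpa [Subgroup.mem_subgroupOf] using hx), rfl⟩
  have hRA : (R : Subgroup ↥C).map C.subtype = Φ.A :=
    (Subgroup.eq_of_le_of_card_ge hAR (by
      rw [Φ.card_A]
      exact Φ.card_two_le_of_unfused Sy hS hv2 hva (R.2.map _) (map_subtype_le _)
        (hAR ⟨v, rfl⟩))).symm
  obtain ⟨P, hP⟩ := ((Φ.symm.isPGroup_A.map (MulAut.conj g).toMonoidHom).of_equiv
    (Subgroup.subgroupOfEquivOfLe hBC).symm).exists_le_sylow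
  obtain ⟨c, hc⟩ := MulAction.exists_smul_eq ↥C P R
  have hle : Φ.B.map (MulAut.conj ((c : G) * g)).toMonoidHom ≤ Φ.A := by
    rintro _ ⟨x, hx, rfl⟩
    have hx' : (MulAut.conj g).toMonoidHom x ∈ Φ.B.map (MulAut.conj g).toMonoidHom := ⟨x, hx, rfl⟩
    have h1 : c * ⟨_, hBC hx'⟩ * c⁻¹ ∈ ((c • P : Sylow 2 ↥C) : Subgroup ↥C) := by
      rw [Sylow.coe_subgroup_smul]
      exact ⟨⟨_, hBC hx'⟩, hP (by simpa [Subgroup.mem_subgroupOf] using hx'), rfl⟩
    rw [hc] at h1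
    rw [← hRA]
    exact ⟨_, h1, by simp [mul_assoc]⟩
  exact Φ.symm.not_conj Sy hS _
    (Subgroup.eq_of_le_of_card_ge hle (Φ.card_A.trans (Φ.symm.card_conj _).symm).le)

/-- The alternative. -/
theorem closed_or_moves : Cfsg.IsStronglyClosed Φ.B S ∨ Φ.Moves := by
  by_cases h : ∀ v : F × F, v.2 ≠ 0 → ¬ Φ.Fused v
  · exact Or.inl (Φ.closed_of_unfused Sy hS h)
  · push Not at h
    obtain ⟨v, hv2, hv⟩ := h
    exact Or.inr (Φ.moves_of_fused Sy hS hv2 hv)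

end Frame

end Cfsg.Agent.Lib.L34Sylow67
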