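import Cfsg.Agent.Lib.L34Sylow67.Scalar

/-!
# The projective plane

helper67.  Points are the conjugates of `A`, lines those of `B`, incidence is meeting
non-trivially.  There are 21 points: as in `Lib/CIT/Plane` the involutions are counted by their
effect on `A`; the involutions sending `A` to a point not collinear with it act differently on the
five lines through `A`, by `eq_one_of_scalar`.
-/

set_option autoImplicit false
set_option linter.unusedSectionVars false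
set_option linter.style.haveILetI false

open Subgroup
open Cfsg.Agent.Lib.CIT Cfsg.Agent.Lib.CosetGraph.SylowIn

namespace Cfsg.Agent.Lib.L34Sylow67.Frame

universe u w

variable {G : Type u} [Group G] [Finite G] {F : Type w} [Field F] [Fintype F] {S : Subgroup G}
  (Φ : Frame F S) (c : Φ.Geometry) {Sy : Sylow 2 G} (hS : (Sy : Subgroup G) = S)

theorem card_inf : Nat.card ↥(Φ.A ⊓ Φ.B) = 4 := by
  rw [← Nat.card_congr (Equiv.ofBijective
    (fun x : F => (⟨Φ.a (x, 0), ⟨_, rfl⟩, Φ.mem_B_iff.2 rfl⟩ : ↥(Φ.A ⊓ Φ.B)))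
    ⟨fun x y e => congrArg Prod.fst (Φ.a_inj (congrArg Subtype.val e)), fun ⟨g, hg⟩ => by
      obtain ⟨⟨v, rfl⟩, hB⟩ := hg
      exact ⟨v.1, Subtype.ext (congrArg Φ.a (Prod.ext rfl (Φ.mem_B_iff.1 hB).symm))⟩⟩),
    Nat.card_eq_fintype_card, Φ.four]

theorem inf_ne_bot : Φ.A ⊓ Φ.B ≠ ⊥ := fun e => by
  have := Φ.card_inf
  rw [e, Subgroup.card_bot] at this
  omega

theorem exists_axis {z : G} (hz : z ∈ Φ.A ⊓ Φ.B) (hz1 : z ≠ 1) :
    ∃ x : F, x ≠ 0 ∧ Φ.a (x, 0) = z := by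
  obtain ⟨⟨v, rfl⟩, hB⟩ := hz
  have e : v = (v.1, 0) := Prod.ext rfl (Φ.mem_B_iff.1 hB)
  exact ⟨v.1, fun h => hz1 (by rw [e, h]; exact Φ.a_zero), by rw [← e]⟩

theorem sq_of_mem {v : G} (hv : v ∈ Φ.A) : v * v = 1 := by
  obtain ⟨v, rfl⟩ := hv; exact Φ.a_sq v

theorem conj_sq {g t : G} (ht : t ∈ Φ.A ^ᶜ g) : t * t = 1 := by
  obtain ⟨v, hv, rfl⟩ := ht
  rw [← map_mul, Φ.sq_of_mem hv, map_one]

include c hS

/-- Every involution of `A` is conjugate in `N(A)` into the axis. -/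
theorem fusion {v : G} (hv : v ∈ Φ.A) :
    ∃ g ∈ normalizer (Φ.A : Set G), cj g v ∈ Φ.A ⊓ Φ.B := by
  obtain ⟨v, rfl⟩ := hv
  rcases eq_or_ne v 0 with rfl | hv
  · exact ⟨1, one_mem _, by rw [Φ.a_zero, cj_one]; exact one_mem _⟩
  obtain ⟨n, hn, e⟩ := c.transA v (1, 0) hv (by simp)
  exact ⟨n, hn, by rw [show cj n (Φ.a v) = _ from e]; exact ⟨⟨_, rfl⟩, Φ.mem_B_iff.2 rfl⟩⟩

/-- The point containing a given involution of the axis is `A`. -/
theorem point_unique {z : G} (hz : z ∈ Φ.A ⊓ Φ.B) (hz1 : z ≠ 1) {g : G} (h : z ∈ Φ.A ^ᶜ g) :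
    Φ.A ^ᶜ g = Φ.A := by
  obtain ⟨x, hx, rfl⟩ := Φ.exists_axis hz hz1
  refine (Φ.eq_or_eq ?_ (Φ.conj_sub g) (Φ.card_conj g).ge).resolve_right (Φ.not_conj Sy hS g)
  intro y hy
  have hC : y ∈ centralizer ({Φ.a (x, 0)} : Set G) := by
    obtain ⟨_, ⟨p, rfl⟩, rfl⟩ := hy
    obtain ⟨_, ⟨q, rfl⟩, hq⟩ := h
    rw [mem_centralizer_singleton_iff, ← hq]
    show MulAut.conj g (Φ.a p) * MulAut.conj g (Φ.a q) = MulAut.conj g (Φ.a q) * MulAut.conj g _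
    rw [← map_mul, ← map_mul, Φ.a_comm]
  have hN := c.cent x hx hC
  rw [← hS] at hN ⊢
  exact mem_of_normalizer Sy hN (k := 1) (by rw [pow_one, sq]; exact Φ.conj_sq hy)

/-- An involution lies in at most one point. -/
theorem point_eq {a b t : G} (ha : t ∈ Φ.A ^ᶜ a) (hb : t ∈ Φ.A ^ᶜ b) (ht1 : t ≠ 1) :
    Φ.A ^ᶜ b = Φ.A ^ᶜ a := by
  obtain ⟨v, hv, rfl⟩ := ha
  obtain ⟨k, hk, hkv⟩ := Φ.fusion c hS hv
  have h1 := conjSub_cj (x := k * a⁻¹) hb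
  have e : cj (k * a⁻¹) ((MulAut.conj a).toMonoidHom v) = cj k v := by
    show cj (k * a⁻¹) (cj a v) = cj k v
    rw [cj_cj, inv_mul_cancel_right]
  rw [conjSub_conjSub, e] at h1
  have h2 := Φ.point_unique c hS hkv (fun e1 => ht1 (by simp [cj_eq_one.1 e1])) h1
  have h3 := congrArg (fun X : Subgroup G => X ^ᶜ (k * a⁻¹)⁻¹) h2
  simp only [conjSub_conjSub, inv_mul_cancel_left] at h3
  rw [h3, mul_inv_rev, inv_inv, ← conjSub_conjSub, conj_map_eq_self (inv_mem hk)]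

/-- A point and a line through a common involution form a conjugate of `(A, B)`. -/
theorem flag {a b t : G} (hp : t ∈ Φ.A ^ᶜ a) (hl : t ∈ Φ.B ^ᶜ b) (ht1 : t ≠ 1) :
    ∃ g : G, (Φ.A ^ᶜ a) ^ᶜ g = Φ.A ∧ (Φ.B ^ᶜ b) ^ᶜ g = Φ.B ∧ cj g t ∈ Φ.A ⊓ Φ.B := by
  obtain ⟨v, hv, rfl⟩ := hp
  obtain ⟨k, hk, hkv⟩ := Φ.fusion c hS hv
  set t := (MulAut.conj a).toMonoidHom v with htd
  refine ⟨k * a⁻¹, ?_⟩
  have e : cj (k * a⁻¹) t = cj k v := by
    rw [htd]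
    show cj (k * a⁻¹) (cj a v) = cj k v
    rw [cj_cj, inv_mul_cancel_right]
  have hzR : cj (k * a⁻¹) t ∈ Φ.A ⊓ Φ.B := e ▸ hkv
  refine ⟨?_, ?_, hzR⟩
  · rw [conjSub_conjSub, inv_mul_cancel_right, conj_map_eq_self hk]
  · have h1 := conjSub_cj (x := k * a⁻¹) hl
    rw [conjSub_conjSub] at h1 ⊢
    exact Φ.symm.point_unique c.symm hS (g := k * a⁻¹ * b)
      (⟨hzR.2, hzR.1⟩ : cj (k * a⁻¹) t ∈ Φ.B ⊓ Φ.A) (fun e1 => ht1 (cj_eq_one.1 e1)) h1

/-- Every involution lies in a flag. -/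
theorem exists_flag {t : G} (ht : t * t = 1) (ht1 : t ≠ 1) :
    ∃ a b : G, t ∈ Φ.A ^ᶜ a ∧ t ∈ Φ.B ^ᶜ b := by
  haveI : Fact (Nat.Prime 2) := ⟨Nat.prime_two⟩
  have key : ∀ (Ψ : Frame F S), Ψ.Geometry → ∀ {g v : G}, v ∈ Ψ.A → cj g v = t →
      ∃ a b : G, t ∈ Ψ.A ^ᶜ a ∧ t ∈ Ψ.B ^ᶜ b := by
    intro Ψ d g v hv e
    obtain ⟨k, hk, hkv⟩ := Ψ.fusion d hS hv
    refine ⟨g, g * k⁻¹, e ▸ conjSub_cj hv, ?_⟩
    rw [show t = cj (g * k⁻¹) (cj k v) by rw [cj_cj, inv_mul_cancel_right, e]]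
    exact conjSub_cj hkv.2
  obtain ⟨g, hg⟩ := exists_conj_sylow Sy (R := Subgroup.zpowers t)
    (IsPGroup.of_card (n := 1) (by
      rw [Nat.card_zpowers, orderOf_eq_prime (by rw [sq, ht]) ht1, pow_one]))
  have htS : g * t * g⁻¹ ∈ S := hS ▸ hg t (Subgroup.mem_zpowers t)
  have hy2 : g * t * g⁻¹ * (g * t * g⁻¹) = 1 := by
    rw [show g * t * g⁻¹ * (g * t * g⁻¹) = g * (t * t) * g⁻¹ by group, ht]
    group
  have e : cj g⁻¹ (g * t * g⁻¹) = t := cj_inv_cancel g t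
  rcases Φ.invol htS hy2 with h | h
  · exact key Φ c h e
  · obtain ⟨a, b, ha, hb⟩ := key Φ.symm c.symm h e
    exact ⟨b, a, hb, ha⟩

/-- The flag data of an incident pair. -/
theorem exists_flag_map {a b : G} (h : Φ.A ^ᶜ a ⊓ Φ.B ^ᶜ b ≠ ⊥) :
    ∃ g : G, (Φ.A ^ᶜ a) ^ᶜ g = Φ.A ∧ (Φ.B ^ᶜ b) ^ᶜ g = Φ.B := by
  obtain ⟨t, ht, ht1⟩ := (Subgroup.bot_or_exists_ne_one _).resolve_left h
  obtain ⟨g, hgV, hgW, -⟩ := Φ.flag c hS ht.1 ht.2 ht1
  exact ⟨g, hgV, hgW⟩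

/-- Lines normalise the points on them. -/
theorem le_normalizer_of_meet {a b : G} (h : Φ.A ^ᶜ a ⊓ Φ.B ^ᶜ b ≠ ⊥) :
    Φ.B ^ᶜ b ≤ normalizer ((Φ.A ^ᶜ a : Subgroup G) : Set G) := by
  obtain ⟨g, hgV, hgW⟩ := Φ.exists_flag_map c hS h
  have h1 := conjSub_le_normalizer (Φ.B_le.trans Φ.S_le_normalizer) g⁻¹
  conv at h1 => rw [← hgW, ← hgV, conjSub_inv_cancel, conjSub_inv_cancel]
  exact h1

theorem card_inter {a b : G} (h : Φ.A ^ᶜ a ⊓ Φ.B ^ᶜ b ≠ ⊥) :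
    Nat.card ↥(Φ.A ^ᶜ a ⊓ Φ.B ^ᶜ b) = 4 := by
  obtain ⟨g, hgV, hgW⟩ := Φ.exists_flag_map c hS h
  rw [← card_conjSub _ g, conjSub_inf, hgV, hgW, Φ.card_inf]

/-- A point normalised by `A` is `A`. -/
theorem eq_of_le_normalizer {a : G}
    (h : Φ.A ≤ normalizer ((Φ.A ^ᶜ a : Subgroup G) : Set G)) : Φ.A ^ᶜ a = Φ.A := by
  haveI : Fact (Nat.Prime 2) := ⟨Nat.prime_two⟩
  have h1 : Φ.A ^ᶜ a⁻¹ ≤ normalizer (Φ.A : Set G) := by
    have := conjSub_le_normalizer h a⁻¹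
    rwa [conjSub_inv_cancel] at this
  obtain ⟨k, hk, hkS⟩ := exists_conj_into Sy (C := normalizer (Φ.A : Set G))
    (hS ▸ Φ.S_le_normalizer) h1 (Φ.isPGroup_A.map _)
  have e := (Φ.eq_or_eq (E := Φ.A ^ᶜ (k * a⁻¹)) (by
    rintro _ ⟨x, hx, rfl⟩
    have h' := hkS _ ⟨x, hx, rfl⟩
    rw [hS] at h'
    simpa [mul_assoc, MulAut.conj_apply] using h')
    (Φ.conj_sub _) (Φ.card_conj _).ge).resolve_right (Φ.not_conj Sy hS _)
  have h2 : a⁻¹ ∈ normalizer (Φ.A : Set G) := by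
    have := mul_mem (inv_mem hk) (normalizer_iff_map.2 e)
    rwa [inv_mul_cancel_left] at this
  exact conj_map_eq_self (inv_mem_iff.1 h2)

/-- Two points have at most one common line. -/
theorem line_unique {a b₁ b₂ : G} (hne : Φ.A ^ᶜ a ≠ Φ.A)
    (h₁ : Φ.A ⊓ Φ.B ^ᶜ b₁ ≠ ⊥) (h₁' : Φ.A ^ᶜ a ⊓ Φ.B ^ᶜ b₁ ≠ ⊥) (h₂ : Φ.A ⊓ Φ.B ^ᶜ b₂ ≠ ⊥)
    (h₂' : Φ.A ^ᶜ a ⊓ Φ.B ^ᶜ b₂ ≠ ⊥) : Φ.B ^ᶜ b₁ = Φ.B ^ᶜ b₂ := by
  by_contra hl
  have hV1 : Φ.A ^ᶜ (1 : G) = Φ.A := conj_map_one _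
  set A₁ := Φ.A ⊓ Φ.B ^ᶜ b₁ with hA
  set A₂ := Φ.A ⊓ Φ.B ^ᶜ b₂ with hB
  have hAB : A₁ ⊓ A₂ = ⊥ := by
    rw [Subgroup.eq_bot_iff_forall]
    intro t ht
    by_contra ht1
    exact hl (Φ.symm.point_eq c.symm hS ht.2.2 ht.1.2 ht1)
  have hc1 : Nat.card A₁ = 4 := by
    have := Φ.card_inter c hS (a := 1) (b := b₁) (by rwa [hV1])
    rwa [hV1] at this
  have hc2 : Nat.card A₂ = 4 := by
    have := Φ.card_inter c hS (a := 1) (b := b₂) (by rwa [hV1])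
    rwa [hV1] at this
  have hn : A₁ ≤ normalizer (A₂ : Set G) := by
    intro x hx
    obtain ⟨⟨p, rfl⟩, -⟩ := hx
    refine Subgroup.mem_normalizer_iff.2 fun y => ⟨fun hy => ?_, fun hy => ?_⟩
    · obtain ⟨q, hq⟩ := hy.1
      rw [← hq, Φ.a_comm, mul_inv_cancel_right, hq]
      exact hy
    · obtain ⟨q, hq⟩ := hy.1
      have e : y = Φ.a q := by
        rw [show y = (Φ.a p)⁻¹ * (Φ.a p * y * (Φ.a p)⁻¹) * Φ.a p by group, ← hq, Φ.a_inv, Φ.a_comm,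
          mul_assoc, Φ.a_sq, mul_one]
      rw [e]; rw [← hq] at hy; exact hy
  have hc := OffenderComp.Aux.card_sup_inf hn
  rw [hAB, Subgroup.card_bot, mul_one, hc1, hc2] at hc
  have hVe : A₁ ⊔ A₂ = Φ.A := Subgroup.eq_of_le_of_card_ge (sup_le inf_le_left inf_le_left)
    (by rw [Φ.card_A, hc])
  refine hne (Φ.eq_of_le_normalizer c hS (hVe.ge.trans ?_))
  exact sup_le ((inf_le_right : A₁ ≤ _).trans (Φ.le_normalizer_of_meet c hS h₁'))
    ((inf_le_right : A₂ ≤ _).trans (Φ.le_normalizer_of_meet c hS h₂'))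

/-- An involution normalising a point lies in a line through it. -/
theorem meet_of_normalizes {a t : G} (ht : t * t = 1) (ht1 : t ≠ 1)
    (hn : t ∈ normalizer ((Φ.A ^ᶜ a : Subgroup G) : Set G)) :
    ∃ b : G, t ∈ Φ.B ^ᶜ b ∧ Φ.A ^ᶜ a ⊓ Φ.B ^ᶜ b ≠ ⊥ := by
  haveI : Fact (Nat.Prime 2) := ⟨Nat.prime_two⟩
  have hn' : a⁻¹ * t * a ∈ normalizer (Φ.A : Set G) := by
    have h1 := conjSub_le_normalizer (H := Subgroup.zpowers t) (Subgroup.zpowers_le.2 hn) a⁻¹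
    rw [conjSub_inv_cancel] at h1
    simpa [cj] using h1 (conjSub_cj (x := a⁻¹) (Subgroup.mem_zpowers t))
  have ht' : a⁻¹ * t * a * (a⁻¹ * t * a) = 1 := by
    rw [show a⁻¹ * t * a * (a⁻¹ * t * a) = a⁻¹ * (t * t) * a by group, ht]
    group
  have ht'1 : a⁻¹ * t * a ≠ 1 := fun e => ht1 (by
    rw [show t = a * (a⁻¹ * t * a) * a⁻¹ by group, e]; group)
  obtain ⟨k, hk, hkS⟩ := exists_conj_into Sy (C := normalizer (Φ.A : Set G))
    (hS ▸ Φ.S_le_normalizer) (Subgroup.zpowers_le.2 hn')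
    (IsPGroup.of_card (n := 1) (by
      rw [Nat.card_zpowers, orderOf_eq_prime (by rw [sq, ht']) ht'1, pow_one]))
  have hy := hkS _ (Subgroup.mem_zpowers _)
  rw [hS] at hy
  set y := k * (a⁻¹ * t * a) * k⁻¹ with hyd
  have hy2 : y * y = 1 := by
    rw [hyd, show k * (a⁻¹ * t * a) * k⁻¹ * (k * (a⁻¹ * t * a) * k⁻¹) =
      k * (a⁻¹ * t * a * (a⁻¹ * t * a)) * k⁻¹ by group, ht']
    group
  have hty : t = cj (a * k⁻¹) y := by rw [hyd]; simp only [cj]; group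
  have hVa : Φ.A ^ᶜ (a * k⁻¹) = Φ.A ^ᶜ a := by
    rw [← conjSub_conjSub, conj_map_eq_self (inv_mem hk)]
  rcases Φ.invol hy hy2 with h | h
  · obtain ⟨p, b, -, hb⟩ := Φ.exists_flag c hS ht ht1
    refine ⟨b, hb, fun e => ht1 (Subgroup.mem_bot.1 (e ▸ (⟨?_, hb⟩ : t ∈ Φ.A ^ᶜ a ⊓ Φ.B ^ᶜ b)))⟩
    rw [← hVa, hty]
    exact conjSub_cj h
  · refine ⟨a * k⁻¹, ?_, fun e => Φ.inf_ne_bot ?_⟩
    · rw [hty]; exact conjSub_cj h
    · refine (conjSub_eq_bot (g := a * k⁻¹)).1 ?_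
      rw [conjSub_inf, hVa, e]

section Counting

open scoped Classical

variable [Fintype G]

theorem five : (meeting Φ.B Φ.A).card = 5 := by
  classical
  have hV1 : Φ.A ^ᶜ (1 : G) = Φ.A := conj_map_one _
  have hun : sharp Φ.A = (meeting Φ.B Φ.A).biUnion fun l => sharp (Φ.A ⊓ l) := by
    ext t
    simp only [Finset.mem_biUnion, mem_sharp, mem_meeting]
    constructor
    · rintro ⟨ht, ht1⟩
      obtain ⟨-, b, -, hb⟩ := Φ.exists_flag c hS (Φ.sq_of_mem ht) ht1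
      exact ⟨Φ.B ^ᶜ b, ⟨⟨b, rfl⟩, fun e => ht1 (Subgroup.mem_bot.1
        (e ▸ (⟨ht, hb⟩ : t ∈ Φ.A ⊓ Φ.B ^ᶜ b)))⟩, ⟨ht, hb⟩, ht1⟩
    · rintro ⟨l, -, ht, ht1⟩
      exact ⟨ht.1, ht1⟩
  have hdisj : ((meeting Φ.B Φ.A : Finset (Subgroup G)) : Set (Subgroup G)).PairwiseDisjoint
      fun l => sharp (Φ.A ⊓ l) := by
    intro l hl l' hl' hne
    rw [Function.onFun, Finset.disjoint_left]
    intro t ht ht'
    obtain ⟨⟨b, rfl⟩, -⟩ := mem_meeting.1 hl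
    obtain ⟨⟨b', rfl⟩, -⟩ := mem_meeting.1 hl'
    exact hne (Φ.symm.point_eq c.symm hS (mem_sharp.1 ht').1.2 (mem_sharp.1 ht).1.2
      (mem_sharp.1 ht).2)
  have h3 : ∀ l ∈ meeting Φ.B Φ.A, (sharp (Φ.A ⊓ l)).card = 3 := by
    intro l hl
    obtain ⟨⟨b, rfl⟩, hne⟩ := mem_meeting.1 hl
    have h1 := Φ.card_inter c hS (a := 1) (b := b) (by rwa [hV1])
    rw [hV1, ← card_sharp] at h1
    omega
  have h := congrArg Finset.card hun
  rw [Finset.card_biUnion hdisj, Finset.sum_congr rfl h3, Finset.sum_const, smul_eq_mul] at h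
  have h16 := card_sharp Φ.A
  rw [Φ.card_A, h] at h16
  omega

theorem five_conj {b : G} : (meeting Φ.A (Φ.B ^ᶜ b)).card = 5 := by
  classical
  rw [← Φ.symm.five c.symm hS]
  refine Finset.card_bij' (fun X _ => X ^ᶜ b⁻¹) (fun X _ => X ^ᶜ b) ?_ ?_
    (fun X _ => conjSub_cancel_inv X b) (fun X _ => conjSub_inv_cancel X b)
  · intro X hX
    obtain ⟨⟨g, rfl⟩, hne⟩ := mem_meeting.1 hX
    refine mem_meeting.2 ⟨⟨b⁻¹ * g, conjSub_conjSub _ _ _⟩, fun e => hne ?_⟩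
    have := congrArg (fun Y : Subgroup G => Y ^ᶜ b) e
    simpa only [conjSub_inf, conjSub_conjSub, mul_inv_cancel_left, Subgroup.map_bot, symm_A,
      symm_B] using this
  · intro X hX
    obtain ⟨⟨g, rfl⟩, hne⟩ := mem_meeting.1 hX
    refine mem_meeting.2 ⟨⟨b * g, conjSub_conjSub _ _ _⟩, fun e => hne ?_⟩
    have := congrArg (fun Y : Subgroup G => Y ^ᶜ b⁻¹) e
    simpa only [conjSub_inf, conjSub_inv_cancel, conjSub_conjSub, inv_mul_cancel_left,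
      inv_mul_cancel, conj_map_one, Subgroup.map_bot, symm_A, symm_B] using this

omit c hS in
open Classical in
/-- Points collinear with `A`, other than `A`. -/
noncomputable def collinear : Finset (Subgroup G) :=
  (meeting Φ.B Φ.A).biUnion fun l => (meeting Φ.A l).erase Φ.A

theorem card_collinear : Φ.collinear.card = 20 := by
  classical
  rw [collinear, Finset.card_biUnion]
  · rw [Finset.sum_congr rfl (g := fun _ => 4), Finset.sum_const, Φ.five c hS, smul_eq_mul]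
    intro l hl
    obtain ⟨⟨b, rfl⟩, hne⟩ := mem_meeting.1 hl
    rw [Finset.card_erase_of_mem, Φ.five_conj c hS]
    exact mem_meeting.2 ⟨⟨1, (conj_map_one _).symm⟩, by rwa [inf_comm]⟩
  · intro l hl l' hl' hne
    rw [Function.onFun, Finset.disjoint_left]
    intro p hp hp'
    obtain ⟨hpV, hp⟩ := Finset.mem_erase.1 hp
    obtain ⟨-, hp'⟩ := Finset.mem_erase.1 hp'
    obtain ⟨⟨b, rfl⟩, h1⟩ := mem_meeting.1 hl
    obtain ⟨⟨b', rfl⟩, h2⟩ := mem_meeting.1 hl'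
    obtain ⟨⟨a, rfl⟩, h3⟩ := mem_meeting.1 hp
    obtain ⟨-, h4⟩ := mem_meeting.1 hp'
    exact hne (Φ.line_unique c hS hpV h1 (by rwa [inf_comm]) h2 (by rwa [inf_comm]))

/-- An element of `N(A)` fixing the five lines through `A` is scalar on `A`. -/
theorem exists_scalar_of_fix {y : G} (hy : y ∈ normalizer (Φ.A : Set G))
    (hfix : ∀ g ∈ normalizer (Φ.A : Set G), (Φ.B ^ᶜ g) ^ᶜ y = Φ.B ^ᶜ g) :
    ∃ l : F, ∀ v, y * Φ.a v * y⁻¹ = Φ.a (l • v) := by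
  have key : ∀ v : F × F, ∃ l : F, y * Φ.a v * y⁻¹ = Φ.a (l • v) := by
    intro v
    rcases eq_or_ne v 0 with rfl | hv
    · exact ⟨1, by rw [smul_zero, Φ.a_zero, mul_one, mul_inv_cancel]⟩
    obtain ⟨n, hn, e⟩ := c.transA (1, 0) v (by simp) hv
    obtain ⟨w, hw⟩ := (Subgroup.mem_normalizer_iff.1 hy _).1 (⟨v, rfl⟩ : Φ.a v ∈ Φ.A)
    have h1 : Φ.a v ∈ Φ.B ^ᶜ n := ⟨_, Φ.mem_B_iff.2 rfl, e⟩
    have h2 : y * Φ.a v * y⁻¹ ∈ Φ.B ^ᶜ n := by
      rw [← hfix n hn]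
      exact conjSub_cj (x := y) h1
    obtain ⟨z, hz, hzw⟩ := h2
    have hzA : z ∈ Φ.A := by
      have := (Subgroup.mem_normalizer_iff.1 (inv_mem hn) _).1 (⟨w, rfl⟩ : Φ.a w ∈ Φ.A)
      rw [hw, ← hzw] at this
      simpa [mul_assoc, MulAut.conj_apply] using this
    obtain ⟨u, rfl⟩ := hzA
    refine ⟨u.1, ?_⟩
    rw [← hzw]
    show n * Φ.a u * n⁻¹ = _
    rw [show u = u.1 • ((1, 0) : F × F) from Prod.ext (by simp)
      (by simp [Φ.mem_B_iff.1 hz]), c.linA n hn u.1 _ _ e]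
    simp
  obtain ⟨l₁, h₁⟩ := key (1, 0)
  obtain ⟨l₂, h₂⟩ := key (0, 1)
  obtain ⟨l, hl⟩ := key (1, 1)
  have e : l₁ = l ∧ l₂ = l := by
    rw [show ((1 : F), (1 : F)) = ((1, 0) : F × F) + (0, 1) from Prod.ext (by simp) (by simp),
      Φ.a_add, show y * (Φ.a (1, 0) * Φ.a (0, 1)) * y⁻¹ =
        y * Φ.a (1, 0) * y⁻¹ * (y * Φ.a (0, 1) * y⁻¹) by group, h₁, h₂, ← Φ.a_add] at hl
    have := Φ.a_inj hl
    exact ⟨by simpa using congrArg Prod.fst this, by simpa using congrArg Prod.snd this⟩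
  refine ⟨l₁, fun v => ?_⟩
  rw [show v = v.1 • ((1, 0) : F × F) + v.2 • (0, 1) from Prod.ext (by simp) (by simp),
    Φ.a_add, show y * (Φ.a (v.1 • ((1, 0) : F × F)) * Φ.a (v.2 • ((0, 1) : F × F))) * y⁻¹ =
      y * Φ.a (v.1 • ((1, 0) : F × F)) * y⁻¹ * (y * Φ.a (v.2 • ((0, 1) : F × F)) * y⁻¹) by group,
    c.linA y hy _ _ _ h₁, c.linA y hy _ _ _ h₂, ← Φ.a_add, e.1, e.2]
  refine congrArg Φ.a ?_
  rw [smul_add, smul_smul, smul_smul, smul_smul, smul_smul, mul_comm l, mul_comm l]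

/-- The involutions sending `A` to a given point not collinear with it. -/
theorem card_common {a : G} (hne : Φ.A ^ᶜ a ≠ Φ.A) (hnc : Φ.A ^ᶜ a ∉ Φ.collinear)
    (T : Finset G) (hT : ∀ t ∈ T, t * t = 1 ∧ Φ.A ^ᶜ t = Φ.A ^ᶜ a) : T.card ≤ 5 := by
  classical
  haveI : Fact (Nat.Prime 2) := ⟨Nat.prime_two⟩
  rcases T.eq_empty_or_nonempty with rfl | ⟨t₀, ht₀⟩
  · simp
  set D := normalizer (Φ.A : Set G) ⊓ normalizer ((Φ.A ^ᶜ a : Subgroup G) : Set G) with hD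
  have hTD : ∀ t ∈ T, ∀ t' ∈ T, t * t' ∈ D := by
    intro t ht t' ht'
    obtain ⟨ht2, hte⟩ := hT t ht
    obtain ⟨ht'2, ht'e⟩ := hT t' ht'
    have hback : ∀ s ∈ T, (Φ.A ^ᶜ a) ^ᶜ s = Φ.A := fun s hs => by
      rw [← (hT s hs).2, conjSub_conjSub, (hT s hs).1, conj_map_one]
    refine Subgroup.mem_inf.2 ⟨?_, ?_⟩ <;> rw [mem_normalizer_iff_map, ← conjSub_conjSub]
    · rw [ht'e, hback t ht]
    · rw [hback t' ht', hte]
  have hnoinv : ∀ u ∈ D, u * u = 1 → u = 1 := by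
    intro u hu hu2
    by_contra hu1
    obtain ⟨b, hb, hbm⟩ := Φ.meet_of_normalizes c hS (a := 1) hu2 hu1
      (by rw [conj_map_one]; exact hu.1)
    obtain ⟨b', hb', hbm'⟩ := Φ.meet_of_normalizes c hS hu2 hu1 hu.2
    rw [conj_map_one] at hbm
    have e := Φ.symm.point_eq c.symm hS hb hb' hu1
    refine hnc ?_
    simp only [collinear, Finset.mem_biUnion, mem_meeting]
    refine ⟨Φ.B ^ᶜ b, ⟨⟨b, rfl⟩, hbm⟩,
      Finset.mem_erase.2 ⟨hne, mem_meeting.2 ⟨⟨a, rfl⟩, ?_⟩⟩⟩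
    rw [inf_comm, show Φ.B ^ᶜ b = Φ.B ^ᶜ b' from e.symm]
    exact hbm'
  have hodd : Odd (Nat.card ↥D) := by
    rw [← Nat.not_even_iff_odd]
    intro hev
    obtain ⟨u, hu⟩ := exists_prime_orderOf_dvd_card' (G := D) 2 (even_iff_two_dvd.1 hev)
    have hu2 : (u : G) * u = 1 := by
      have := congrArg Subtype.val (hu ▸ pow_orderOf_eq_one u : u ^ 2 = 1)
      simpa [pow_two] using this
    have := hnoinv u u.2 hu2
    rw [show u = 1 from Subtype.ext this, orderOf_one] at hu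
    norm_num at hu
  have hmem : ∀ (y : ↥D) (l : {l // l ∈ meeting Φ.B Φ.A}), l.1 ^ᶜ (y : G) ∈ meeting Φ.B Φ.A := by
    intro y l
    obtain ⟨⟨b, hb⟩, hlne⟩ := mem_meeting.1 l.2
    refine mem_meeting.2 ⟨⟨(y : G) * b, by rw [hb, conjSub_conjSub]⟩, fun e => hlne ?_⟩
    refine (conjSub_eq_bot (g := (y : G))).1 ?_
    rw [conjSub_inf, conj_map_eq_self y.2.1, e]
  letI : MulAction D {l // l ∈ meeting Φ.B Φ.A} :=
    { smul := fun y l => ⟨l.1 ^ᶜ (y : G), hmem y l⟩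
      one_smul := fun l => Subtype.ext (show l.1 ^ᶜ (1 : G) = l.1 from conj_map_one _)
      mul_smul := fun x y l => Subtype.ext
        (show l.1 ^ᶜ ((x : G) * y) = (l.1 ^ᶜ (y : G)) ^ᶜ (x : G) from
        (conjSub_conjSub _ _ _).symm) }
  let ψ := MulAction.toPermHom D {l // l ∈ meeting Φ.B Φ.A}
  have hlines : ∀ g ∈ normalizer (Φ.A : Set G), Φ.B ^ᶜ g ∈ meeting Φ.B Φ.A := by
    intro g hg
    refine mem_meeting.2 ⟨⟨g, rfl⟩, fun e => Φ.inf_ne_bot ?_⟩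
    refine (conjSub_eq_bot (g := g)).1 ?_
    rw [conjSub_inf, conj_map_eq_self hg, e]
  let f : {t // t ∈ T} → ↥ψ.range := fun t => ⟨ψ ⟨t₀ * t, hTD _ ht₀ _ t.2⟩, _, rfl⟩
  have hf : Function.Injective f := by
    rintro ⟨t, ht⟩ ⟨t', ht'⟩ e
    have e' : ψ ⟨t₀ * t, hTD _ ht₀ _ ht⟩ = ψ ⟨t₀ * t', hTD _ ht₀ _ ht'⟩ :=
      congrArg Subtype.val e
    set k : ↥D := ⟨t * t', hTD _ ht _ ht'⟩ with hk
    have hk1 : ψ k = 1 := by
      have hk2 : k = (⟨t₀ * t, hTD _ ht₀ _ ht⟩ : ↥D)⁻¹ * ⟨t₀ * t', hTD _ ht₀ _ ht'⟩ :=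
        Subtype.ext (by
          show t * t' = (t₀ * t)⁻¹ * (t₀ * t')
          rw [mul_inv_rev, inv_eq_of_mul_eq_one_right (hT t ht).1]; group)
      rw [hk2, map_mul, map_inv, e', inv_mul_cancel]
    have hkfix : ∀ g ∈ normalizer (Φ.A : Set G), (Φ.B ^ᶜ g) ^ᶜ (k : G) = Φ.B ^ᶜ g := fun g hg =>
      congrArg (fun p : Equiv.Perm {l // l ∈ meeting Φ.B Φ.A} => (p ⟨_, hlines g hg⟩).1) hk1
    obtain ⟨l, hl⟩ := Φ.exists_scalar_of_fix c hS k.2.1 hkfix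
    have hkB : (k : G) ∈ normalizer (Φ.B : Set G) := by
      have := hkfix 1 (one_mem _)
      rw [conj_map_one] at this
      exact mem_normalizer_iff_map.2 this
    have hko : Odd (orderOf (k : G)) :=
      hodd.of_dvd_nat (Subgroup.orderOf_dvd_natCard D k.2)
    have hinv : t * (k : G) * t⁻¹ = (k : G)⁻¹ := by
      show t * (t * t') * t⁻¹ = (t * t')⁻¹
      rw [← mul_assoc, (hT t ht).1, one_mul, mul_inv_rev,
        inv_eq_of_mul_eq_one_right (hT t' ht').1]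
    have hk0 : t * t' = 1 := Φ.eq_one_of_scalar c hS hkB hko hl hinv
    exact Subtype.ext
      ((inv_eq_of_mul_eq_one_right (hT t ht).1).symm.trans (inv_eq_of_mul_eq_one_right hk0))
  have h1 := Nat.card_le_card_of_injective f hf
  rw [Nat.card_eq_finsetCard] at h1
  refine h1.trans ?_
  by_contra hgt
  have e5 : Fintype.card {l // l ∈ meeting Φ.B Φ.A} = 5 := by rw [Fintype.card_coe, Φ.five c hS]
  let e := (Fintype.equivFinOfCardEq e5).permCongrHom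
  have hdvd := Subgroup.card_dvd_of_injective (e.toMonoidHom.comp ψ.range.subtype)
    (e.injective.comp ψ.range.subtype_injective)
  rw [Nat.card_perm, Nat.card_fin] at hdvd
  have ho : Odd (Nat.card ↥ψ.range) := hodd.of_dvd_nat (Subgroup.card_range_dvd ψ)
  have h8 : Nat.card ↥ψ.range ∣ 15 := by
    refine Nat.Coprime.dvd_of_dvd_mul_left ?_
      (hdvd.trans (dvd_of_eq (show Nat.factorial 5 = 8 * 15 from rfl)))
    rw [show (8 : ℕ) = 2 ^ 3 by norm_num]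
    exact Nat.Coprime.pow_right _ (Nat.coprime_two_right.2 ho)
  have key : ∀ m ∈ Finset.range 16, m ∣ 15 → 5 < m → m = 15 := by decide
  have h15 := key _ (Finset.mem_range.2 (Nat.lt_succ_of_le (Nat.le_of_dvd (by norm_num) h8)))
    h8 (by omega)
  exact not_fifteen h15 (e.toMonoidHom.comp ψ.range.subtype)
    (e.injective.comp ψ.range.subtype_injective)

omit c hS in
open Classical in
/-- The points. -/
noncomputable def points : Finset (Subgroup G) :=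
  Finset.univ.filter fun X => ∃ g, X = Φ.A ^ᶜ g

omit c hS in
theorem mem_points {X : Subgroup G} : X ∈ Φ.points ↔ ∃ g, X = Φ.A ^ᶜ g :=
  Finset.mem_filter.trans (and_iff_right (Finset.mem_univ _))

omit c hS in
theorem collinear_subset : insert Φ.A Φ.collinear ⊆ Φ.points := by
  classical
  intro X hX
  rcases Finset.mem_insert.1 hX with rfl | hX
  · exact Φ.mem_points.2 ⟨1, (conj_map_one _).symm⟩
  · simp only [collinear, Finset.mem_biUnion] at hX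
    obtain ⟨l, -, hX⟩ := hX
    exact Φ.mem_points.2 (mem_meeting.1 (Finset.mem_erase.1 hX).2).1

theorem insert_collinear : (insert Φ.A Φ.collinear).card = 21 := by
  classical
  rw [Finset.card_insert_of_notMem, Φ.card_collinear c hS]
  intro h
  simp only [collinear, Finset.mem_biUnion] at h
  obtain ⟨l, -, h⟩ := h
  exact (Finset.mem_erase.1 h).1 rfl

/-- There are exactly twenty-one points, each collinear with `A`. -/
theorem points_eq : insert Φ.A Φ.collinear = Φ.points := by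
  classical
  refine Finset.eq_of_subset_of_card_le Φ.collinear_subset ?_
  rw [Φ.insert_collinear c hS]
  set n := Φ.points.card with hn
  set I : Finset G := Φ.points.biUnion sharp with hI
  have hmemI : ∀ t, t ∈ I ↔ t * t = 1 ∧ t ≠ 1 := by
    intro t
    simp only [hI, Finset.mem_biUnion, mem_sharp]
    constructor
    · rintro ⟨X, hX, ht, ht1⟩
      obtain ⟨g, rfl⟩ := Φ.mem_points.1 hX
      exact ⟨Φ.conj_sq ht, ht1⟩
    · rintro ⟨ht, ht1⟩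
      obtain ⟨a, b, ha, -⟩ := Φ.exists_flag c hS ht ht1
      exact ⟨Φ.A ^ᶜ a, Φ.mem_points.2 ⟨a, rfl⟩, ha, ht1⟩
  have hIcard : I.card = n * 15 := by
    rw [hI, Finset.card_biUnion, Finset.sum_congr rfl (g := fun _ => 15), Finset.sum_const,
      smul_eq_mul]
    · intro X hX
      obtain ⟨g, rfl⟩ := Φ.mem_points.1 hX
      have := card_sharp (Φ.A ^ᶜ g)
      rw [card_conjSub, Φ.card_A] at this
      omega
    · intro X hX Y hY hne
      rw [Function.onFun, Finset.disjoint_left]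
      intro t ht ht'
      obtain ⟨g, rfl⟩ := Φ.mem_points.1 hX
      obtain ⟨g', rfl⟩ := Φ.mem_points.1 hY
      exact hne (Φ.point_eq c hS (mem_sharp.1 ht').1 (mem_sharp.1 ht).1 (mem_sharp.1 ht).2)
  -- the three kinds of involutions
  set A := (meeting Φ.B Φ.A).biUnion sharp with hA
  set B := (meeting Φ.B Φ.A).biUnion fun l =>
    ((meeting Φ.A l).erase Φ.A).biUnion fun p => sharp p \ sharp l with hB
  set C := (Φ.points \ insert Φ.A Φ.collinear).biUnion fun p =>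
    I.filter fun t => Φ.A ^ᶜ t = p with hC
  have hsub : I ⊆ A ∪ (B ∪ C) := by
    intro t ht
    obtain ⟨ht2, ht1⟩ := (hmemI t).1 ht
    by_cases hfix : Φ.A ^ᶜ t = Φ.A
    · refine Finset.mem_union_left _ ?_
      obtain ⟨b, hb, hbm⟩ := Φ.meet_of_normalizes c hS (a := 1) ht2 ht1
        (by rw [conj_map_one]; exact mem_normalizer_iff_map.2 hfix)
      rw [conj_map_one] at hbm
      simp only [hA, Finset.mem_biUnion, mem_sharp, mem_meeting]
      exact ⟨Φ.B ^ᶜ b, ⟨⟨b, rfl⟩, hbm⟩, hb, ht1⟩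
    refine Finset.mem_union_right _ ?_
    by_cases hcol : Φ.A ^ᶜ t ∈ Φ.collinear
    · refine Finset.mem_union_left _ ?_
      simp only [collinear, Finset.mem_biUnion] at hcol
      obtain ⟨l, hl, hp⟩ := hcol
      obtain ⟨hpV, hp⟩ := Finset.mem_erase.1 hp
      obtain ⟨⟨b, rfl⟩, hbm⟩ := mem_meeting.1 hl
      obtain ⟨-, hpm⟩ := mem_meeting.1 hp
      rw [inf_comm] at hpm
      -- `t` normalises the common line
      have hVtt : (Φ.A ^ᶜ t) ^ᶜ t = Φ.A := by rw [conjSub_conjSub, ht2, conj_map_one]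
      have htl : t ∈ normalizer ((Φ.B ^ᶜ b : Subgroup G) : Set G) := by
        rw [mem_normalizer_iff_map, conjSub_conjSub]
        refine Φ.line_unique c hS hpV ?_ ?_ hbm hpm
        · intro e
          refine hpm ((conjSub_eq_bot (g := t)).1 ?_)
          rw [conjSub_inf, hVtt, conjSub_conjSub, e]
        · intro e
          refine hbm ((conjSub_eq_bot (g := t)).1 ?_)
          rw [conjSub_inf, conjSub_conjSub, e]
      obtain ⟨a, hta, htm⟩ := Φ.symm.meet_of_normalizes c.symm hS ht2 ht1 htl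
      simp only [hB, Finset.mem_biUnion, Finset.mem_sdiff, mem_sharp]
      refine ⟨Φ.B ^ᶜ b, hl, Φ.A ^ᶜ a,
        Finset.mem_erase.2 ⟨fun e => hfix ?_, mem_meeting.2 ⟨⟨a, rfl⟩, htm⟩⟩,
        ⟨hta, ht1⟩, fun h => hfix ?_⟩
      · exact conj_map_eq_self (Subgroup.le_normalizer (e ▸ hta))
      · have h1 := Φ.le_normalizer_of_meet c hS (a := 1) (b := b)
          (by rw [conj_map_one]; exact hbm)
        rw [conj_map_one] at h1
        exact conj_map_eq_self (h1 h.1)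
    · refine Finset.mem_union_right _ ?_
      simp only [hC, Finset.mem_biUnion, Finset.mem_sdiff, Finset.mem_insert, Finset.mem_filter]
      exact ⟨Φ.A ^ᶜ t, ⟨Φ.mem_points.2 ⟨t, rfl⟩, fun h => h.elim hfix hcol⟩, ht, rfl⟩
  have hAc : A.card ≤ 75 := by
    refine Finset.card_biUnion_le.trans
      ((Finset.sum_le_card_nsmul _ _ 15 fun l hl => ?_).trans ?_)
    · obtain ⟨⟨b, rfl⟩, -⟩ := mem_meeting.1 hl
      have := card_sharp (Φ.B ^ᶜ b)
      rw [card_conjSub, Φ.card_B] at this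
      omega
    · rw [Φ.five c hS, smul_eq_mul]
  have hBc : B.card ≤ 240 := by
    refine Finset.card_biUnion_le.trans
      ((Finset.sum_le_card_nsmul _ _ 48 fun l hl => ?_).trans ?_)
    · obtain ⟨⟨b, rfl⟩, hbm⟩ := mem_meeting.1 hl
      refine Finset.card_biUnion_le.trans
        ((Finset.sum_le_card_nsmul _ _ 12 fun p hp => ?_).trans ?_)
      · obtain ⟨⟨a, rfl⟩, hpm⟩ := mem_meeting.1 (Finset.mem_erase.1 hp).2
        rw [inf_comm] at hpm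
        have e : sharp (Φ.B ^ᶜ b) ∩ sharp (Φ.A ^ᶜ a) = sharp (Φ.A ^ᶜ a ⊓ Φ.B ^ᶜ b) := by
          ext x
          simp only [Finset.mem_inter, mem_sharp, Subgroup.mem_inf]
          tauto
        have h1 := card_sharp (Φ.A ^ᶜ a ⊓ Φ.B ^ᶜ b)
        rw [Φ.card_inter c hS hpm] at h1
        have h2 := card_sharp (Φ.A ^ᶜ a)
        rw [card_conjSub, Φ.card_A] at h2
        rw [Finset.card_sdiff, e]
        omega
      · rw [Finset.card_erase_of_mem, Φ.five_conj c hS, smul_eq_mul]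
        exact mem_meeting.2 ⟨⟨1, (conj_map_one _).symm⟩, by rwa [inf_comm]⟩
    · rw [Φ.five c hS, smul_eq_mul]
  have hCc : C.card ≤ (n - 21) * 5 := by
    refine Finset.card_biUnion_le.trans
      ((Finset.sum_le_card_nsmul _ _ 5 fun p hp => ?_).trans ?_)
    · obtain ⟨hp, hpn⟩ := Finset.mem_sdiff.1 hp
      obtain ⟨a, rfl⟩ := Φ.mem_points.1 hp
      simp only [Finset.mem_insert, not_or] at hpn
      refine Φ.card_common c hS hpn.1 hpn.2 _ fun t ht => ?_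
      obtain ⟨htI, hte⟩ := Finset.mem_filter.1 ht
      exact ⟨((hmemI _).1 htI).1, hte⟩
    · rw [Finset.card_sdiff_of_subset Φ.collinear_subset, Φ.insert_collinear c hS, smul_eq_mul]
  have h1 := Finset.card_le_card hsub
  have h2 := Finset.card_union_le A (B ∪ C)
  have h3 := Finset.card_union_le B C
  omega

theorem card_points : Φ.points.card = 21 := by
  rw [← Φ.points_eq c hS, Φ.insert_collinear c hS]

/-- Any other point is on a line with `A`. -/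
theorem exists_line {a : G} (hne : Φ.A ^ᶜ a ≠ Φ.A) :
    ∃ b : G, Φ.A ⊓ Φ.B ^ᶜ b ≠ ⊥ ∧ Φ.A ^ᶜ a ⊓ Φ.B ^ᶜ b ≠ ⊥ := by
  classical
  have h : Φ.A ^ᶜ a ∈ insert Φ.A Φ.collinear := by
    rw [Φ.points_eq c hS]; exact Φ.mem_points.2 ⟨a, rfl⟩
  simp only [Finset.mem_insert, hne, false_or, collinear, Finset.mem_biUnion] at h
  obtain ⟨l, hl, hp⟩ := h
  obtain ⟨⟨b, rfl⟩, hb⟩ := mem_meeting.1 hl
  exact ⟨b, hb, by rw [inf_comm]; exact (mem_meeting.1 (Finset.mem_erase.1 hp).2).2⟩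

end Counting

end Cfsg.Agent.Lib.L34Sylow67.Frame
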