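import Cfsg.Agent.Lib.L34Sylow67.Field

/-!
# Coordinates on a Sylow 2-subgroup of type `PSL(3,4)`

helper67.  Two elementary abelian subgroups of order 16, parametrised by `F × F`, meeting in the
common image of the first axis, the second acting on the first by shears.
-/

set_option autoImplicit false
set_option linter.unusedSectionVars false
set_option linter.style.haveILetI false

open Subgroup

namespace Cfsg.Agent.Lib.L34Sylow67

universe u v w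

variable {F : Type w} [Field F] [Fintype F] {G : Type u} [Group G]

/-- Coordinates of `S`. -/
structure Frame (F : Type w) [Field F] [Fintype F] (S : Subgroup G) where
  a : F × F → G
  b : F × F → G
  a_mem : ∀ v, a v ∈ S
  b_mem : ∀ v, b v ∈ S
  a_add : ∀ v v', a (v + v') = a v * a v'
  b_add : ∀ v v', b (v + v') = b v * b v'
  a_inj : Function.Injective a
  b_inj : Function.Injective b
  axis : ∀ x : F, a (x, 0) = b (x, 0)
  act : ∀ v w, b w * a v * (b w)⁻¹ = a (v.1 + w.2 * v.2, v.2)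
  four : IsFour F
  card : Nat.card ↥S = 64

namespace Frame

variable {S : Subgroup G} (Φ : Frame F S)

theorem a_zero : Φ.a 0 = 1 := by
  have h := Φ.a_add 0 0
  rw [add_zero] at h
  exact right_eq_mul.1 h

theorem b_zero : Φ.b 0 = 1 := by
  have h := Φ.b_add 0 0
  rw [add_zero] at h
  exact right_eq_mul.1 h

theorem a_comm (v v' : F × F) : Φ.a v * Φ.a v' = Φ.a v' * Φ.a v := by
  rw [← Φ.a_add, ← Φ.a_add, add_comm]

theorem b_comm (v v' : F × F) : Φ.b v * Φ.b v' = Φ.b v' * Φ.b v := by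
  rw [← Φ.b_add, ← Φ.b_add, add_comm]

include Φ in
theorem self_add (v : F × F) : v + v = 0 := Prod.ext (add_self Φ.four _) (add_self Φ.four _)

theorem a_sq (v : F × F) : Φ.a v * Φ.a v = 1 := by rw [← Φ.a_add, Φ.self_add, Φ.a_zero]

theorem b_sq (v : F × F) : Φ.b v * Φ.b v = 1 := by rw [← Φ.b_add, Φ.self_add, Φ.b_zero]

theorem a_inv (v : F × F) : (Φ.a v)⁻¹ = Φ.a v := inv_eq_of_mul_eq_one_right (Φ.a_sq v)

theorem b_inv (v : F × F) : (Φ.b v)⁻¹ = Φ.b v := inv_eq_of_mul_eq_one_right (Φ.b_sq v)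

/-- The first subgroup. -/
def A : Subgroup G where
  carrier := Set.range Φ.a
  one_mem' := ⟨0, Φ.a_zero⟩
  mul_mem' := by rintro _ _ ⟨v, rfl⟩ ⟨v', rfl⟩; exact ⟨v + v', Φ.a_add v v'⟩
  inv_mem' := by rintro _ ⟨v, rfl⟩; exact ⟨v, (Φ.a_inv v).symm⟩

/-- The second subgroup. -/
def B : Subgroup G where
  carrier := Set.range Φ.b
  one_mem' := ⟨0, Φ.b_zero⟩
  mul_mem' := by rintro _ _ ⟨v, rfl⟩ ⟨v', rfl⟩; exact ⟨v + v', Φ.b_add v v'⟩
  inv_mem' := by rintro _ ⟨v, rfl⟩; exact ⟨v, (Φ.b_inv v).symm⟩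

theorem A_le : Φ.A ≤ S := by rintro _ ⟨v, rfl⟩; exact Φ.a_mem v

theorem B_le : Φ.B ≤ S := by rintro _ ⟨v, rfl⟩; exact Φ.b_mem v

theorem card_A : Nat.card ↥Φ.A = 16 := by
  rw [← Nat.card_congr (Equiv.ofBijective (fun v => (⟨Φ.a v, v, rfl⟩ : ↥Φ.A))
    ⟨fun v v' e => Φ.a_inj (congrArg Subtype.val e), fun ⟨_, v, hv⟩ => ⟨v, Subtype.ext hv⟩⟩),
    Nat.card_eq_fintype_card, Fintype.card_prod, Φ.four]

/-- The action, the other way round. -/
theorem act' (v w : F × F) : Φ.a v * Φ.b w * (Φ.a v)⁻¹ = Φ.b (w.1 + v.2 * w.2, w.2) := by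
  have h := Φ.act v w
  have e1 : (v.1 + w.2 * v.2, v.2) = v + ((w.2 * v.2, 0) : F × F) := Prod.ext rfl (by simp)
  rw [e1, Φ.a_add, Φ.axis, Φ.b_inv] at h
  rw [Φ.a_inv]
  have e2 : ((w.1 + v.2 * w.2, w.2) : F × F) = (w.2 * v.2, 0) + w :=
    Prod.ext (show w.1 + v.2 * w.2 = w.2 * v.2 + w.1 by ring) (by simp)
  rw [e2, Φ.b_add]
  calc Φ.a v * Φ.b w * Φ.a v = Φ.a v * (Φ.b w * Φ.a v * Φ.b w) * Φ.b w := by
        rw [mul_assoc (Φ.a v) (Φ.b w * Φ.a v * Φ.b w), mul_assoc (Φ.b w * Φ.a v), Φ.b_sq, mul_one,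
          mul_assoc (Φ.a v)]
    _ = Φ.a v * Φ.a v * Φ.b (w.2 * v.2, 0) * Φ.b w := by rw [h]; group
    _ = Φ.b (w.2 * v.2, 0) * Φ.b w := by rw [Φ.a_sq, one_mul]

/-- The frame with the roles of the subgroups exchanged. -/
def symm : Frame F S where
  a := Φ.b
  b := Φ.a
  a_mem := Φ.b_mem
  b_mem := Φ.a_mem
  a_add := Φ.b_add
  b_add := Φ.a_add
  a_inj := Φ.b_inj
  b_inj := Φ.a_inj
  axis x := (Φ.axis x).symm
  act v w := Φ.act' w v
  four := Φ.four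
  card := Φ.card

@[simp] theorem symm_A : Φ.symm.A = Φ.B := rfl

@[simp] theorem symm_B : Φ.symm.B = Φ.A := rfl

theorem card_B : Nat.card ↥Φ.B = 16 := Φ.symm.card_A

/-- `a v = b w` only on the axis. -/
theorem a_eq_b {v w : F × F} (h : Φ.a v = Φ.b w) : v.2 = 0 ∧ w = v := by
  have hw : w.2 = 0 := by
    have e := Φ.act (0, 1) w
    rw [← h, Φ.a_comm, mul_inv_cancel_right] at e
    have e' := congrArg Prod.fst (Φ.a_inj e)
    simpa using e'.symm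
  have e : v = (w.1, 0) := Φ.a_inj (by
    rw [h, Φ.axis]
    exact congrArg Φ.b (Prod.ext rfl hw))
  exact ⟨by rw [e], by rw [e]; exact Prod.ext rfl hw⟩

theorem mem_B_iff {v : F × F} : Φ.a v ∈ Φ.B ↔ v.2 = 0 :=
  ⟨fun ⟨_, hw⟩ => (Φ.a_eq_b hw.symm).1, fun h => ⟨v, by
    rw [show v = (v.1, 0) from Prod.ext rfl h]; exact (Φ.axis _).symm⟩⟩

/-- Every element of `S` is a product. -/
theorem exists_eq {s : G} (hs : s ∈ S) : ∃ v : F × F, ∃ y : F, s = Φ.a v * Φ.b (0, y) := by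
  haveI : Finite ↥S := Nat.finite_of_card_ne_zero (by rw [Φ.card]; norm_num)
  let f : (F × F) × F → ↥S := fun p =>
    ⟨Φ.a p.1 * Φ.b (0, p.2), mul_mem (Φ.a_mem _) (Φ.b_mem _)⟩
  have hf : Function.Injective f := by
    rintro ⟨v, y⟩ ⟨v', y'⟩ e
    have e' : Φ.a v * Φ.b (0, y) = Φ.a v' * Φ.b (0, y') := congrArg Subtype.val e
    have e'' : Φ.a (v' + v) = Φ.b ((0, y') + (0, y)) := by
      rw [Φ.a_add, Φ.b_add]
      calc Φ.a v' * Φ.a v = Φ.a v' * (Φ.a v * Φ.b (0, y)) * Φ.b (0, y) := by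
            rw [← mul_assoc, mul_assoc (Φ.a v' * Φ.a v), Φ.b_sq, mul_one]
        _ = Φ.b (0, y') * Φ.b (0, y) := by rw [e', ← mul_assoc, Φ.a_sq, one_mul]
    obtain ⟨-, hw⟩ := Φ.a_eq_b e''
    have hy : y' + y = 0 := by
      have h2 := congrArg Prod.snd hw
      have h1 := (Φ.a_eq_b e'').1
      simp only [Prod.snd_add] at h1 h2
      rw [h2, h1]
    have hyy := eq_of_add_eq_zero Φ.four hy
    subst hyy
    rw [Φ.self_add] at hw
    have : v' = v := Prod.ext (eq_of_add_eq_zero Φ.four (congrArg Prod.fst hw.symm))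
      (eq_of_add_eq_zero Φ.four (congrArg Prod.snd hw.symm))
    rw [this]
  have hb := hf.bijective_of_nat_card_le (by
    rw [Φ.card, Nat.card_eq_fintype_card, Fintype.card_prod, Fintype.card_prod, Φ.four])
  obtain ⟨⟨v, y⟩, hvy⟩ := hb.2 ⟨s, hs⟩
  exact ⟨v, y, (congrArg Subtype.val hvy).symm⟩

/-- The conjugation action of `S` on the first subgroup. -/
theorem conj_a {s : G} (hs : s ∈ S) (v : F × F) : ∃ l : F,
    s * Φ.a v * s⁻¹ = Φ.a (v.1 + l * v.2, v.2) ∧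
      ∀ v' : F × F, s * Φ.a v' * s⁻¹ = Φ.a (v'.1 + l * v'.2, v'.2) := by
  obtain ⟨u, y, rfl⟩ := Φ.exists_eq hs
  have h : ∀ v' : F × F,
      Φ.a u * Φ.b (0, y) * Φ.a v' * (Φ.a u * Φ.b (0, y))⁻¹ = Φ.a (v'.1 + y * v'.2, v'.2) := by
    intro v'
    rw [show Φ.a u * Φ.b (0, y) * Φ.a v' * (Φ.a u * Φ.b (0, y))⁻¹ =
      Φ.a u * (Φ.b (0, y) * Φ.a v' * (Φ.b (0, y))⁻¹) * (Φ.a u)⁻¹ by group, Φ.act, Φ.a_comm,
      mul_inv_cancel_right]
  exact ⟨y, h v, h⟩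

theorem normal_A {s : G} (hs : s ∈ S) {x : G} (hx : x ∈ Φ.A) : s * x * s⁻¹ ∈ Φ.A := by
  obtain ⟨v, rfl⟩ := hx
  obtain ⟨l, hl, -⟩ := Φ.conj_a hs v
  exact ⟨_, hl.symm⟩

theorem normal_B {s : G} (hs : s ∈ S) {x : G} (hx : x ∈ Φ.B) : s * x * s⁻¹ ∈ Φ.B :=
  Φ.symm.normal_A hs hx

/-- The centre. -/
theorem axis_comm {s : G} (hs : s ∈ S) (x : F) : s * Φ.a (x, 0) = Φ.a (x, 0) * s := by
  obtain ⟨l, hl, -⟩ := Φ.conj_a hs (x, 0)
  rw [show ((x + l * 0, (0 : F)) : F × F) = (x, 0) by simp] at hl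
  exact mul_inv_eq_iff_eq_mul.1 hl

/-- The centraliser of an element of `A` outside the axis is `A`. -/
theorem mem_A_of_comm {s : G} (hs : s ∈ S) {v : F × F} (hv : v.2 ≠ 0)
    (h : s * Φ.a v = Φ.a v * s) : s ∈ Φ.A := by
  obtain ⟨u, y, rfl⟩ := Φ.exists_eq hs
  have e : Φ.b (0, y) * Φ.a v * (Φ.b (0, y))⁻¹ = Φ.a v := by
    rw [mul_inv_eq_iff_eq_mul]
    refine mul_left_cancel (a := Φ.a u) ?_
    rw [← mul_assoc, h, ← mul_assoc, ← mul_assoc, Φ.a_comm]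
  rw [Φ.act] at e
  have e' := congrArg Prod.fst (Φ.a_inj e)
  simp only [left_eq_add, add_eq_left, mul_eq_zero, hv, or_false] at e'
  rw [e', show ((0 : F), (0 : F)) = (0 : F × F) from rfl, Φ.b_zero, mul_one]
  exact ⟨u, rfl⟩

/-- The involutions lie in the two subgroups. -/
theorem invol {s : G} (hs : s ∈ S) (h : s * s = 1) : s ∈ Φ.A ∨ s ∈ Φ.B := by
  obtain ⟨u, y, rfl⟩ := Φ.exists_eq hs
  have e : Φ.b (0, y) * Φ.a u * (Φ.b (0, y))⁻¹ = Φ.a u := by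
    have e1 : (Φ.a u * Φ.b (0, y))⁻¹ = Φ.a u * Φ.b (0, y) := inv_eq_of_mul_eq_one_right h
    rw [mul_inv_rev, Φ.a_inv, Φ.b_inv] at e1
    rw [e1, mul_inv_cancel_right]
  rw [Φ.act] at e
  have e' := congrArg Prod.fst (Φ.a_inj e)
  simp only [add_eq_left, mul_eq_zero] at e'
  rcases e' with e' | e'
  · subst e'
    left
    rw [show ((0 : F), (0 : F)) = (0 : F × F) from rfl, Φ.b_zero, mul_one]
    exact ⟨u, rfl⟩
  · right
    exact mul_mem ((Φ.mem_B_iff).2 e') ⟨_, rfl⟩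

/-- The elementary abelian subgroups of order 16. -/
theorem eq_or_eq [Finite G] {E : Subgroup G} (hE : E ≤ S) (hsq : ∀ x ∈ E, x * x = 1)
    (h16 : 16 ≤ Nat.card ↥E) : E = Φ.A ∨ E = Φ.B := by
  have hsub : ∀ x ∈ E, x ∈ Φ.A ∨ x ∈ Φ.B := fun x hx => Φ.invol (hE hx) (hsq x hx)
  by_cases hA : E ≤ Φ.A
  · exact Or.inl (Subgroup.eq_of_le_of_card_ge hA (by rw [Φ.card_A]; exact h16))
  · refine Or.inr (Subgroup.eq_of_le_of_card_ge ?_ (by rw [Φ.card_B]; exact h16))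
    intro x hx
    by_contra hxB
    obtain ⟨y, hy, hyA⟩ := SetLike.not_le_iff_exists.1 hA
    have hxA := (hsub x hx).resolve_right hxB
    have hyB := (hsub y hy).resolve_left hyA
    rcases hsub (x * y) (mul_mem hx hy) with h | h
    · exact hyA ((Subgroup.mul_mem_cancel_left _ hxA).1 h)
    · exact hxB ((Subgroup.mul_mem_cancel_right _ hyB).1 h)

theorem A_ne_B : Φ.A ≠ Φ.B := fun h => by
  have : Φ.a (0, 1) ∈ Φ.B := h ▸ ⟨_, rfl⟩
  simp [Φ.mem_B_iff] at this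

/-- Transport along a homomorphism injective on `S`. -/
def map {H : Type v} [Group H] (f : G →* H) (hf : ∀ x ∈ S, f x = 1 → x = 1) :
    Frame F (S.map f) :=
  have hinj : ∀ x ∈ S, ∀ y ∈ S, f x = f y → x = y := fun x hx y hy e =>
    mul_inv_eq_one.1 (hf _ (mul_mem hx (inv_mem hy)) (by rw [map_mul, map_inv, e, mul_inv_cancel]))
  { a := fun v => f (Φ.a v)
    b := fun v => f (Φ.b v)
    a_mem := fun v => ⟨_, Φ.a_mem v, rfl⟩
    b_mem := fun v => ⟨_, Φ.b_mem v, rfl⟩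
    a_add := fun v v' => by rw [Φ.a_add, map_mul]
    b_add := fun v v' => by rw [Φ.b_add, map_mul]
    a_inj := fun v v' e => Φ.a_inj (hinj _ (Φ.a_mem v) _ (Φ.a_mem v') e)
    b_inj := fun v v' e => Φ.b_inj (hinj _ (Φ.b_mem v) _ (Φ.b_mem v') e)
    axis := fun x => congrArg f (Φ.axis x)
    act := fun v w => by rw [← map_inv, ← map_mul, ← map_mul, Φ.act]
    four := Φ.four
    card := by
      rw [← Φ.card]
      refine (Nat.card_congr (Equiv.ofBijective (fun x : ↥S => (⟨f x, x, x.2, rfl⟩ : ↥(S.map f)))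
        ⟨fun x y e => Subtype.ext (hinj _ x.2 _ y.2 (congrArg Subtype.val e)),
          fun ⟨_, x, hx, he⟩ => ⟨⟨x, hx⟩, Subtype.ext he⟩⟩)).symm }

/-- Transport along equal subgroups. -/
def congr {T : Subgroup G} (h : S = T) : Frame F T :=
  { Φ with a_mem := fun v => h ▸ Φ.a_mem v, b_mem := fun v => h ▸ Φ.b_mem v,
           card := h ▸ Φ.card }

end Frame

end Cfsg.Agent.Lib.L34Sylow67
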