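import Cfsg.Agent.Lib.CIT.PlaneRecog
import Cfsg.Agent.Lib.AutPSL.Card
import Mathlib.LinearAlgebra.Matrix.GeneralLinearGroup.Card

/-!
# Groups without subgroups of index 2 acting on the plane of order four

helper67.  The plane has at most `2 · |PGL(3,4)|` automorphisms, so such a group lies in
`PGL(3,4)`.
-/

set_option autoImplicit false
set_option linter.unusedSectionVars false
set_option linter.style.haveILetI false

open Subgroup
open Cfsg.Agent.Lib.CIT Cfsg.Agent.Lib.Golay.PSL34
open scoped Matrix Pointwise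

namespace Cfsg.Agent.Lib.L34Sylow67.PGL

/-- The general linear group. -/
abbrev GL34 : Type := GL (Fin 3) F4

theorem mulVec_ne (g : GL34) {v : Vec} (hv : v ≠ 0) :
    (g : Matrix (Fin 3) (Fin 3) F4) *ᵥ v ≠ 0 := by
  intro h
  apply hv
  have := congrArg (fun z => ((g⁻¹ : GL34) : Matrix (Fin 3) (Fin 3) F4) *ᵥ z) h
  simp only [Matrix.mulVec_zero, Matrix.mulVec_mulVec] at this
  rwa [← Units.val_mul, inv_mul_cancel, Units.val_one, Matrix.one_mulVec] at this

/-- The map on the 21 points. -/
def act (g : GL34) (i : Fin 21) : Fin 21 :=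
  idxV ((g : Matrix (Fin 3) (Fin 3) F4) *ᵥ vec i)

theorem act_mul (g h : GL34) (i : Fin 21) : act (g * h) i = act g (act h i) := by
  obtain ⟨c, hc, hv⟩ := exists_scalar _ (mulVec_ne h (vec_spec i).1)
  simp only [act, Units.val_mul, ← Matrix.mulVec_mulVec, hv, Matrix.mulVec_smul, idxV_smul c _ hc]

theorem act_one (i : Fin 21) : act 1 i = i := by simp [act, (vec_spec i).2]

/-- The action of `GL(3,4)` on the 21 points. -/
def hom : GL34 →* Equiv.Perm (Fin 21) where
  toFun g :=
    { toFun := act g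
      invFun := act g⁻¹
      left_inv := fun i => by rw [← act_mul, inv_mul_cancel, act_one]
      right_inv := fun i => by rw [← act_mul, mul_inv_cancel, act_one] }
  map_one' := Equiv.ext act_one
  map_mul' g h := Equiv.ext (act_mul g h)

theorem ker_hom : hom.ker = Subgroup.center GL34 := by
  ext g
  rw [MonoidHom.mem_ker]
  constructor
  · intro h
    have hfix : ∀ i, act g i = i := fun i => Equiv.congr_fun h i
    have hdiag : ∀ i j, i ≠ j → (g : Matrix (Fin 3) (Fin 3) F4) i j = 0 := by
      intro i j hij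
      have h1 := hfix (idxV (Pi.single j 1))
      rw [act, fixes_axis] at h1
      have h2 := axis_spec j _ (mulVec_ne g (by simp)) h1 i hij
      simpa using h2
    have hg : (g : Matrix (Fin 3) (Fin 3) F4) =
        Matrix.diagonal fun i => (g : Matrix (Fin 3) (Fin 3) F4) i i := by
      ext i j
      rcases eq_or_ne i j with rfl | hij
      · simp
      · simp [Matrix.diagonal_apply_ne _ hij, hdiag i j hij]
    obtain ⟨hb, hc⟩ := kernel_spec ((g : Matrix (Fin 3) (Fin 3) F4) 0 0)
      ((g : Matrix (Fin 3) (Fin 3) F4) 1 1) ((g : Matrix (Fin 3) (Fin 3) F4) 2 2) (fun i => by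
        have h1 := hfix i
        rw [act, hg] at h1
        conv_rhs => rw [← h1]
        congr 1
        funext k
        rw [Matrix.mulVec_diagonal]
        fin_cases k <;> rfl)
    refine AutPSL.mem_center_GL_of_scalar (c := (g : Matrix (Fin 3) (Fin 3) F4) 0 0) ?_
    rw [hg]
    ext i j
    rcases eq_or_ne i j with rfl | hij
    · fin_cases i <;> simp [← hb, ← hc]
    · simp [hij]
  · intro hg
    rw [Matrix.GeneralLinearGroup.center_eq_range_scalar] at hg
    obtain ⟨r, rfl⟩ := hg
    refine Equiv.ext fun i => ?_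
    change act _ i = i
    rw [act, show ((Matrix.GeneralLinearGroup.scalar (Fin 3) r : GL34) :
        Matrix (Fin 3) (Fin 3) F4) = Matrix.scalar (Fin 3) (r : F4) from rfl,
      Matrix.scalar_apply, show Matrix.diagonal (fun _ : Fin 3 => (r : F4)) *ᵥ vec i =
      (r : F4) • vec i from funext fun k => by rw [Matrix.mulVec_diagonal]; rfl,
      idxV_smul _ _ r.ne_zero, (vec_spec i).2]

theorem hom_mem (g : GL34) : hom g ∈ Cfsg.setSystemAut (Set.range lines34) := by
  rw [MulAction.mem_stabilizer_iff]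
  refine Set.eq_of_subset_of_ncard_le ?_ (by rw [Set.ncard_smul_set]) (Set.toFinite _)
  rintro _ ⟨_, ⟨j, rfl⟩, rfl⟩
  set M : Matrix (Fin 3) (Fin 3) F4 := ((g⁻¹ : GL34) : Matrix (Fin 3) (Fin 3) F4) with hM
  have hne : Mᵀ *ᵥ vec j ≠ 0 := fun h => (vec_spec j).1 (by
    have := congrArg (fun z => (g : Matrix (Fin 3) (Fin 3) F4)ᵀ *ᵥ z) h
    simp only [Matrix.mulVec_zero, Matrix.mulVec_mulVec, ← Matrix.transpose_mul, hM] at this
    rwa [← Units.val_mul, inv_mul_cancel, Units.val_one, Matrix.transpose_one,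
      Matrix.one_mulVec] at this)
  obtain ⟨c, hc, hv⟩ := exists_scalar _ hne
  refine ⟨idxV (Mᵀ *ᵥ vec j), ?_⟩
  ext k
  rw [Finset.mem_smul_finset]
  constructor
  · intro hk
    refine ⟨(hom g)⁻¹ k, ?_, by simp⟩
    rw [lines34, Finset.mem_filter] at hk ⊢
    refine ⟨Finset.mem_univ _, ?_⟩
    have hk2 := hk.2
    rw [hv, dot34_smul_left, mul_eq_zero] at hk2
    have hk3 := hk2.resolve_left hc
    rw [← dot34_mulVec] at hk3
    rw [← map_inv]
    obtain ⟨d, hd, hvd⟩ := exists_scalar _ (mulVec_ne g⁻¹ (vec_spec k).1)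
    show dot34 (vec j) (vec (act g⁻¹ k)) = 0
    rw [act, hvd, dot34_smul_right, hk3, mul_zero]
  · rintro ⟨i, hi, rfl⟩
    rw [lines34, Finset.mem_filter] at hi ⊢
    refine ⟨Finset.mem_univ _, ?_⟩
    obtain ⟨d, hd, hvd⟩ := exists_scalar _ (mulVec_ne g (vec_spec i).1)
    show dot34 (vec (idxV (Mᵀ *ᵥ vec j))) (vec (act g i)) = 0
    rw [act, hv, hvd, dot34_smul_left, dot34_smul_right, ← dot34_mulVec, Matrix.mulVec_mulVec, hM,
      ← Units.val_mul, inv_mul_cancel, Units.val_one,
      Matrix.one_mulVec, hi.2, mul_zero, mul_zero]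

theorem card_range : 60480 ≤ Nat.card ↥hom.range := by
  have hGL : Nat.card GL34 = 181440 := by
    rw [Matrix.card_GL_field, F4.card_eq, Fin.prod_univ_three]
    norm_num
  have hc : Nat.card ↥hom.ker ≤ 3 := by
    rw [ker_hom, Matrix.GeneralLinearGroup.center_eq_range_scalar]
    refine (Nat.card_le_card_of_surjective _
      (MonoidHom.rangeRestrict_surjective (Matrix.GeneralLinearGroup.scalar (R := F4) (Fin 3)))).trans ?_
    rw [Nat.card_units, Nat.card_eq_fintype_card, F4.card_eq]
  have h := hom.ker.card_mul_index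
  rw [Subgroup.index_ker, hGL] at h
  nlinarith [Nat.mul_le_mul_right (Nat.card ↥hom.range) hc]

/-- A group without subgroups of index 2 acting faithfully on a plane of order four. -/
theorem exists_embedding {G α : Type*} [Group G] [Fintype α] [DecidableEq α]
    (hα : Fintype.card α = 21) {L : Set (Finset α)} (hL : Cfsg.IsSteinerSystem 2 5 L)
    (φ : G →* Equiv.Perm α) (hφ : Function.Injective φ)
    (hmem : ∀ g, φ g ∈ Cfsg.setSystemAut L) (h2 : ∀ N : Subgroup G, N.index ≠ 2)
    {F : Type*} [Field F] [Fintype F] (hF : Fintype.card F = 4) :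
    ∃ f : G →* GL (Fin 3) F ⧸ Subgroup.center (GL (Fin 3) F), Function.Injective f := by
  classical
  obtain ⟨e, he⟩ := Cfsg.Agent.S5626.result hα (Fintype.card_fin 21) hL steiner34
  let ψ : G →* Equiv.Perm (Fin 21) := (Equiv.permCongrHom e).toMonoidHom.comp φ
  have hψ : Function.Injective ψ := (Equiv.permCongrHom e).injective.comp hφ
  set A := Cfsg.setSystemAut (Set.range lines34) with hA
  have hψA : ∀ g, ψ g ∈ A := by
    intro g
    rw [hA, MulAction.mem_stabilizer_iff]
    refine Set.eq_of_subset_of_ncard_le ?_ (by rw [Set.ncard_smul_set]) (Set.toFinite _)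
    rintro _ ⟨l, hl, rfl⟩
    rw [← he] at hl ⊢
    obtain ⟨b, hb, rfl⟩ := hl
    have hb' := Set.smul_mem_smul_set (a := φ g) hb
    rw [MulAction.mem_stabilizer_iff.1 (hmem g)] at hb'
    refine ⟨_, hb', ?_⟩
    ext x
    simp [ψ, Finset.mem_smul_finset]
  have hNA : hom.range ≤ A := by rintro _ ⟨g, rfl⟩; exact hom_mem g
  set N' := hom.range.subgroupOf A with hN'
  have hidx : N'.index ≤ 2 := by
    have h1 := N'.card_mul_index
    rw [Nat.card_congr (Subgroup.subgroupOfEquivOfLe hNA).toEquiv] at h1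
    have h2 := card_aut_le (Fintype.card_fin 21) steiner34
    rw [← hA, ← h1] at h2
    have h3 := card_range
    nlinarith [Nat.mul_le_mul_right N'.index h3]
  have hle : ∀ g, ψ g ∈ hom.range := by
    rcases Nat.lt_or_ge N'.index 2 with hi | hi
    · have : N' = ⊤ := Subgroup.index_eq_one.1 (by
        have := N'.index_ne_zero_of_finite
        omega)
      exact fun g => Subgroup.mem_subgroupOf.1 (this ▸ Subgroup.mem_top (⟨ψ g, hψA g⟩ : ↥A))
    · have hi2 : N'.index = 2 := le_antisymm hidx hi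
      by_contra hne
      push Not at hne
      obtain ⟨g₀, hg₀⟩ := hne
      refine h2 (N'.comap (ψ.codRestrict A hψA)) (Subgroup.index_eq_two_iff.2 ⟨g₀, fun b => ?_⟩)
      simp only [Subgroup.mem_comap, map_mul]
      rw [Subgroup.mul_mem_iff_of_index_two hi2, iff_false_right (show
        ψ.codRestrict A hψA g₀ ∉ N' from fun h => hg₀ (Subgroup.mem_subgroupOf.1 h))]
      tauto
  let σ : F4 ≃+* F := FiniteField.ringEquivOfCardEq (F4.card_eq.trans hF.symm)
  let eGL : GL34 ≃* GL (Fin 3) F := Units.mapEquiv σ.mapMatrix.toMulEquiv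
  let π : ↥hom.range ≃* GL (Fin 3) F ⧸ Subgroup.center (GL (Fin 3) F) :=
    ((QuotientGroup.quotientKerEquivRange hom).symm.trans
      (QuotientGroup.quotientMulEquivOfEq ker_hom)).trans
        (QuotientGroup.congr _ _ eGL (map_center eGL))
  exact ⟨π.toMonoidHom.comp (ψ.codRestrict hom.range hle),
    π.injective.comp fun a b h => hψ (congrArg Subtype.val h)⟩

end Cfsg.Agent.Lib.L34Sylow67.PGL
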