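import Cfsg.Agent.Lib.L34Sylow67.Plane
import Cfsg.Agent.Lib.L34Sylow67.PGL

/-!
# The plane case

helper67.  `G` acts faithfully on the plane.
-/

set_option autoImplicit false
set_option linter.unusedSectionVars false
set_option linter.style.haveILetI false

open Subgroup
open Cfsg.Agent.Lib.CIT Cfsg.Agent.Lib.CosetGraph.SylowIn
open scoped Pointwise

namespace Cfsg.Agent.Lib.L34Sylow67.Frame

universe u w

variable {G : Type u} [Group G] [Finite G] {F : Type w} [Field F] [Fintype F] {S : Subgroup G}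
  (Φ : Frame F S) (c : Φ.Geometry) {Sy : Sylow 2 G} (hS : (Sy : Subgroup G) = S)

include c hS

/-- The embedding in the plane case. -/
theorem exists_embedding (hO : Cfsg.oddCore G = ⊥) :
    ∃ f : G →* GL (Fin 3) F ⧸ Subgroup.center (GL (Fin 3) F), Function.Injective f := by
  classical
  haveI : Fintype G := Fintype.ofFinite G
  haveI : Fact (Nat.Prime 2) := ⟨Nat.prime_two⟩
  let Ω := {X : Subgroup G // ∃ g, X = Φ.A ^ᶜ g}
  letI : MulAction G Ω :=
    { smul := fun g X => ⟨X.1 ^ᶜ g, by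
        obtain ⟨h, hh⟩ := X.2; exact ⟨g * h, by rw [hh, conjSub_conjSub]⟩⟩
      one_smul := fun X => Subtype.ext (show X.1 ^ᶜ (1 : G) = X.1 from conj_map_one _)
      mul_smul := fun x y X => Subtype.ext (show X.1 ^ᶜ (x * y) = (X.1 ^ᶜ y) ^ᶜ x from
        (conjSub_conjSub _ _ _).symm) }
  haveI : Fintype Ω := Fintype.ofFinite _
  have hΩ : Fintype.card Ω = 21 := by
    rw [← Φ.card_points c hS, ← Fintype.card_coe Φ.points]
    exact Fintype.card_congr (Equiv.subtypeEquivRight fun X => Φ.mem_points.symm)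
  let o : Ω := ⟨Φ.A, 1, (conj_map_one _).symm⟩
  have hsmul : ∀ (g : G) (X : Ω), (g • X).1 = X.1 ^ᶜ g := fun _ _ => rfl
  haveI htrans : MulAction.IsPretransitive G Ω := (MulAction.isPretransitive_iff_base o).2 fun X => by
    obtain ⟨g, hg⟩ := X.2
    exact ⟨g, Subtype.ext hg.symm⟩
  let line : Subgroup G → Finset Ω := fun l => Finset.univ.filter fun X => X.1 ⊓ l ≠ ⊥
  let L : Set (Finset Ω) := {b | ∃ g, b = line (Φ.B ^ᶜ g)}
  have hline5 : ∀ b : G, (line (Φ.B ^ᶜ b)).card = 5 := by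
    intro b
    rw [← Φ.five_conj c hS (b := b)]
    refine Finset.card_bij (fun X _ => X.1) (fun X hX => ?_) (fun X _ Y _ e => Subtype.ext e) ?_
    · exact mem_meeting.2 ⟨X.2, by rw [inf_comm]; exact (Finset.mem_filter.1 hX).2⟩
    · intro X hX
      obtain ⟨h1, h2⟩ := mem_meeting.1 hX
      exact ⟨⟨X, h1⟩, Finset.mem_filter.2 ⟨Finset.mem_univ _, by rw [inf_comm]; exact h2⟩, rfl⟩
  have hmove : ∀ (g : G) (l : Subgroup G) (X : Ω), g • X ∈ line (l ^ᶜ g) ↔ X ∈ line l := by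
    intro g l X
    simp only [line, Finset.mem_filter, Finset.mem_univ, true_and, hsmul, ← conjSub_inf, ne_eq,
      conjSub_eq_bot]
  have hL : Cfsg.IsSteinerSystem 2 5 L := by
    refine ⟨?_, fun s hs => ?_⟩
    · rintro _ ⟨g, rfl⟩; exact hline5 g
    obtain ⟨X, Y, hXY, rfl⟩ := Finset.card_eq_two.1 hs
    obtain ⟨g, hg⟩ := MulAction.exists_smul_eq G o X
    obtain ⟨a, ha⟩ := (g⁻¹ • Y).2
    have hne : Φ.A ^ᶜ a ≠ Φ.A := by
      intro e
      refine hXY ?_
      have : g⁻¹ • Y = o := Subtype.ext (ha.trans e)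
      rw [← hg, ← this, smul_inv_smul]
    obtain ⟨b, hb1, hb2⟩ := Φ.exists_line c hS hne
    have hX : ∀ l, X ∈ line (l ^ᶜ g) ↔ Φ.A ⊓ l ≠ ⊥ := fun l => by
      rw [← hg, hmove]
      exact Finset.mem_filter.trans (and_iff_right (Finset.mem_univ _))
    have hY : ∀ l, Y ∈ line (l ^ᶜ g) ↔ Φ.A ^ᶜ a ⊓ l ≠ ⊥ := fun l => by
      rw [← smul_inv_smul g Y, hmove]; simp [line, ha]
    refine ⟨line ((Φ.B ^ᶜ b) ^ᶜ g), ⟨⟨g * b, by rw [conjSub_conjSub]⟩, ?_⟩, ?_⟩
    · rw [Finset.insert_subset_iff, Finset.singleton_subset_iff]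
      exact ⟨(hX _).2 hb1, (hY _).2 hb2⟩
    rintro _ ⟨⟨h, rfl⟩, hh⟩
    rw [Finset.insert_subset_iff, Finset.singleton_subset_iff] at hh
    have e : Φ.B ^ᶜ h = (Φ.B ^ᶜ (g⁻¹ * h)) ^ᶜ g := by rw [conjSub_conjSub, mul_inv_cancel_left]
    rw [e] at hh ⊢
    rw [hX, hY] at hh
    rw [Φ.line_unique c hS hne hh.1 hh.2 hb1 hb2]
  refine PGL.exists_embedding hΩ hL (MulAction.toPermHom G Ω) ?_ (fun g => ?_) c.noIndexTwo Φ.four
  · rw [← MonoidHom.ker_eq_bot_iff, eq_bot_iff]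
    set K := (MulAction.toPermHom G Ω).ker with hK
    rw [← hO]
    refine ZStar.Elements.le_oddCore ?_
    rw [← Nat.not_even_iff_odd]
    intro hev
    obtain ⟨u, hu⟩ := exists_prime_orderOf_dvd_card' (G := K) 2 (even_iff_two_dvd.1 hev)
    rw [← Subgroup.orderOf_coe] at hu
    obtain ⟨g₀, -, hgu, -⟩ := Φ.exists_flag c hS (t := (u : G))
      (by rw [← sq, ← hu, pow_orderOf_eq_one])
      (fun e => by rw [e, orderOf_one] at hu; norm_num at hu)
    obtain ⟨_, ⟨v₀, rfl⟩, hv₀⟩ := hgu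
    have hv₀K : Φ.a v₀ ∈ K := by
      have := Subgroup.Normal.conj_mem (inferInstance : K.Normal) _ u.2 g₀⁻¹
      rw [← hv₀] at this
      simpa [mul_assoc] using this
    have hv₀0 : v₀ ≠ 0 := fun e => by
      rw [e, Φ.a_zero, map_one] at hv₀
      rw [← hv₀, orderOf_one] at hu
      norm_num at hu
    have hAK : Φ.A ≤ K := by
      rintro _ ⟨v, rfl⟩
      rcases eq_or_ne v 0 with rfl | hv
      · rw [Φ.a_zero]; exact one_mem _
      obtain ⟨n, -, e⟩ := c.transA v₀ v hv₀0 hv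
      rw [← e]
      exact Subgroup.Normal.conj_mem inferInstance _ hv₀K n
    have hall : ∀ X : Ω, X = o := fun X => by
      obtain ⟨a, ha⟩ := X.2
      refine Subtype.ext (ha.trans (Φ.eq_of_le_normalizer c hS fun x hx => ?_))
      rw [mem_normalizer_iff_map, ← ha]
      exact congrArg (fun p : Equiv.Perm Ω => (p X).1) (MonoidHom.mem_ker.1 (hAK hx))
    have := Fintype.card_le_one_iff.2 fun X Y => (hall X).trans (hall Y).symm
    omega
  · rw [MulAction.mem_stabilizer_iff]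
    refine Set.eq_of_subset_of_ncard_le ?_ (by rw [Set.ncard_smul_set]) (Set.toFinite _)
    rintro _ ⟨_, ⟨h, rfl⟩, rfl⟩
    refine ⟨g * h, ?_⟩
    ext X
    rw [Finset.mem_smul_finset, ← conjSub_conjSub]
    constructor
    · rintro ⟨Y, hY, rfl⟩
      exact (hmove g _ Y).2 hY
    · intro hX
      exact ⟨g⁻¹ • X, (hmove g _ _).1 (by rw [smul_inv_smul]; exact hX), smul_inv_smul g X⟩

end Cfsg.Agent.Lib.L34Sylow67.Frame
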