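import Cfsg.Agent.Lib.L34Sylow67.Linear
import Cfsg.Agent.Lib.L34Sylow67.Frame

/-!
# The action of `N(A)` on `A`

helper67.  The coordinates can be chosen such that it is linear over the field with four elements.
-/

set_option autoImplicit false
set_option linter.unusedSectionVars false
set_option linter.style.haveILetI false

open Subgroup Equiv

namespace Cfsg.Agent.Lib.L34Sylow67

universe u w

variable {F : Type w} [Field F] [Fintype F] {G : Type u} [Group G] {S : Subgroup G}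

namespace Frame

variable (Φ : Frame F S)

/-- Conjugation by elements of `N(A)` is linear in the coordinates. -/
def Linear : Prop :=
  ∀ n ∈ normalizer (Φ.A : Set G), ∀ (l : F) (v v' : F × F),
    n * Φ.a v * n⁻¹ = Φ.a v' → n * Φ.a (l • v) * n⁻¹ = Φ.a (l • v')

/-- The coordinates of `A`. -/
noncomputable def coord : F × F ≃ ↥Φ.A :=
  Equiv.ofBijective (fun v => (⟨Φ.a v, v, rfl⟩ : ↥Φ.A))
    ⟨fun _ _ e => Φ.a_inj (congrArg Subtype.val e), fun ⟨_, v, hv⟩ => ⟨v, Subtype.ext hv⟩⟩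

theorem conj_mem {n : G} (hn : n ∈ normalizer (Φ.A : Set G)) (v : F × F) :
    n * Φ.a v * n⁻¹ ∈ Φ.A :=
  (Subgroup.mem_normalizer_iff.1 hn _).1 ⟨v, rfl⟩

/-- The image of a point. -/
noncomputable def img (n : ↥(normalizer (Φ.A : Set G))) (v : F × F) : F × F :=
  Φ.coord.symm ⟨(n : G) * Φ.a v * (n : G)⁻¹, Φ.conj_mem n.2 v⟩

theorem a_img (n : ↥(normalizer (Φ.A : Set G))) (v : F × F) :
    Φ.a (Φ.img n v) = (n : G) * Φ.a v * (n : G)⁻¹ :=
  congrArg Subtype.val (Φ.coord.apply_symm_apply ⟨_, Φ.conj_mem n.2 v⟩)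

theorem img_one (v : F × F) : Φ.img 1 v = v := Φ.a_inj (by rw [a_img]; simp)

theorem img_mul (n m : ↥(normalizer (Φ.A : Set G))) (v : F × F) :
    Φ.img (n * m) v = Φ.img n (Φ.img m v) :=
  Φ.a_inj (by rw [a_img, a_img, a_img, Subgroup.coe_mul]; group)

/-- The permutation action of `N(A)`. -/
noncomputable def act₀ : ↥(normalizer (Φ.A : Set G)) →* Perm (F × F) where
  toFun n := ⟨Φ.img n, Φ.img n⁻¹, fun v => by rw [← img_mul, inv_mul_cancel, img_one],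
    fun v => by rw [← img_mul, mul_inv_cancel, img_one]⟩
  map_one' := Perm.ext fun v => Φ.img_one v
  map_mul' n m := Perm.ext fun v => Φ.img_mul n m v

theorem a_act (n : ↥(normalizer (Φ.A : Set G))) (v : F × F) :
    Φ.a (Φ.act₀ n v) = (n : G) * Φ.a v * (n : G)⁻¹ := Φ.a_img n v

/-- The group induced on `A`. -/
noncomputable def X : Subgroup (Perm (F × F)) := Φ.act₀.range

theorem S_le_normalizer [Finite G] : S ≤ normalizer (Φ.A : Set G) := fun s hs =>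
  Subgroup.mem_normalizer_iff.2 fun x => ⟨fun hx => Φ.normal_A hs hx, fun hx => by
    have := Φ.normal_A (inv_mem hs) hx
    rwa [show s⁻¹ * (s * x * s⁻¹) * s⁻¹⁻¹ = x by group] at this⟩

theorem act_b [Finite G] (w : F × F) :
    Φ.act₀ ⟨Φ.b w, Φ.S_le_normalizer (Φ.b_mem w)⟩ = sh w.2 :=
  Perm.ext fun v => Φ.a_inj (by rw [a_act, sh_apply]; exact Φ.act v w)

include Φ in
theorem not_dvd_card [Finite G] (Sy : Sylow 2 G) (hS : (Sy : Subgroup G) = S) :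
    ¬ 128 ∣ Nat.card G := by
  haveI : Fact (Nat.Prime 2) := ⟨Nat.prime_two⟩
  intro hd
  have h1 := Sy.card_eq_multiplicity
  rw [hS, Φ.card, show (64 : ℕ) = 2 ^ 6 from rfl] at h1
  have h2 := Nat.pow_right_injective le_rfl h1
  have h3 := (Nat.prime_two.pow_dvd_iff_le_factorization Nat.card_pos.ne').1
    (show 2 ^ 7 ∣ Nat.card G from hd)
  omega

variable [Finite G] (Sy : Sylow 2 G) (hS : (Sy : Subgroup G) = S)
include hS

theorem small : Small Φ.X := by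
  refine ⟨?_, fun l => ⟨_, Φ.act_b (0, l)⟩, fun h8 => Φ.not_dvd_card Sy hS ?_⟩
  · rintro _ ⟨n, rfl⟩ v v'
    refine Φ.a_inj ?_
    rw [a_act, Φ.a_add, Φ.a_add, a_act, a_act]
    group
  · set N := normalizer (Φ.A : Set G)
    have h1 : 16 ∣ Nat.card ↥Φ.act₀.ker := by
      have hle : (Φ.A).subgroupOf N ≤ Φ.act₀.ker := fun x hx => by
        obtain ⟨v, hv⟩ := Subgroup.mem_subgroupOf.1 hx
        rw [MonoidHom.mem_ker]
        refine Perm.ext fun v' => Φ.a_inj ?_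
        rw [a_act, Perm.one_apply, ← hv, Φ.a_comm, mul_inv_cancel_right]
      have := Subgroup.card_dvd_of_le hle
      rwa [Nat.card_congr (Subgroup.subgroupOfEquivOfLe Subgroup.le_normalizer).toEquiv,
        Φ.card_A] at this
    refine dvd_trans ?_ (Subgroup.card_subgroup_dvd_card N)
    rw [← Φ.act₀.ker.card_mul_index, Subgroup.index_ker, show (128 : ℕ) = 16 * 8 from rfl]
    exact Nat.mul_dvd_mul h1 h8

/-- Frames that are linear on both sides exist. -/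
theorem exists_linear : ∃ Φ' : Frame F S, Φ'.A = Φ.A ∧ Φ'.B = Φ.B ∧
    Φ'.Linear ∧ Φ'.symm.Linear := by
  have step : ∀ Ψ : Frame F S, ∃ Ψ' : Frame F S, Ψ'.A = Ψ.A ∧ Ψ'.b = Ψ.b ∧ Ψ'.Linear := by
    intro Ψ
    obtain ⟨q, hq, -⟩ := (Ψ.small Sy hS).exists_linear Ψ.four
    have hτ : ∀ v, tau q (tau q v) = v := fun v => by
      rw [← Perm.mul_apply, tau_mul_self Ψ.four]; rfl
    refine ⟨{ Ψ with
      a := fun v => Ψ.a (tau q v)
      a_mem := fun v => Ψ.a_mem _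
      a_add := fun v v' => by rw [tau_add_apply, Ψ.a_add]
      a_inj := fun v v' e => (tau q).injective (Ψ.a_inj e)
      axis := fun x => by
        show Ψ.a (tau q (x, 0)) = _
        rw [show tau q (x, 0) = ((x, 0) : F × F) by simp]
        exact Ψ.axis x
      act := fun v w => by
        show Ψ.b w * Ψ.a (tau q v) * (Ψ.b w)⁻¹ = Ψ.a (tau q (v.1 + w.2 * v.2, v.2))
        rw [Ψ.act]
        exact congrArg Ψ.a (Prod.ext (by simp only [tau_apply]; ring) rfl) }, ?_, rfl, ?_⟩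
    · ext x
      exact ⟨fun ⟨v, hv⟩ => ⟨_, hv⟩, fun ⟨v, hv⟩ => ⟨tau q v, by
        show Ψ.a (tau q (tau q v)) = x
        rw [hτ]; exact hv⟩⟩
    · intro n hn l v v' e
      have hA : n ∈ normalizer (Ψ.A : Set G) := by
        refine Subgroup.mem_normalizer_iff.2 fun x => ?_
        have hmem : ∀ y, y ∈ Ψ.A ↔ ∃ v, Ψ.a (tau q v) = y := fun y =>
          ⟨fun ⟨v, hv⟩ => ⟨tau q v, by rw [hτ]; exact hv⟩, fun ⟨v, hv⟩ => ⟨_, hv⟩⟩
        rw [hmem, hmem]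
        exact Subgroup.mem_normalizer_iff.1 hn x
      show n * Ψ.a (tau q (l • v)) * n⁻¹ = Ψ.a (tau q (l • v'))
      change n * Ψ.a (tau q v) * n⁻¹ = Ψ.a (tau q v') at e
      have hg := hq _ ⟨⟨n, hA⟩, rfl⟩
      rw [← Ψ.a_act ⟨n, hA⟩] at e ⊢
      have e' := Ψ.a_inj e
      refine congrArg Ψ.a ?_
      have h1 := hg l v
      simp only [Perm.mul_apply] at h1
      rw [e', hτ] at h1
      rw [← h1, hτ]
  obtain ⟨Φ₁, hA₁, hb₁, hl₁⟩ := step Φ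
  obtain ⟨Φ₂, hB₂, ha₂, hl₂⟩ := step Φ₁.symm
  have hB : Φ₁.B = Φ.B := by
    ext x
    exact ⟨fun ⟨v, hv⟩ => ⟨v, by rwa [hb₁] at hv⟩, fun ⟨v, hv⟩ => ⟨v, by rwa [hb₁]⟩⟩
  have hA : Φ₂.symm.A = Φ₁.A := by
    ext x
    exact ⟨fun ⟨v, hv⟩ => ⟨v, by rwa [show Φ₂.symm.a = Φ₁.a from ha₂] at hv⟩,
      fun ⟨v, hv⟩ => ⟨v, by rwa [show Φ₂.symm.a = Φ₁.a from ha₂]⟩⟩
  refine ⟨Φ₂.symm, hA.trans hA₁, hB₂.trans hB, ?_, hl₂⟩
  intro n hn l v v' e
  rw [hA] at hn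
  simp only [show Φ₂.symm.a = Φ₁.a from ha₂] at e ⊢
  exact hl₁ n hn l v v' e

/-- An element of `N(A)` mapping a non-trivial element of the axis into the axis stabilises it. -/
theorem axis_stable {n : G} (hn : n ∈ normalizer (Φ.A : Set G)) {z : F} (hz : z ≠ 0)
    (h : n * Φ.a (z, 0) * n⁻¹ ∈ Φ.B) (x : F) : n * Φ.a (x, 0) * n⁻¹ ∈ Φ.B := by
  have hm : ∀ y : F, n * Φ.a (y, 0) * n⁻¹ ∈ Φ.B ↔ (Φ.act₀ ⟨n, hn⟩ (y, 0)).2 = 0 := fun y => by
    rw [← Φ.a_act ⟨n, hn⟩, Φ.mem_B_iff]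
  exact (hm x).2 ((Φ.small Sy hS).fix0_of_meet Φ.four ⟨_, rfl⟩ hz ((hm z).1 h) x)

/-- An element of `N(A)` stabilising the axis normalises the action of `S`. -/
theorem conj_b {n : G} (hn : n ∈ normalizer (Φ.A : Set G))
    (h : ∀ x : F, n * Φ.a (x, 0) * n⁻¹ ∈ Φ.B) {s : G} (hs : s ∈ S) :
    ∃ s' ∈ S, n * s * n⁻¹ * s'⁻¹ ∈ centralizer (Φ.A : Set G) := by
  obtain ⟨u, y, rfl⟩ := Φ.exists_eq hs
  have hfix : Fix0 (Φ.act₀ ⟨n, hn⟩) := fun x => by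
    have := h x
    rwa [← Φ.a_act ⟨n, hn⟩, Φ.mem_B_iff] at this
  obtain ⟨m, hm⟩ := (Φ.small Sy hS).conj_shear Φ.four ⟨_, rfl⟩ hfix y
  refine ⟨Φ.b (0, m), Φ.b_mem _, Subgroup.mem_centralizer_iff.2 ?_⟩
  have hsN := Φ.S_le_normalizer hs
  have hbN := Φ.S_le_normalizer (Φ.b_mem (0, m))
  have hin : n * (Φ.a u * Φ.b (0, y)) * n⁻¹ * (Φ.b (0, m))⁻¹ ∈ normalizer (Φ.A : Set G) :=
    mul_mem (mul_mem (mul_mem hn hsN) (inv_mem hn)) (inv_mem hbN)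
  have hau : Φ.act₀ ⟨Φ.a u, Φ.S_le_normalizer (Φ.a_mem u)⟩ = 1 := by
    refine Perm.ext fun v => Φ.a_inj ?_
    rw [a_act, Perm.one_apply, Φ.a_comm, mul_inv_cancel_right]
  have e : Φ.act₀ ⟨_, hin⟩ = 1 := by
    have eq1 : (⟨_, hin⟩ : ↥(normalizer (Φ.A : Set G))) =
        ⟨n, hn⟩ * (⟨Φ.a u, Φ.S_le_normalizer (Φ.a_mem u)⟩ *
          ⟨Φ.b (0, y), Φ.S_le_normalizer (Φ.b_mem _)⟩) * (⟨n, hn⟩)⁻¹ *
          (⟨Φ.b (0, m), hbN⟩)⁻¹ := Subtype.ext (by simp)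
    rw [eq1]
    simp only [map_mul, map_inv, hau, one_mul, act_b]
    rw [hm, mul_inv_cancel]
  rintro _ ⟨v, rfl⟩
  have e2 := Φ.a_act ⟨_, hin⟩ v
  rw [e, Perm.one_apply] at e2
  exact eq_mul_inv_iff_mul_eq.1 e2

/-- If the axis is moved, `N(A)` is transitive on non-trivial elements of `A`. -/
theorem trans (hlin : Φ.Linear) {n : G} (hn : n ∈ normalizer (Φ.A : Set G)) {z : F}
    (hne : n * Φ.a (z, 0) * n⁻¹ ∉ Φ.B) {v v' : F × F} (hv : v ≠ 0) (hv' : v' ≠ 0) :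
    ∃ m ∈ normalizer (Φ.A : Set G), m * Φ.a v * m⁻¹ = Φ.a v' := by
  classical
  have h := Φ.small Sy hS
  have hl : ∀ g ∈ Φ.X, IsLin g := by
    rintro _ ⟨⟨m, hm⟩, rfl⟩ l x
    exact Φ.a_inj ((Φ.a_act _ _).trans (hlin m hm l x _ (Φ.a_act ⟨m, hm⟩ x).symm))
  set g₀ := Φ.act₀ ⟨n, hn⟩ with hg₀
  have hg₀X : g₀ ∈ Φ.X := ⟨_, rfl⟩
  have hmove : (g₀ (z, 0)).2 ≠ 0 := fun e => hne (by rw [← Φ.a_act ⟨n, hn⟩, Φ.mem_B_iff]; exact e)
  set g := sh ((g₀ (z, 0)).1 / (g₀ (z, 0)).2) * g₀ with hg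
  have hgX : g ∈ Φ.X := mul_mem (h.shear _) hg₀X
  have hz : z ≠ 0 := fun e => hmove (by
    rw [e, show ((0 : F), (0 : F)) = (0 : F × F) from rfl, h.map_zero hg₀X]; rfl)
  obtain ⟨r, hr0, hgr⟩ : ∃ r : F, r ≠ 0 ∧ g (1, 0) = (0, r) := by
    refine ⟨z⁻¹ * (g₀ (z, 0)).2, mul_ne_zero (inv_ne_zero hz) hmove, ?_⟩
    rw [show ((1 : F), (0 : F)) = z⁻¹ • ((z, 0) : F × F) from
      Prod.ext (by simp [inv_mul_cancel₀ hz]) (by simp), hl g hgX, hg, Perm.mul_apply, sh_apply,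
      Prod.smul_mk, smul_eq_mul, smul_eq_mul, div_mul_cancel₀ _ hmove, add_self Φ.four, mul_zero]
  have hgax : ∀ c : F, g (c, 0) = (0, c * r) := fun c => by
    rw [show ((c, (0 : F)) : F × F) = c • ((1, 0) : F × F) from Prod.ext (by simp) (by simp),
      hl g hgX, hgr]
    simp
  -- every point with non-zero second coordinate is an image of `(1, 0)`
  have hoff : ∀ w : F × F, w.2 ≠ 0 → ∃ k ∈ Φ.X, k (1, 0) = w := by
    intro w hw
    have hs : (g⁻¹ (1, 0)).2 ≠ 0 := by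
      intro e
      have e' : g⁻¹ (1, 0) = ((g⁻¹ (1, 0)).1, 0) := Prod.ext rfl e
      have := congrArg g e'
      rw [hgax] at this
      simpa using congrArg Prod.fst this
    set l := w.2 / ((g⁻¹ (1, 0)).2 * r) with hl'
    have hy : (g * sh l * g⁻¹) (1, 0) = (1, w.2) := by
      rw [Perm.mul_apply, Perm.mul_apply,
        show sh l (g⁻¹ (1, 0)) = g⁻¹ (1, 0) + (l * (g⁻¹ (1, 0)).2, 0) from Prod.ext rfl (by simp),
        h.add g hgX, hgax, hl', div_mul_eq_mul_div, div_mul_eq_mul_div, mul_assoc,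
        mul_div_assoc, div_self (mul_ne_zero hs hr0), mul_one]
      simp
    refine ⟨sh (w.1 / w.2) * sh (w.2)⁻¹ * (g * sh l * g⁻¹), mul_mem (mul_mem (h.shear _)
      (h.shear _)) (mul_mem (mul_mem hgX (h.shear _)) (inv_mem hgX)), ?_⟩
    rw [Perm.mul_apply, hy, Perm.mul_apply, sh_apply, sh_apply]
    refine Prod.ext ?_ rfl
    simp only
    rw [inv_mul_cancel₀ hw, add_self Φ.four, zero_add, div_mul_cancel₀ _ hw]
  have hall : ∀ w : F × F, w ≠ 0 → ∃ k ∈ Φ.X, k (1, 0) = w := by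
    intro w hw
    by_cases h2 : w.2 = 0
    · obtain ⟨k, hk, hk'⟩ := hoff (g w) (by
        rw [show w = (w.1, 0) from Prod.ext rfl h2, hgax]
        exact mul_ne_zero (fun e => hw (Prod.ext e h2)) hr0)
      exact ⟨g⁻¹ * k, mul_mem (inv_mem hgX) hk, by rw [Perm.mul_apply, hk']; simp⟩
    · exact hoff w h2
  obtain ⟨_, ⟨⟨k, hk⟩, rfl⟩, e⟩ := hall v hv
  obtain ⟨_, ⟨⟨k', hk'⟩, rfl⟩, e'⟩ := hall v' hv'
  refine ⟨k' * k⁻¹, mul_mem hk' (inv_mem hk), ?_⟩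
  rw [← e, ← e', a_act, a_act]
  group

end Frame

end Cfsg.Agent.Lib.L34Sylow67
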