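import Mathlib

/-!
# A four-group acting on a group of odd order

helper67.  The group is generated by the centralisers of the three involutions.
-/

set_option autoImplicit false

namespace Cfsg.Agent.Lib.L34Sylow67

universe u

variable {G : Type u} [Group G] {R : Subgroup G} [Finite ↥R]

/-- The square root in a group of odd order. -/
noncomputable def root (R : Subgroup G) (x : G) : G := x ^ ((Nat.card ↥R + 1) / 2)

theorem root_mem {x : G} (hx : x ∈ R) : root R x ∈ R := pow_mem hx _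

theorem root_sq (hR : Odd (Nat.card ↥R)) {x : G} (hx : x ∈ R) : root R x * root R x = x := by
  have h1 : x ^ Nat.card ↥R = 1 :=
    orderOf_dvd_iff_pow_eq_one.1 (Subgroup.orderOf_dvd_natCard R hx)
  obtain ⟨j, hj⟩ := hR
  rw [root, ← pow_add, hj, show (2 * j + 1 + 1) / 2 + (2 * j + 1 + 1) / 2 = 2 * j + 1 + 1 by omega,
    pow_succ, ← hj, h1, one_mul]

theorem root_mul_self (hR : Odd (Nat.card ↥R)) {x : G} (hx : x ∈ R) : root R (x * x) = x := by
  have h1 : x ^ Nat.card ↥R = 1 :=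
    orderOf_dvd_iff_pow_eq_one.1 (Subgroup.orderOf_dvd_natCard R hx)
  obtain ⟨j, hj⟩ := hR
  rw [root, ← pow_two, ← pow_mul, hj,
    show 2 * ((2 * j + 1 + 1) / 2) = 2 * j + 1 + 1 by omega, pow_succ, ← hj, h1, one_mul]

theorem root_inv (x : G) : root R x⁻¹ = (root R x)⁻¹ := inv_pow _ _

theorem root_conj (v x : G) : root R (v * x * v⁻¹) = v * root R x * v⁻¹ := conj_pow

variable (hR : Odd (Nat.card ↥R))
include hR

/-- An element is a product of a fixed and an inverted one. -/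
theorem exists_fixed_mul_inverted {v : G} (hv : v * v = 1)
    (hvR : ∀ r ∈ R, v * r * v⁻¹ ∈ R) {k : G} (hk : k ∈ R) :
    ∃ c ∈ R, ∃ i ∈ R, k = c * i ∧ v * c * v⁻¹ = c ∧ v * i * v⁻¹ = i⁻¹ := by
  set x := (v * k * v⁻¹)⁻¹ * k with hx
  have hxR : x ∈ R := mul_mem (inv_mem (hvR k hk)) hk
  have hvi : v⁻¹ = v := inv_eq_of_mul_eq_one_right hv
  have hvx : v * x * v⁻¹ = x⁻¹ := by
    rw [hx]
    calc v * ((v * k * v⁻¹)⁻¹ * k) * v⁻¹ = (v * v) * k⁻¹ * v⁻¹ * k * v⁻¹ := by group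
      _ = k⁻¹ * v * k * v⁻¹ := by rw [hv, one_mul, hvi]
      _ = _ := by group
  set i := root R x with hi
  have hiR : i ∈ R := root_mem hxR
  have hvi' : v * i * v⁻¹ = i⁻¹ := by rw [hi, ← root_conj, hvx, root_inv]
  refine ⟨k * i⁻¹, mul_mem hk (inv_mem hiR), i, hiR, (inv_mul_cancel_right k i).symm, ?_, hvi'⟩
  calc v * (k * i⁻¹) * v⁻¹ = v * k * v⁻¹ * (v * i * v⁻¹)⁻¹ := by group
    _ = v * k * v⁻¹ * i := by rw [hvi', inv_inv]
    _ = k * ((v * k * v⁻¹)⁻¹ * k)⁻¹ * i := by group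
    _ = k * (i * i)⁻¹ * i := by rw [← hx, hi, root_sq hR hxR]
    _ = k * i⁻¹ := by group

/-- The decomposition is unique. -/
theorem decomp_unique {w c i c' i' : G} (hi : i ∈ R) (hi' : i' ∈ R) (hc : w * c * w⁻¹ = c)
    (hc' : w * c' * w⁻¹ = c') (hiw : w * i * w⁻¹ = i⁻¹) (hiw' : w * i' * w⁻¹ = i'⁻¹)
    (h : c * i = c' * i') : c = c' ∧ i = i' := by
  have e : ∀ a b : G, w * a * w⁻¹ = a → w * b * w⁻¹ = b⁻¹ →
      (w * (a * b) * w⁻¹)⁻¹ * (a * b) = b * b := fun a b ha hb => by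
    rw [show w * (a * b) * w⁻¹ = (w * a * w⁻¹) * (w * b * w⁻¹) by group, ha, hb]
    group
  have h1 := e c i hc hiw
  rw [h, e c' i' hc' hiw'] at h1
  have h2 := congrArg (root R) h1
  rw [root_mul_self hR hi', root_mul_self hR hi] at h2
  subst h2
  exact ⟨mul_right_cancel h, rfl⟩

/-- A group of odd order normalised by a four-group lies in any subgroup containing the three
centralisers. -/
theorem le_of_centralizers {v w : G} (hv : v * v = 1) (hw : w * w = 1) (hvw : v * w = w * v)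
    (hvR : ∀ r ∈ R, v * r * v⁻¹ ∈ R) (hwR : ∀ r ∈ R, w * r * w⁻¹ ∈ R) {P : Subgroup G}
    (h1 : ∀ r ∈ R, v * r * v⁻¹ = r → r ∈ P) (h2 : ∀ r ∈ R, w * r * w⁻¹ = r → r ∈ P)
    (h3 : ∀ r ∈ R, (v * w) * r * (v * w)⁻¹ = r → r ∈ P) : R ≤ P := by
  intro k hk
  obtain ⟨c, hc, i, hi, rfl, hvc, hvi⟩ := exists_fixed_mul_inverted hR hv hvR hk
  refine mul_mem (h1 c hc hvc) ?_
  obtain ⟨c', hc', i', hi', hci, hwc, hwi⟩ := exists_fixed_mul_inverted hR hw hwR hi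
  have hswap : ∀ g : G, w * (v * g * v⁻¹) * w⁻¹ = v * (w * g * w⁻¹) * v⁻¹ := fun g => by
    calc w * (v * g * v⁻¹) * w⁻¹ = (w * v) * g * (w * v)⁻¹ := by group
      _ = (v * w) * g * (v * w)⁻¹ := by rw [hvw]
      _ = _ := by group
  -- `v` inverts `c'`
  have hvc' : v * c' * v⁻¹ = c'⁻¹ := by
    refine (decomp_unique hR (hvR i' hi') (mul_mem (mul_mem hc' (inv_mem hi')) (inv_mem hc'))
      (w := w) (c := v * c' * v⁻¹) (c' := c'⁻¹) ?_ ?_ ?_ ?_ ?_).1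
    · rw [hswap, hwc]
    · rw [show w * c'⁻¹ * w⁻¹ = (w * c' * w⁻¹)⁻¹ by group, hwc]
    · rw [hswap, hwi]; group
    · rw [show w * (c' * i'⁻¹ * c'⁻¹) * w⁻¹ =
          (w * c' * w⁻¹) * (w * i' * w⁻¹)⁻¹ * (w * c' * w⁻¹)⁻¹ by group, hwc, hwi]
      group
    · rw [show v * c' * v⁻¹ * (v * i' * v⁻¹) = v * (c' * i') * v⁻¹ by group, ← hci, hvi, hci]
      group
  set d := root R c' with hd
  have hdR : d ∈ R := root_mem hc'
  have hwd : w * d * w⁻¹ = d := by rw [hd, ← root_conj, hwc]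
  have hvd : v * d * v⁻¹ = d⁻¹ := by rw [hd, ← root_conj, hvc', root_inv]
  set e := d⁻¹ * i * d⁻¹ with he
  have heR : e ∈ R := mul_mem (mul_mem (inv_mem hdR) hi) (inv_mem hdR)
  have hve : v * e * v⁻¹ = e⁻¹ := by
    rw [show v * e * v⁻¹ = (v * d * v⁻¹)⁻¹ * (v * i * v⁻¹) * (v * d * v⁻¹)⁻¹ by
      rw [he]; group, hvd, hvi, he]
    group
  have hwe : w * e * w⁻¹ = e⁻¹ := by
    have hwi2 : w * i * w⁻¹ = c' * i'⁻¹ := by
      rw [hci, show w * (c' * i') * w⁻¹ = (w * c' * w⁻¹) * (w * i' * w⁻¹) by group, hwc, hwi]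
    have hi'' : i'⁻¹ = i⁻¹ * (d * d) := by rw [hd, root_sq hR hc', hci]; group
    rw [show w * e * w⁻¹ = (w * d * w⁻¹)⁻¹ * (w * i * w⁻¹) * (w * d * w⁻¹)⁻¹ by
      rw [he]; group, hwd, hwi2, hi'', ← root_sq hR hc', ← hd, he]
    group
  have hfix : (v * w) * e * (v * w)⁻¹ = e := by
    rw [show (v * w) * e * (v * w)⁻¹ = v * (w * e * w⁻¹) * v⁻¹ by group, hwe,
      show v * e⁻¹ * v⁻¹ = (v * e * v⁻¹)⁻¹ by group, hve, inv_inv]
  rw [show i = d * e * d by rw [he]; group]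
  exact mul_mem (mul_mem (h2 d hdR hwd) (h3 e heR hfix)) (h2 d hdR hwd)

end Cfsg.Agent.Lib.L34Sylow67
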