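import Cfsg.Agent.Lib.L34Sylow67.Local
import Cfsg.Agent.Lib.L34Sylow67.Coprime
import Cfsg.Agent.Lib.Goldschmidt53.Facts
import Cfsg.Agent.Lib.Goldschmidt53.Local
import Cfsg.Agent.Lib.PGroups.Omega

/-!
# A strongly closed subgroup of order 16 is normal

helper67.  In a group without odd core with a Sylow 2-subgroup of type `PSL(3,4)`, a strongly
closed `A` is not involved in any component, so it lies in `O₂` (modulo Goldschmidt's theorem
for simple groups).
-/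

set_option autoImplicit false
set_option linter.unusedSectionVars false
set_option linter.style.haveILetI false

open Subgroup Equiv

namespace Cfsg.Agent.Lib.L34Sylow67

open Goldschmidt53 (PropSimple Om)

universe u w

/-- A central 2-element of a perfect group with abelian Sylow 2-subgroup is trivial. -/
theorem central_eq_one_of_perfect {K : Type u} [Group K] [Finite K] (hp : Group.IsPerfect K)
    (T : Sylow 2 K) (hT : IsMulCommutative ↥(T : Subgroup K)) {z : K}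
    (hz : z ∈ Subgroup.center K) (hzT : z ∈ (T : Subgroup K)) : z = 1 := by
  haveI : Fact (Nat.Prime 2) := ⟨Nat.prime_two⟩
  letI : CommGroup ↥(T : Subgroup K) :=
    { (inferInstance : Group ↥(T : Subgroup K)) with mul_comm := fun a b => hT.is_comm.comm a b }
  let ψ : K →* ↥(T : Subgroup K) := MonoidHom.transfer (MonoidHom.id _)
  have hψ : ψ z = 1 := by
    have hle : _root_.commutator K ≤ ψ.ker := Abelianization.commutator_subset_ker ψ
    rw [hp.commutator_eq_top] at hle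
    exact MonoidHom.mem_ker.1 (hle (mem_top z))
  have hψ' := MonoidHom.transfer_eq_pow (MonoidHom.id ↥(T : Subgroup K)) z fun k g₀ _ => by
    have := Subgroup.mem_center_iff.1 (pow_mem hz k) g₀⁻¹
    rw [this, inv_mul_cancel_right]
  rw [show MonoidHom.transfer (MonoidHom.id ↥(T : Subgroup K)) z = ψ z from rfl, hψ,
    MonoidHom.id_apply] at hψ'
  have h1 : z ^ (T : Subgroup K).index = 1 := (congrArg Subtype.val hψ').symm
  obtain ⟨j, hj⟩ := IsPGroup.iff_orderOf.1 T.2 ⟨z, hzT⟩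
  rw [Subgroup.orderOf_mk] at hj
  refine orderOf_eq_one_iff.1 ?_
  have h2 : orderOf z ∣ (T : Subgroup K).index := orderOf_dvd_of_pow_eq_one h1
  exact Nat.eq_one_of_dvd_coprimes
    (Nat.Coprime.pow_left j ((Nat.Prime.coprime_iff_not_dvd Nat.prime_two).2 T.not_dvd_index))
    (dvd_of_eq hj) h2

namespace Frame

variable {G : Type u} [Group G] [Finite G] {F : Type w} [Field F] [Fintype F] {S : Subgroup G}
  (Φ : Frame F S) {Sy : Sylow 2 G} (hS : (Sy : Subgroup G) = S)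

theorem elem_A : Cfsg.IsElementaryAbelian 2 Φ.A :=
  ⟨⟨⟨fun ⟨_, v, hv⟩ ⟨_, v', hv'⟩ => Subtype.ext (hv ▸ hv' ▸ Φ.a_comm v v')⟩⟩,
    fun _ ⟨v, hv⟩ => by rw [← hv, sq, Φ.a_sq]⟩

/-- The commutator of `a v` and `b w`. -/
theorem comm_eq (v : F × F) (w : F × F) :
    Φ.b w * Φ.a v * (Φ.b w)⁻¹ * (Φ.a v)⁻¹ = Φ.a (w.2 * v.2, 0) := by
  rw [Φ.act, show ((v.1 + w.2 * v.2, v.2) : F × F) = (w.2 * v.2, 0) + v from
    Prod.ext (show v.1 + w.2 * v.2 = w.2 * v.2 + v.1 by ring) (by simp), Φ.a_add,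
    mul_inv_cancel_right]

variable (hP : PropSimple.{u}) (hO : Cfsg.oddCore G = ⊥)
  (hA : Cfsg.IsStronglyClosed Φ.A S)
include hS hP hO hA

theorem setting : Goldschmidt53.LocalSetting Sy Φ.A (Nat.card G + 1) :=
  ⟨hO, Nat.lt_succ_self _, hP _, Φ.elem_A, hS ▸ hA⟩

theorem decomp_A : Goldschmidt53.Decomp Φ.A :=
  Goldschmidt53.local_ Goldschmidt53.facts G _ hO (Nat.lt_succ_self _) (hP _) Sy Φ.A Φ.elem_A
    (hS ▸ hA)

variable {K : Subgroup G} (hK : Cfsg.IsComponent K)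
  (hKA : ¬ Φ.A ≤ centralizer (K : Set G))
include hK

/-- The centre of a component lies in `S`. -/
theorem center_le {z : ↥K} (hz : z ∈ Subgroup.center ↥K) : (z : G) ∈ S :=
  hS ▸ (Φ.setting hS hP hO hA).center_mem_sylow hK hz

/-- Elements of `K` centralising `K` are central. -/
theorem center_of_comm {x : G} (hx : x ∈ K) (hc : ∀ k ∈ K, x * k = k * x) :
    (⟨x, hx⟩ : ↥K) ∈ Subgroup.center ↥K :=
  Subgroup.mem_center_iff.2 fun k => Subtype.ext (hc k k.2).symm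

include hKA in
/-- The image of `A ∩ K` is `Ω₁` of a Sylow subgroup of `K / Z(K)`. -/
theorem exists_omega : ∃ P : Sylow 2 (↥K ⧸ Subgroup.center ↥K),
    Goldschmidt53.Facts (↥K ⧸ Subgroup.center ↥K) ∧
      (Φ.A.subgroupOf K).map (QuotientGroup.mk' (Subgroup.center ↥K)) = Om P := by
  obtain ⟨hkn, P, hOm⟩ := ((Φ.decomp_A hS hP hO hA).cases K hK).resolve_left hKA
  exact ⟨P, Goldschmidt53.facts _ hkn, hOm⟩

include hKA in
/-- If the elements of the axis in `K` are central, the second coordinate is an isomorphism from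
`(A ∩ K) / (A ∩ Z(K))`. -/
theorem snd_full (haxis : ∀ z : F, ∀ h : Φ.a (z, 0) ∈ K,
      (⟨Φ.a (z, 0), h⟩ : ↥K) ∈ Subgroup.center ↥K) :
    (∀ d : F, ∃ v, Φ.a v ∈ K ∧ v.2 = d) ∧
      ∀ v, ∀ h : Φ.a v ∈ K, (⟨Φ.a v, h⟩ : ↥K) ∈ Subgroup.center ↥K → v.2 = 0 := by
  classical
  obtain ⟨P, hF, hOm⟩ := Φ.exists_omega hS hP hO hA hK hKA
  have h4 := hF.four_le P
  rw [← hOm] at h4
  set q := QuotientGroup.mk' (Subgroup.center ↥K)
  let D := {d : F // ∃ v, Φ.a v ∈ K ∧ v.2 = d}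
  have hwd : ∀ v v' (hv : Φ.a v ∈ K) (hv' : Φ.a v' ∈ K), v.2 = v'.2 →
      q ⟨Φ.a v, hv⟩ = q ⟨Φ.a v', hv'⟩ := by
    intro v v' hv hv' e
    have hz : Φ.a (v.1 + v'.1, 0) ∈ K := by
      rw [show ((v.1 + v'.1, (0 : F)) : F × F) = v + v' from
        Prod.ext rfl (by simp [e, add_self Φ.four]), Φ.a_add]
      exact mul_mem hv hv'
    refine QuotientGroup.eq.2 ?_
    convert haxis _ hz using 1
    refine Subtype.ext ?_
    simp only [Subgroup.coe_mul, Subgroup.coe_inv, Φ.a_inv, ← Φ.a_add]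
    exact congrArg Φ.a (Prod.ext rfl (by simp [e, add_self Φ.four]))
  let f : D → ↥((Φ.A.subgroupOf K).map q) := fun d =>
    ⟨q ⟨Φ.a d.2.choose, d.2.choose_spec.1⟩, ⟨_, ⟨_, rfl⟩, rfl⟩⟩
  have hf : Function.Surjective f := by
    rintro ⟨_, x, hx, rfl⟩
    obtain ⟨v, hv⟩ := Subgroup.mem_subgroupOf.1 hx
    refine ⟨⟨v.2, v, hv ▸ x.2, rfl⟩, Subtype.ext ?_⟩
    refine (hwd _ v _ (hv ▸ x.2) (Exists.choose_spec (⟨v, hv ▸ x.2, rfl⟩ :
      ∃ v', Φ.a v' ∈ K ∧ v'.2 = v.2)).2).trans ?_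
    exact congrArg q (Subtype.ext hv)
  have hD4 : Nat.card D ≤ 4 := by
    have := Finite.card_subtype_le (fun d : F => ∃ v, Φ.a v ∈ K ∧ v.2 = d)
    rwa [Nat.card_eq_fintype_card (α := F), Φ.four] at this
  have hcard : 4 ≤ Nat.card D := h4.trans (Nat.card_le_card_of_surjective f hf)
  have hfi : Function.Injective f := (hf.bijective_of_nat_card_le (hD4.trans h4)).1
  have hall : ∀ d : F, ∃ v, Φ.a v ∈ K ∧ v.2 = d := by
    intro d
    have hinj : Function.Injective (Subtype.val : D → F) := Subtype.val_injective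
    obtain ⟨d', hd'⟩ := (hinj.bijective_of_nat_card_le (by
      rw [Nat.card_eq_fintype_card (α := F), Φ.four]; exact hcard)).2 d
    exact hd' ▸ d'.2
  refine ⟨hall, fun v hv hc => ?_⟩
  have h1 : f ⟨v.2, v, hv, rfl⟩ = f ⟨0, hall 0⟩ := by
    refine Subtype.ext ?_
    have hc0 : ∀ w (hw : Φ.a w ∈ K), w.2 = 0 → q ⟨Φ.a w, hw⟩ = 1 := fun w hw e => by
      refine (QuotientGroup.eq_one_iff _).2 ?_
      have e' : w = (w.1, 0) := Prod.ext rfl e
      convert haxis w.1 (e' ▸ hw) using 1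
      exact Subtype.ext (congrArg Φ.a e')
    refine ((hwd _ v _ hv (Exists.choose_spec (⟨v, hv, rfl⟩ :
      ∃ v', Φ.a v' ∈ K ∧ v'.2 = v.2)).2).trans ((QuotientGroup.eq_one_iff _).2 hc)).trans ?_
    exact (hc0 _ _ (hall 0).choose_spec.2).symm
  exact congrArg Subtype.val (hfi h1)

/-- The `S`-conjugates of `K` are components. -/
theorem conj_component (s : G) : Cfsg.IsComponent (K.map (MulAut.conj s).toMonoidHom) :=
  Components.Component.conj hK s

include hKA in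
/-- `S` normalises `K`. -/
theorem normalizes (y : F) : Φ.b (0, y) ∈ normalizer (K : Set G) := by
  rw [normalizer_iff_map]
  by_contra hne
  set K' : F → Subgroup G := fun t => K.map (MulAut.conj (Φ.b (0, t))).toMonoidHom with hK'
  have hcj : ∀ t v, Φ.b (0, t) * Φ.a v * (Φ.b (0, t))⁻¹ = Φ.a v * Φ.a (t * v.2, 0) := fun t v => by
    rw [Φ.act, ← Φ.a_add]
    exact congrArg Φ.a (Prod.ext rfl (by simp))
  have hmem : ∀ t v, Φ.a v ∈ K → Φ.a v * Φ.a (t * v.2, 0) ∈ K' t := fun t v hv =>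
    hcj t v ▸ ⟨Φ.a v, hv, rfl⟩
  have hcomm : ∀ t, K' t ≠ K → ∀ x ∈ K' t, ∀ k ∈ K, x * k = k * x := fun t ht x hx k hk =>
    (mem_centralizer_iff.1 (Components.Component.le_centralizer_of_ne
      (Φ.conj_component hS hP hO hA hK _) hK ht hx) k hk).symm
  -- (1)
  have h1 : ∀ v (hv : Φ.a v ∈ K), Φ.a (y * v.2, 0) ∈ K →
      (⟨Φ.a v, hv⟩ : ↥K) ∈ Subgroup.center ↥K := by
    intro v hv hz
    refine Φ.center_of_comm hS hP hO hA hK hv fun k hk => ?_
    have hk' : Φ.b (0, y) * k * (Φ.b (0, y))⁻¹ ∈ K' y := ⟨k, hk, rfl⟩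
    have e2 := hcomm y hne _ hk' _ (mul_mem hv hz)
    rw [← hcj] at e2
    apply (MulAut.conj (Φ.b (0, y))).injective
    simp only [map_mul, MulAut.conj_apply]
    exact e2.symm
  have haxis : ∀ z : F, ∀ h : Φ.a (z, 0) ∈ K,
      (⟨Φ.a (z, 0), h⟩ : ↥K) ∈ Subgroup.center ↥K := fun z h =>
    h1 _ h (by
      rw [mul_zero, show ((0 : F), (0 : F)) = (0 : F × F) from rfl, Φ.a_zero]; exact one_mem K)
  obtain ⟨hall, hcen⟩ := Φ.snd_full hS hP hO hA hK hKA haxis
  have hy0 : y ≠ 0 := fun e => hne (by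
    rw [e, show ((0 : F), (0 : F)) = (0 : F × F) from rfl, Φ.b_zero, map_one]
    exact Subgroup.map_id K)
  obtain ⟨u, huK, hu2⟩ := hall 1
  obtain ⟨t, ht0, hty⟩ : ∃ t : F, t ≠ 0 ∧ t ≠ y := by
    obtain ⟨c, hc0, hc1, -⟩ := exists_gen Φ.four
    exact ⟨c * y, mul_ne_zero hc0 hy0,
      fun e => hc1 (mul_right_cancel₀ hy0 (e.trans (one_mul y).symm))⟩
  obtain ⟨v, hvK, hv2⟩ := hall (t / y)
  have hyv : y * v.2 = t := by rw [hv2, mul_div_cancel₀ _ hy0]
  have hKt : K' t ≠ K := by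
    intro e
    have h2 : Φ.a (t * u.2, 0) ∈ K := by
      have := hmem t u huK
      rw [e] at this
      exact (Subgroup.mul_mem_cancel_left K huK).1 this
    rw [hu2, mul_one] at h2
    have := hcen v hvK (h1 v hvK (by rw [hyv]; exact h2))
    rw [hv2, div_eq_zero_iff] at this
    exact this.elim ht0 hy0
  have hx1 := hmem y v hvK
  rw [hyv] at hx1
  have hx2 := hmem t u huK
  rw [hu2, mul_one] at hx2
  have hc : ∀ k ∈ K, Φ.a (v + u) * k = k * Φ.a (v + u) := by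
    intro k hk
    have e : Φ.a (v + u) = Φ.a v * Φ.a (t, 0) * (Φ.a u * Φ.a (t, 0)) := by
      rw [← Φ.a_add, ← Φ.a_add, ← Φ.a_add, add_add_add_comm, Φ.self_add, add_zero]
    rw [e]
    exact Commute.mul_left (hcomm y hne _ hx1 k hk) (hcomm t hKt _ hx2 k hk)
  have hvuK : Φ.a (v + u) ∈ K := by rw [Φ.a_add]; exact mul_mem hvK huK
  have := hcen _ hvuK (Φ.center_of_comm hS hP hO hA hK hvuK hc)
  rw [Prod.snd_add, hv2, hu2] at this
  have := eq_of_add_eq_zero Φ.four this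
  exact hty ((div_eq_one_iff_eq hy0).1 this)

end Frame

end Cfsg.Agent.Lib.L34Sylow67
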