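import Cfsg.Agent.Lib.L34Sylow67.Closed

/-!
# No component is moved by a strongly closed subgroup of order 16

helper67.  A component not centralised by `A` would have `A` as Sylow 2-subgroup, and the group
induced by its normaliser on `A` would be of odd order, normalised by the shears and transitive.
-/

set_option autoImplicit false
set_option linter.unusedSectionVars false
set_option linter.style.haveILetI false

open Subgroup Equiv

namespace Cfsg.Agent.Lib.L34Sylow67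

open Goldschmidt53 (PropSimple Om)

universe u w

namespace Frame

variable {G : Type u} [Group G] [Finite G] {F : Type w} [Field F] [Fintype F] {S : Subgroup G}
  (Φ : Frame F S)

theorem conj_general (u v : F × F) (y : F) :
    Φ.a u * Φ.b (0, y) * Φ.a v * (Φ.a u * Φ.b (0, y))⁻¹ = Φ.a v * Φ.a (y * v.2, 0) := by
  rw [show Φ.a u * Φ.b (0, y) * Φ.a v * (Φ.a u * Φ.b (0, y))⁻¹ =
    Φ.a u * (Φ.b (0, y) * Φ.a v * (Φ.b (0, y))⁻¹) * (Φ.a u)⁻¹ by group, Φ.act, Φ.a_comm,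
    mul_inv_cancel_right, ← Φ.a_add]
  exact congrArg Φ.a (Prod.ext rfl (by simp))

/-- The commutator of two elements of `S`. -/
theorem comm_general (u u' : F × F) (y y' : F) :
    Φ.a u * Φ.b (0, y) * (Φ.a u' * Φ.b (0, y')) * (Φ.a u * Φ.b (0, y))⁻¹ *
      (Φ.a u' * Φ.b (0, y'))⁻¹ = Φ.a (y * u'.2 + y' * u.2, 0) := by
  have e1 := Φ.conj_general u u' y
  have e2 : Φ.a u * Φ.b (0, y) * Φ.b (0, y') * (Φ.a u * Φ.b (0, y))⁻¹ =
      Φ.a (y' * u.2, 0) * Φ.b (0, y') := by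
    rw [show Φ.a u * Φ.b (0, y) * Φ.b (0, y') * (Φ.a u * Φ.b (0, y))⁻¹ =
      Φ.a u * (Φ.b (0, y) * Φ.b (0, y') * (Φ.b (0, y))⁻¹) * (Φ.a u)⁻¹ by group, Φ.b_comm,
      mul_inv_cancel_right, Φ.act', Φ.axis, ← Φ.b_add]
    exact congrArg Φ.b (Prod.ext (show (0 : F) + u.2 * y' = y' * u.2 + 0 by ring) (by simp))
  calc _ = Φ.a u * Φ.b (0, y) * Φ.a u' * (Φ.a u * Φ.b (0, y))⁻¹ *
        (Φ.a u * Φ.b (0, y) * Φ.b (0, y') * (Φ.a u * Φ.b (0, y))⁻¹) *
          ((Φ.b (0, y'))⁻¹ * (Φ.a u')⁻¹) := by group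
    _ = Φ.a u' * Φ.a (y * u'.2, 0) * Φ.a (y' * u.2, 0) * (Φ.a u')⁻¹ := by rw [e1, e2]; group
    _ = _ := by
      rw [mul_assoc (Φ.a u'), ← Φ.a_add, Φ.a_comm, mul_inv_cancel_right]
      exact congrArg Φ.a (Prod.ext rfl (by simp))

theorem sq_general (u : F × F) (y : F) :
    Φ.a u * Φ.b (0, y) * (Φ.a u * Φ.b (0, y)) = Φ.a (y * u.2, 0) := by
  calc _ = Φ.a u * (Φ.b (0, y) * Φ.a u * (Φ.b (0, y))⁻¹) * (Φ.b (0, y) * Φ.b (0, y)) := by group
    _ = _ := by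
      rw [Φ.b_sq, mul_one, Φ.act, ← Φ.a_add]
      exact congrArg Φ.a (Prod.ext (show u.1 + (u.1 + y * u.2) = y * u.2 from
        add_add_self Φ.four _ _) (add_self Φ.four _))

variable {Sy : Sylow 2 G} (hS : (Sy : Subgroup G) = S) (hP : PropSimple.{u})
  (hO : Cfsg.oddCore G = ⊥) (hA : Cfsg.IsStronglyClosed Φ.A S)
  {K : Subgroup G} (hK : Cfsg.IsComponent K) (hKA : ¬ Φ.A ≤ centralizer (K : Set G))
include hS hP hO hA hK hKA

theorem S_le_normalizer_K : S ≤ normalizer (K : Set G) := by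
  intro s hs
  obtain ⟨u, y, rfl⟩ := Φ.exists_eq hs
  exact mul_mem ((Φ.decomp_A hS hP hO hA).normal K hK ⟨u, rfl⟩)
    (Φ.normalizes hS hP hO hA hK hKA y)

theorem conj_mem_K {s x : G} (hs : s ∈ S) (hx : x ∈ K) : s * x * s⁻¹ ∈ K :=
  (Subgroup.mem_normalizer_iff.1 (Φ.S_le_normalizer_K hS hP hO hA hK hKA hs) _).1 hx

/-- The centre of `K` lies in `A`. -/
theorem center_le_A {z : ↥K} (hz : z ∈ Subgroup.center ↥K) : (z : G) ∈ Φ.A := by
  obtain ⟨u, y, he⟩ := Φ.exists_eq (Φ.center_le hS hP hO hA hK hz)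
  rcases eq_or_ne y 0 with rfl | hy
  · rw [show ((0 : F), (0 : F)) = (0 : F × F) from rfl, Φ.b_zero, mul_one] at he
    exact ⟨u, he.symm⟩
  exfalso
  -- commutators of a central element are central
  have hcm : ∀ s ∈ S, ∀ h : s * z * s⁻¹ ∈ K,
      (⟨s * z * s⁻¹, h⟩ : ↥K) ∈ Subgroup.center ↥K := fun s hs h =>
    Subgroup.mem_center_iff.2 fun k => by
      have hk' := Φ.conj_mem_K hS hP hO hA hK hKA (inv_mem hs) k.2
      have e := congrArg (fun t : ↥K => s * (t : G) * s⁻¹)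
        (Subgroup.mem_center_iff.1 hz ⟨_, hk'⟩)
      refine Subtype.ext ?_
      show (k : G) * (s * z * s⁻¹) = s * z * s⁻¹ * k
      simp only [Subgroup.coe_mul] at e
      calc (k : G) * (s * z * s⁻¹) = s * (s⁻¹ * k * s⁻¹⁻¹ * z) * s⁻¹ := by group
        _ = s * (z * (s⁻¹ * k * s⁻¹⁻¹)) * s⁻¹ := e
        _ = _ := by group
  have haxis : ∀ x : F, ∀ h : Φ.a (x, 0) ∈ K,
      (⟨Φ.a (x, 0), h⟩ : ↥K) ∈ Subgroup.center ↥K := by
    intro x h
    have hsv : Φ.a (0, x / y) ∈ S := Φ.a_mem _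
    have hc := hcm _ hsv (Φ.conj_mem_K hS hP hO hA hK hKA hsv z.2)
    have e : (⟨Φ.a (x, 0), h⟩ : ↥K) =
        ⟨_, Φ.conj_mem_K hS hP hO hA hK hKA hsv z.2⟩ * z⁻¹ := by
      refine Subtype.ext ?_
      simp only [Subgroup.coe_mul, Subgroup.coe_inv, he]
      have e' := Φ.comm_general (0, x / y) u 0 y
      rw [show ((0 : F), (0 : F)) = (0 : F × F) from rfl, Φ.b_zero, mul_one] at e'
      rw [e']
      exact congrArg Φ.a (Prod.ext (by simp [mul_div_cancel₀ _ hy]) rfl)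
    rw [e]
    exact mul_mem hc (inv_mem hz)
  obtain ⟨hall, -⟩ := Φ.snd_full hS hP hO hA hK hKA haxis
  obtain ⟨v, hv, hv2⟩ := hall 1
  have e1 : Φ.a v * (z : G) = z * Φ.a v :=
    congrArg Subtype.val (Subgroup.mem_center_iff.1 hz ⟨_, hv⟩)
  have e2 := Φ.conj_general u v y
  rw [← he, ← e1, mul_inv_cancel_right, left_eq_mul, hv2, mul_one] at e2
  exact hy (congrArg Prod.fst (Φ.a_inj (e2.trans Φ.a_zero.symm)))

/-- The axis lies in `K`. -/
theorem axis_le (x : F) : Φ.a (x, 0) ∈ K := by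
  by_cases h : ∃ v, Φ.a v ∈ K ∧ v.2 ≠ 0
  · obtain ⟨v, hv, hv2⟩ := h
    have h1 := Φ.conj_mem_K hS hP hO hA hK hKA (Φ.b_mem (0, x / v.2)) hv
    rw [Φ.act, show ((v.1 + ((0 : F), x / v.2).2 * v.2, v.2) : F × F) = v + (x, 0) from
      Prod.ext (show v.1 + x / v.2 * v.2 = v.1 + x by rw [div_mul_cancel₀ _ hv2]) (by simp),
      Φ.a_add] at h1
    exact (Subgroup.mul_mem_cancel_left K hv).1 h1
  · push Not at h
    obtain ⟨P, hF, hOm⟩ := Φ.exists_omega hS hP hO hA hK hKA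
    have h4 := hF.four_le P
    rw [← hOm] at h4
    let f : ↥(Φ.A.subgroupOf K) → F := fun t => (Φ.coord.symm ⟨_, Subgroup.mem_subgroupOf.1 t.2⟩).1
    have hft : ∀ t : ↥(Φ.A.subgroupOf K), Φ.a (f t, 0) = ((t : ↥K) : G) := by
      intro t
      set v := Φ.coord.symm ⟨_, Subgroup.mem_subgroupOf.1 t.2⟩ with hv
      have e : Φ.a v = ((t : ↥K) : G) := congrArg Subtype.val (Φ.coord.apply_symm_apply _)
      rw [← e]
      exact congrArg Φ.a (Prod.ext rfl (h v (e ▸ (t : ↥K).2)).symm)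
    have hf : Function.Injective f := fun t t' e =>
      Subtype.ext (Subtype.ext (by rw [← hft t, e, hft t']))
    have h16 := h4.trans (Nat.card_le_card_of_surjective _ (fun x : ↥((Φ.A.subgroupOf K).map
      (QuotientGroup.mk' (Subgroup.center ↥K))) => by
        obtain ⟨a, ha, e⟩ := x.2
        exact (⟨⟨a, ha⟩, Subtype.ext e⟩ : ∃ t : ↥(Φ.A.subgroupOf K),
          (⟨_, ⟨(t : ↥K), t.2, rfl⟩⟩ : ↥((Φ.A.subgroupOf K).map
            (QuotientGroup.mk' (Subgroup.center ↥K)))) = x)))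
    obtain ⟨t, rfl⟩ := (hf.bijective_of_nat_card_le (by
      rw [Nat.card_eq_fintype_card (α := F), Φ.four]; exact h16)).2 x
    rw [hft]
    exact (t : ↥K).2

/-- `S ∩ K` lies in `A`. -/
theorem inf_le_A {s : G} (hs : s ∈ S) (hsK : s ∈ K) : s ∈ Φ.A := by
  classical
  haveI : Fact (Nat.Prime 2) := ⟨Nat.prime_two⟩
  set q := QuotientGroup.mk' (Subgroup.center ↥K) with hq
  obtain ⟨P, hF, hOm⟩ := Φ.exists_omega hS hP hO hA hK hKA
  obtain ⟨Q, hQ⟩ := Walter.Pairs.exists_sylow_subnormal Sy hK.1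
  set P₀ := Q.mapSurjective (f := q) (QuotientGroup.mk'_surjective _) with hP₀
  have hP₀mem : ∀ x : ↥K, q x ∈ (P₀ : Subgroup (↥K ⧸ Subgroup.center ↥K)) ↔ (x : G) ∈ S := by
    intro x
    rw [hP₀, Sylow.coe_mapSurjective, Subgroup.mem_map]
    constructor
    · rintro ⟨p, hp, hpx⟩
      have h1 : p⁻¹ * x ∈ Subgroup.center ↥K := QuotientGroup.eq.1 hpx
      have hp' : (p : G) ∈ S := by rw [hQ, Subgroup.mem_subgroupOf, hS] at hp; exact hp
      simpa using mul_mem hp' (Φ.center_le hS hP hO hA hK h1)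
    · exact fun hx => ⟨x, by rw [hQ, Subgroup.mem_subgroupOf, hS]; exact hx, rfl⟩
  set U := (Φ.A.subgroupOf K).map q with hU
  have hOm₀ : Om P₀ = U := by
    refine (Subgroup.eq_of_le_of_card_ge ?_ ?_).symm
    · rintro _ ⟨x, hx, rfl⟩
      obtain ⟨v, hv⟩ := Subgroup.mem_subgroupOf.1 hx
      refine PGroups.mem_omegaOne_of_pow ((hP₀mem x).2 (hv ▸ Φ.a_mem v)) ?_
      rw [← map_pow, sq]
      refine (congrArg q (Subtype.ext ?_ : x * x = 1)).trans (map_one q)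
      simp [← hv, Φ.a_sq]
    · rw [hOm]
      obtain ⟨g, hg⟩ := MulAction.exists_smul_eq (↥K ⧸ Subgroup.center ↥K) P₀ P
      have hmap : (P : Subgroup (↥K ⧸ Subgroup.center ↥K)) =
          (P₀ : Subgroup (↥K ⧸ Subgroup.center ↥K)).map (MulAut.conj g).toMonoidHom := by
        rw [← hg, Sylow.coe_subgroup_smul]
        rfl
      have hcard : ∀ H : Subgroup (↥K ⧸ Subgroup.center ↥K),
          Nat.card ↥(H.map (MulAut.conj g).toMonoidHom) = Nat.card ↥H := fun H =>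
        Subgroup.card_map_of_injective (MulAut.conj g).injective
      show Nat.card ↥(Cfsg.omegaOne 2 (P₀ : Subgroup (↥K ⧸ Subgroup.center ↥K))) ≤
        Nat.card ↥(Cfsg.omegaOne 2 (P : Subgroup (↥K ⧸ Subgroup.center ↥K)))
      rw [hmap, ← PGroups.map_omegaOne_of_injective (MulAut.conj g).toMonoidHom
        (MulAut.conj g).injective, hcard]
  obtain ⟨u, y, he⟩ := Φ.exists_eq hs
  rcases eq_or_ne y 0 with rfl | hy
  · rw [show ((0 : F), (0 : F)) = (0 : F × F) from rfl, Φ.b_zero, mul_one] at he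
    exact ⟨u, he.symm⟩
  exfalso
  -- elements with non-zero parameter
  have hnot : ∀ (u' : F × F) (y' : F) (h : Φ.a u' * Φ.b (0, y') ∈ K), y' ≠ 0 →
      q ⟨_, h⟩ ∉ U := by
    rintro u' y' h hy' ⟨x, hx, e⟩
    have hz : x⁻¹ * ⟨_, h⟩ ∈ Subgroup.center ↥K := QuotientGroup.eq.1 e
    have hmem := mul_mem (Subgroup.mem_subgroupOf.1 hx) (Φ.center_le_A hS hP hO hA hK hKA hz)
    simp only [Subgroup.coe_mul, Subgroup.coe_inv, mul_inv_cancel_left] at hmem
    obtain ⟨v, hv⟩ := (Subgroup.mul_mem_cancel_left _ (⟨u', rfl⟩ : Φ.a u' ∈ Φ.A)).1 hmem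
    exact hy' ((Φ.a_eq_b hv).2 ▸ (Φ.a_eq_b hv).1 :)
  have hu2 : ∀ (u' : F × F) (y' : F), Φ.a u' * Φ.b (0, y') ∈ K → y' ≠ 0 → u'.2 ≠ 0 := by
    intro u' y' h hy' e
    refine hnot u' y' h hy' ?_
    rw [← hOm₀]
    refine PGroups.mem_omegaOne_of_pow ((hP₀mem _).2 (mul_mem (Φ.a_mem _) (Φ.b_mem _))) ?_
    rw [← map_pow, sq]
    refine (congrArg q (Subtype.ext ?_ : (⟨_, h⟩ : ↥K) * ⟨_, h⟩ = 1)).trans (map_one q)
    rw [Subgroup.coe_mul, Φ.sq_general, e, mul_zero,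
      show ((0 : F), (0 : F)) = (0 : F × F) from rfl, Φ.a_zero]
    rfl
  subst he
  -- products with `s`
  have hprod : ∀ (u' : F × F) (y' : F), Φ.a u' * Φ.b (0, y') ∈ K →
      ∃ u'' : F × F, Φ.a u'' * Φ.b (0, y' + y) ∈ K ∧ u''.2 = u'.2 + u.2 := by
    intro u' y' h
    refine ⟨u' + u + (y' * u.2, 0), ?_, by simp⟩
    have hm := mul_mem h hsK
    have e : Φ.a u' * Φ.b (0, y') * (Φ.a u * Φ.b (0, y)) =
        Φ.a (u' + u + (y' * u.2, 0)) * Φ.b (0, y' + y) := by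
      rw [show ((0 : F), y' + y) = ((0, y') : F × F) + (0, y) from Prod.ext (by simp) rfl,
        Φ.b_add, Φ.a_add, Φ.a_add]
      calc Φ.a u' * Φ.b (0, y') * (Φ.a u * Φ.b (0, y)) =
          Φ.a u' * (Φ.b (0, y') * Φ.a u * (Φ.b (0, y'))⁻¹) * (Φ.b (0, y') * Φ.b (0, y)) := by group
        _ = _ := by
          rw [Φ.act, mul_assoc (Φ.a u') (Φ.a u), ← Φ.a_add u]
          congr 3
          exact Prod.ext rfl (by simp)
    exact e ▸ hm
  by_cases hD : ∃ v, Φ.a v ∈ K ∧ v.2 ≠ 0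
  · obtain ⟨v, hvK, hv2⟩ := hD
    have hadd : ∀ (u' : F × F) (y' : F), Φ.a u' * Φ.b (0, y') ∈ K →
        Φ.a (v + u') * Φ.b (0, y') ∈ K := fun u' y' h => by
      rw [Φ.a_add, mul_assoc]; exact mul_mem hvK h
    have hd : ∀ (u' : F × F) (y' : F), Φ.a u' * Φ.b (0, y') ∈ K → y' ≠ 0 →
        u'.2 ≠ 0 ∧ u'.2 ≠ v.2 := fun u' y' h hy' =>
      ⟨hu2 u' y' h hy', fun e => hu2 _ y' (hadd u' y' h) hy' (by simp [e, add_self Φ.four])⟩
    have hc := hd u y hsK hy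
    have hcases : ∀ x : F, x = 0 ∨ x = v.2 ∨ x = u.2 ∨ x = u.2 + v.2 := by
      intro x
      rcases cases_four Φ.four (c := u.2 / v.2) (div_ne_zero hc.1 hv2)
        (fun e => hc.2 ((div_eq_one_iff_eq hv2).1 e)) (x / v.2) with e | e | e | e
      · exact Or.inl ((div_eq_zero_iff.1 e).resolve_right hv2)
      · exact Or.inr (Or.inl ((div_eq_one_iff_eq hv2).1 e))
      · exact Or.inr (Or.inr (Or.inl ((div_left_inj' hv2).1 e)))
      · refine Or.inr (Or.inr (Or.inr ?_))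
        have := congrArg (fun t => t * v.2) e
        simpa [add_mul, div_mul_cancel₀ _ hv2] using this
    have hy' : ∀ (u' : F × F) (y' : F), Φ.a u' * Φ.b (0, y') ∈ K → y' = 0 ∨
        (y' = y ∧ (u'.2 = u.2 ∨ u'.2 = u.2 + v.2)) := by
      intro u' y' h
      refine (em (y' = 0)).imp id fun h0 => ?_
      obtain ⟨h1, h2⟩ := hd u' y' h h0
      have h3 := ((hcases u'.2).resolve_left h1).resolve_left h2
      refine ⟨?_, h3⟩
      by_contra hne
      obtain ⟨u'', hu'', e⟩ := hprod u' y' h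
      obtain ⟨h4, h5⟩ := hd u'' _ hu'' (fun e' => hne (eq_of_add_eq_zero Φ.four e'))
      rcases h3 with e' | e'
      · exact h4 (by rw [e, e', add_self Φ.four])
      · exact h5 (by rw [e, e', add_comm u.2 v.2, add_add_self' Φ.four])
    set w₁ := q ⟨Φ.a (y * u.2, 0), Φ.axis_le hS hP hO hA hK hKA _⟩ with hw₁
    set w₂ := q ⟨Φ.a (y * (u.2 + v.2), 0), Φ.axis_le hS hP hO hA hK hKA _⟩ with hw₂
    have hsq : w₁ = q ⟨_, hsK⟩ * q ⟨_, hsK⟩ := by
      rw [hw₁, ← map_mul]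
      exact congrArg q (Subtype.ext (Φ.sq_general u y).symm)
    have hw₁1 : w₁ ≠ 1 := fun e => hnot u y hsK hy (by
      rw [← hOm₀]
      refine PGroups.mem_omegaOne_of_pow ((hP₀mem _).2 hs) ?_
      rw [sq, ← hsq, e])
    have hw₁m : w₁ ∈ Om P₀ := by
      rw [hOm₀]
      exact ⟨_, ⟨_, rfl⟩, rfl⟩
    obtain ⟨n, hn, -, htr⟩ := hF.torus P₀
    have hsub : ∀ x ∈ Om P₀, x ≠ 1 → x = w₁ ∨ x = w₂ := by
      intro x hx hx1
      obtain ⟨j, rfl⟩ := htr w₁ hw₁m hw₁1 x hx hx1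
      have hm : n ^ j * q ⟨_, hsK⟩ * (n ^ j)⁻¹ ∈ (P₀ : Subgroup (↥K ⧸ Subgroup.center ↥K)) :=
        (Subgroup.mem_normalizer_iff.1 (pow_mem hn j) _).1 ((hP₀mem _).2 hs)
      obtain ⟨⟨k, hkK⟩, hk⟩ := QuotientGroup.mk'_surjective (Subgroup.center ↥K)
        (n ^ j * q ⟨_, hsK⟩ * (n ^ j)⁻¹)
      rw [← hk] at hm
      obtain ⟨u', y', rfl⟩ := Φ.exists_eq ((hP₀mem _).1 hm)
      have e : n ^ j * w₁ * (n ^ j)⁻¹ = q ⟨_, hkK⟩ * q ⟨_, hkK⟩ := by
        rw [hq, hk, hsq]; group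
      rw [e, ← map_mul] at hx1 ⊢
      rcases hy' u' y' hkK with rfl | ⟨rfl, e' | e'⟩
      · exfalso
        refine hx1 ((congrArg q (Subtype.ext ?_)).trans (map_one q))
        rw [Subgroup.coe_mul, Φ.sq_general, zero_mul,
          show ((0 : F), (0 : F)) = (0 : F × F) from rfl, Φ.a_zero]
        rfl
      · exact Or.inl (congrArg q (Subtype.ext (by rw [Subgroup.coe_mul, Φ.sq_general, e'])))
      · exact Or.inr (congrArg q (Subtype.ext (by rw [Subgroup.coe_mul, Φ.sq_general, e'])))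
    have h4 := hF.four_le P₀
    have : Nat.card ↥(Om P₀) ≤ 3 := by
      haveI := Fintype.ofFinite (↥K ⧸ Subgroup.center ↥K)
      rw [Nat.card_eq_fintype_card, Fintype.card_subtype]
      refine le_trans (Finset.card_le_card ?_) (Finset.card_le_three (a := 1) (b := w₁) (c := w₂))
      intro x hx
      simp only [Finset.mem_filter] at hx
      rcases eq_or_ne x 1 with rfl | hx1
      · simp
      · rcases hsub x hx.2 hx1 with rfl | rfl <;> simp
    omega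
  · push Not at hD
    -- `Ω₁` comes from the axis
    have hOm4 : Nat.card ↥(Om P₀) = 4 := by
      refine le_antisymm ?_ (hF.four_le P₀)
      rw [hOm₀, hU]
      refine (Nat.card_le_card_of_surjective (fun x : F =>
        (⟨q ⟨Φ.a (x, 0), Φ.axis_le hS hP hO hA hK hKA _⟩, ⟨_, ⟨_, rfl⟩, rfl⟩⟩ :
          ↥((Φ.A.subgroupOf K).map q))) ?_).trans
        (by rw [Nat.card_eq_fintype_card, Φ.four])
      rintro ⟨_, x, hx, rfl⟩
      obtain ⟨v, hv⟩ := Subgroup.mem_subgroupOf.1 hx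
      refine ⟨v.1, Subtype.ext (congrArg q (Subtype.ext ?_))⟩
      show Φ.a (v.1, 0) = (x : G)
      rw [← hv]
      exact congrArg Φ.a (Prod.ext rfl (hD v (hv ▸ x.2)).symm)
    have hdet : ∀ (u₁ u₂ : F × F) (y₁ : F), Φ.a u₁ * Φ.b (0, y₁) ∈ K →
        Φ.a u₂ * Φ.b (0, y₁) ∈ K → u₁.2 = u₂.2 := by
      intro u₁ u₂ y₁ h₁ h₂
      have h := mul_mem h₁ (inv_mem h₂)
      rw [show Φ.a u₁ * Φ.b (0, y₁) * (Φ.a u₂ * Φ.b (0, y₁))⁻¹ = Φ.a u₁ * (Φ.a u₂)⁻¹ by group,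
        Φ.a_inv, ← Φ.a_add] at h
      exact eq_of_add_eq_zero Φ.four (hD _ h)
    have hfull := hF.full P₀ hOm4 _ ((hP₀mem ⟨_, hsK⟩).2 hs) (hOm₀ ▸ hnot u y hsK hy)
    have hval : ∀ w ∈ Om P₀, ∃ u' y', Φ.a u' * Φ.b (0, y') ∈ K ∧
        w = q ⟨Φ.a (y * u'.2 + y' * u.2, 0), Φ.axis_le hS hP hO hA hK hKA _⟩ := by
      intro w hw
      obtain ⟨p, hp, rfl⟩ := hfull w hw
      obtain ⟨⟨k, hkK⟩, rfl⟩ := QuotientGroup.mk'_surjective (Subgroup.center ↥K) p
      obtain ⟨u', y', rfl⟩ := Φ.exists_eq ((hP₀mem _).1 hp)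
      refine ⟨u', y', hkK, ?_⟩
      rw [← map_inv, ← map_inv, ← map_mul, ← map_mul, ← map_mul]
      exact congrArg q (Subtype.ext (by simpa using Φ.comm_general u u' y y'))
    -- at most two values
    have hzero : ∀ u' y', Φ.a u' * Φ.b (0, y') ∈ K → y' = 0 ∨ y' = y →
        y * u'.2 + y' * u.2 = 0 := by
      rintro u' y' h (rfl | rfl)
      · rw [show ((0 : F), (0 : F)) = (0 : F × F) from rfl, Φ.b_zero, mul_one] at h
        rw [hD u' h, mul_zero, zero_mul, add_zero]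
      · rw [hdet u' u y' h hsK, add_self Φ.four]
    have hsame : ∀ u₁ y₁ u₂ y₂, Φ.a u₁ * Φ.b (0, y₁) ∈ K → Φ.a u₂ * Φ.b (0, y₂) ∈ K →
        y₁ ≠ 0 → y₁ ≠ y → y₂ ≠ 0 → y₂ ≠ y →
        y * u₁.2 + y₁ * u.2 = y * u₂.2 + y₂ * u.2 := by
      intro u₁ y₁ u₂ y₂ h₁ h₂ h10 h1y h20 h2y
      have hcase : y₂ = y₁ ∨ y₂ = y₁ + y := by
        rcases cases_four Φ.four (c := y₁ / y) (div_ne_zero h10 hy)
          (fun e => h1y ((div_eq_one_iff_eq hy).1 e)) (y₂ / y) with e | e | e | e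
        · exact absurd ((div_eq_zero_iff.1 e).resolve_right hy) h20
        · exact absurd ((div_eq_one_iff_eq hy).1 e) h2y
        · exact Or.inl ((div_left_inj' hy).1 e)
        · refine Or.inr ?_
          have := congrArg (fun t => t * y) e
          simpa [add_mul, div_mul_cancel₀ _ hy] using this
      rcases hcase with rfl | rfl
      · rw [hdet u₁ u₂ y₂ h₁ h₂]
      · obtain ⟨u'', hu'', e⟩ := hprod u₁ y₁ h₁
        rw [hdet u₂ u'' _ h₂ hu'', e,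
          show y * (u₁.2 + u.2) + (y₁ + y) * u.2 = y * u₁.2 + y₁ * u.2 + (y * u.2 + y * u.2) by
            ring, add_self Φ.four, add_zero]
    have : ∃ m : ↥K ⧸ Subgroup.center ↥K, ∀ w ∈ Om P₀, w = 1 ∨ w = m := by
      have hone : ∀ u' y', Φ.a u' * Φ.b (0, y') ∈ K → (y' = 0 ∨ y' = y) →
          q ⟨Φ.a (y * u'.2 + y' * u.2, 0), Φ.axis_le hS hP hO hA hK hKA _⟩ = 1 := by
        intro u' y' h h'
        refine (congrArg q (Subtype.ext ?_)).trans (map_one q)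
        show Φ.a (y * u'.2 + y' * u.2, 0) = 1
        rw [hzero u' y' h h', show ((0 : F), (0 : F)) = (0 : F × F) from rfl, Φ.a_zero]
      by_cases hex : ∃ u₁ y₁, Φ.a u₁ * Φ.b (0, y₁) ∈ K ∧ y₁ ≠ 0 ∧ y₁ ≠ y
      · obtain ⟨u₁, y₁, h₁, h10, h1y⟩ := hex
        refine ⟨q ⟨Φ.a (y * u₁.2 + y₁ * u.2, 0), Φ.axis_le hS hP hO hA hK hKA _⟩, fun w hw => ?_⟩
        obtain ⟨u', y', h, rfl⟩ := hval w hw
        by_cases h' : y' = 0 ∨ y' = y
        · exact Or.inl (hone u' y' h h')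
        · push Not at h'
          exact Or.inr (congrArg q (Subtype.ext (congrArg (fun t => Φ.a (t, (0 : F)))
            (hsame u' y' u₁ y₁ h h₁ h'.1 h'.2 h10 h1y))))
      · push Not at hex
        refine ⟨1, fun w hw => Or.inl ?_⟩
        obtain ⟨u', y', h, rfl⟩ := hval w hw
        exact hone u' y' h ((em (y' = 0)).imp id (hex u' y' h))
    obtain ⟨m, hm⟩ := this
    have : Nat.card ↥(Om P₀) ≤ 2 := by
      haveI := Fintype.ofFinite (↥K ⧸ Subgroup.center ↥K)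
      rw [Nat.card_eq_fintype_card, Fintype.card_subtype]
      refine le_trans (Finset.card_le_card ?_) (Finset.card_le_two (a := 1) (b := m))
      intro x hx
      simp only [Finset.mem_filter] at hx
      rcases hm x hx.2 with rfl | rfl <;> simp
    omega

/-- The centre of `K` is trivial. -/
theorem center_eq_bot : Subgroup.center ↥K = ⊥ := by
  haveI : Fact (Nat.Prime 2) := ⟨Nat.prime_two⟩
  obtain ⟨Q, hQ⟩ := Walter.Pairs.exists_sylow_subnormal Sy hK.1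
  refine le_bot_iff.1 fun z hz => Subgroup.mem_bot.2 (central_eq_one_of_perfect hK.2.1 Q
    ⟨⟨fun x y => ?_⟩⟩ hz (by
      rw [hQ, Subgroup.mem_subgroupOf, hS]; exact Φ.center_le hS hP hO hA hK hz))
  have hm : ∀ x : ↥(Q : Subgroup ↥K), ((x : ↥K) : G) ∈ Φ.A := fun x => by
    have hx := x.2
    simp only [hQ, Subgroup.mem_subgroupOf, hS] at hx
    exact Φ.inf_le_A hS hP hO hA hK hKA hx (x : ↥K).2
  obtain ⟨v, hv⟩ := hm x
  obtain ⟨v', hv'⟩ := hm y
  refine Subtype.ext (Subtype.ext ?_)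
  show ((x : ↥K) : G) * ((y : ↥K) : G) = ((y : ↥K) : G) * ((x : ↥K) : G)
  rw [← hv, ← hv']
  exact Φ.a_comm v v'

/-- An element of `S` centralising `K` is trivial. -/
theorem eq_one_of_centralizes {x : G} (hx : x ∈ S) (hc : ∀ k ∈ K, x * k = k * x) : x = 1 := by
  have hKone : ∀ z ∈ K, (∀ k ∈ K, z * k = k * z) → z = 1 := fun z hz h => by
    have := Φ.center_of_comm hS hP hO hA hK hz h
    rw [Φ.center_eq_bot hS hP hO hA hK hKA, Subgroup.mem_bot] at this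
    exact congrArg Subtype.val this
  have hconj : ∀ s ∈ S, ∀ k ∈ K, s * x * s⁻¹ * x⁻¹ * k = k * (s * x * s⁻¹ * x⁻¹) := by
    intro s hs k hk
    have h1 : Commute (s * x * s⁻¹) k := by
      have := (hc _ (Φ.conj_mem_K hS hP hO hA hK hKA (inv_mem hs) hk))
      show s * x * s⁻¹ * k = k * (s * x * s⁻¹)
      calc s * x * s⁻¹ * k = s * (x * (s⁻¹ * k * s⁻¹⁻¹)) * s⁻¹ := by group
        _ = s * ((s⁻¹ * k * s⁻¹⁻¹) * x) * s⁻¹ := by rw [this]
        _ = _ := by group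
    exact (h1.mul_left (Commute.inv_left (hc k hk : Commute x k))).eq
  obtain ⟨u, y, rfl⟩ := Φ.exists_eq hx
  have hz0 : ((0 : F), (0 : F)) = (0 : F × F) := rfl
  by_cases hy : y = 0
  · subst hy
    rw [hz0, Φ.b_zero, mul_one] at *
    have hu2 : u.2 = 0 := by
      have e := hKone _ (Φ.axis_le hS hP hO hA hK hKA (1 * u.2)) (fun k hk => by
        have := hconj _ (Φ.b_mem (0, 1)) k hk
        rwa [Φ.comm_eq] at this)
      have := congrArg Prod.fst (Φ.a_inj (e.trans Φ.a_zero.symm))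
      simpa using this
    refine hKone _ ?_ hc
    rw [show u = (u.1, 0) from Prod.ext rfl hu2]
    exact Φ.axis_le hS hP hO hA hK hKA _
  · exfalso
    have e := hKone _ (Φ.axis_le hS hP hO hA hK hKA (y * 1)) (fun k hk => by
      have e' := Φ.comm_general (0, 1) u 0 y
      rw [hz0, Φ.b_zero, mul_one] at e'
      have := hconj _ (Φ.a_mem (0, 1)) k hk
      rw [e', zero_mul, zero_add] at this
      exact this)
    have := congrArg Prod.fst (Φ.a_inj (e.trans Φ.a_zero.symm))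
    simp [hy] at this

/-- `A` lies in `K`. -/
theorem A_le_K : Φ.A ≤ K := by
  haveI : Fact (Nat.Prime 2) := ⟨Nat.prime_two⟩
  obtain ⟨hkn, -⟩ := (Φ.decomp_A hS hP hO hA).simple K hK hKA
    (Φ.center_eq_bot hS hP hO hA hK hKA)
  have hF := Goldschmidt53.facts _ hkn
  obtain ⟨Q, hQ⟩ := Walter.Pairs.exists_sylow_subnormal Sy hK.1
  have hmem : ∀ x : ↥K, x ∈ (Q : Subgroup ↥K) → (x : G) ∈ Φ.A := fun x hx => by
    rw [hQ, Subgroup.mem_subgroupOf, hS] at hx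
    exact Φ.inf_le_A hS hP hO hA hK hKA hx x.2
  rintro _ ⟨v, rfl⟩
  set n : ↥(normalizer (K : Set G)) :=
    ⟨Φ.a v, Φ.S_le_normalizer_K hS hP hO hA hK hKA (Φ.a_mem v)⟩
  set α : MulAut ↥K := Subgroup.normalizerMonoidHom K n with hα
  have hαv : ∀ k : ↥K, ((α k : ↥K) : G) = Φ.a v * k * (Φ.a v)⁻¹ := fun _ => rfl
  have hfix : ∀ k ∈ (Q : Subgroup ↥K), α k = k := fun k hk => Subtype.ext (by
    obtain ⟨v', hv'⟩ := hmem k hk
    rw [hαv, ← hv', Φ.a_comm, mul_inv_cancel_right])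
  obtain ⟨g, hg, hg'⟩ := hF.split Q α (by
    obtain ⟨j, -, hj⟩ := (Nat.dvd_prime_pow Nat.prime_two).1 (orderOf_dvd_of_pow_eq_one
      (x := α) (n := 2 ^ 1) (by
        rw [hα, ← map_pow]
        exact (congrArg _ (Subtype.ext (by simp [n, sq, Φ.a_sq]) :
          (n ^ 2 ^ 1) = 1)).trans (map_one _)))
    exact ⟨j, hj⟩)
    (fun k hk => hfix k (PGroups.omegaOne_le 2 _ hk))
    (fun k hk => by rw [hfix k hk, inv_mul_cancel]; exact one_mem _)
  have e : (g : G)⁻¹ * Φ.a v = 1 := by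
    refine Φ.eq_one_of_centralizes hS hP hO hA hK hKA
      (mul_mem (inv_mem (Φ.A_le (hmem g hg))) (Φ.a_mem v)) fun k hk => ?_
    have h := congrArg Subtype.val (hg' ⟨k, hk⟩)
    rw [hαv] at h
    change Φ.a v * k * (Φ.a v)⁻¹ = (g : G) * k * (g : G)⁻¹ at h
    rw [mul_inv_eq_iff_eq_mul] at h
    rw [mul_assoc, h]
    group
  rw [inv_mul_eq_one] at e
  exact e ▸ g.2

/-- There is no such component. -/
theorem component_false : False := by
  haveI : Fact (Nat.Prime 2) := ⟨Nat.prime_two⟩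
  have hAK := Φ.A_le_K hS hP hO hA hK hKA
  obtain ⟨hkn, -⟩ := (Φ.decomp_A hS hP hO hA).simple K hK hKA
    (Φ.center_eq_bot hS hP hO hA hK hKA)
  have hF := Goldschmidt53.facts _ hkn
  obtain ⟨Q, hQ⟩ := Walter.Pairs.exists_sylow_subnormal Sy hK.1
  have hQA : ∀ x : ↥K, x ∈ (Q : Subgroup ↥K) ↔ (x : G) ∈ Φ.A := fun x => by
    rw [hQ, Subgroup.mem_subgroupOf, hS]
    exact ⟨fun hx => Φ.inf_le_A hS hP hO hA hK hKA hx x.2, fun hx => Φ.A_le hx⟩
  set N := normalizer (Φ.A : Set G) with hN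
  set M : Subgroup ↥N := K.subgroupOf N with hM
  set R := M.map Φ.act₀ with hR
  -- `R` has odd order
  have hRodd : Odd (Nat.card ↥R) := by
    set A' : Subgroup ↥M := (Φ.A.subgroupOf N).subgroupOf M with hA'
    have hker : A' ≤ (Φ.act₀.comp M.subtype).ker := fun x hx => by
      obtain ⟨v, hv⟩ := Subgroup.mem_subgroupOf.1 (Subgroup.mem_subgroupOf.1 hx)
      rw [MonoidHom.mem_ker]
      refine Perm.ext fun v' => Φ.a_inj ?_
      rw [MonoidHom.comp_apply, a_act, Perm.one_apply]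
      show ((x : ↥N) : G) * Φ.a v' * ((x : ↥N) : G)⁻¹ = Φ.a v'
      rw [← hv, Φ.a_comm, mul_inv_cancel_right]
    have hA16 : Nat.card ↥A' = 16 := by
      rw [hA', Nat.card_congr (Subgroup.subgroupOfEquivOfLe (fun x hx => hAK
        (Subgroup.mem_subgroupOf.1 hx) : Φ.A.subgroupOf N ≤ M)).toEquiv,
        Nat.card_congr (Subgroup.subgroupOfEquivOfLe Subgroup.le_normalizer).toEquiv, Φ.card_A]
    have hRc : Nat.card ↥R = (Φ.act₀.comp M.subtype).ker.index := by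
      rw [Subgroup.index_ker, MonoidHom.range_comp, Subgroup.range_subtype]
    rw [← Nat.not_even_iff_odd, even_iff_two_dvd, hRc]
    intro h2
    have h2' := h2.trans (Subgroup.index_dvd_of_le hker)
    have hd : 32 ∣ Nat.card ↥M := by
      rw [← A'.card_mul_index, hA16, show (32 : ℕ) = 16 * 2 from rfl]
      exact Nat.mul_dvd_mul_left 16 h2'
    have hMK : Nat.card ↥M ∣ Nat.card ↥K := by
      have e : Nat.card ↥(M.map N.subtype) = Nat.card ↥M :=
        Subgroup.card_map_of_injective N.subtype_injective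
      rw [← e, hM,
        Subgroup.subgroupOf_map_subtype]
      exact Subgroup.card_dvd_of_le inf_le_left
    have hQ16 : Nat.card ↥(Q : Subgroup ↥K) = 16 := by
      rw [show (Q : Subgroup ↥K) = Φ.A.subgroupOf K from Subgroup.ext fun x => hQA x,
        Nat.card_congr (Subgroup.subgroupOfEquivOfLe hAK).toEquiv, Φ.card_A]
    rw [Q.card_eq_multiplicity, show (16 : ℕ) = 2 ^ 4 from rfl] at hQ16
    have h4 := Nat.pow_right_injective le_rfl hQ16
    have h5 := (Nat.prime_two.pow_dvd_iff_le_factorization Nat.card_pos.ne').1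
      (show 2 ^ 5 ∣ Nat.card ↥K from hd.trans hMK)
    omega
  -- the shears normalise `R`
  have hsh : ∀ l : F, ∀ r ∈ R, sh l * r * (sh l)⁻¹ ∈ R := by
    rintro l _ ⟨m, hm, rfl⟩
    refine ⟨⟨Φ.b (0, l), Φ.S_le_normalizer (Φ.b_mem _)⟩ * m *
      ⟨Φ.b (0, l), Φ.S_le_normalizer (Φ.b_mem _)⟩⁻¹, ?_, ?_⟩
    · exact Subgroup.mem_subgroupOf.2
        (Φ.conj_mem_K hS hP hO hA hK hKA (Φ.b_mem _) (Subgroup.mem_subgroupOf.1 hm))
    · rw [map_mul, map_mul, map_inv, Φ.act_b]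
  have hsm := Φ.small Sy hS
  let P : Subgroup (Perm (F × F)) :=
    { carrier := {g | Fix0 g}
      one_mem' := fun _ => rfl
      mul_mem' := fun hg hk => hsm.fix0_mul Φ.four hg hk
      inv_mem' := fun hg => hsm.fix0_inv Φ.four hg }
  have hcomm : ∀ l : F, l ≠ 0 → ∀ r ∈ R, sh l * r * (sh l)⁻¹ = r → r ∈ P := by
    intro l hl r _ e
    refine Small.fix0_of_conj (m := l) hl ?_
    rw [mul_inv_eq_iff_eq_mul] at e ⊢
    exact e.symm
  obtain ⟨c, hc0, hc1, -⟩ := exists_gen Φ.four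
  have hRP : R ≤ P := le_of_centralizers hRodd (sh_mul_self Φ.four 1) (sh_mul_self Φ.four c)
    (by rw [← sh_add, ← sh_add, add_comm]) (hsh 1) (hsh c) (hcomm 1 one_ne_zero) (hcomm c hc0)
    (fun r hr e => hcomm (1 + c) (fun e' => hc1 (eq_of_add_eq_zero Φ.four e').symm) r hr
      (by rwa [sh_add]))
  -- the torus moves the axis
  obtain ⟨n, hn, -, htr⟩ := hF.torus Q
  have hom : ∀ v : F × F, (⟨Φ.a v, hAK ⟨v, rfl⟩⟩ : ↥K) ∈ Om Q := fun v =>
    PGroups.mem_omegaOne_of_pow ((hQA _).2 ⟨v, rfl⟩)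
      (Subtype.ext (by simp [sq, Φ.a_sq]))
  have hne : ∀ v : F × F, v ≠ 0 → (⟨Φ.a v, hAK ⟨v, rfl⟩⟩ : ↥K) ≠ 1 := fun v hv e =>
    hv (Φ.a_inj ((congrArg Subtype.val e).trans Φ.a_zero.symm))
  obtain ⟨j, hj⟩ := htr _ (hom (1, 0)) (hne _ (by simp)) _ (hom (0, 1)) (hne _ (by simp))
  have hnA : ((n ^ j : ↥K) : G) ∈ N := by
    have hnj := pow_mem hn j
    refine Subgroup.mem_normalizer_iff.2 fun x => ⟨fun hx => ?_, fun hx => ?_⟩
    · exact (hQA (n ^ j * ⟨x, hAK hx⟩ * (n ^ j)⁻¹)).1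
        ((Subgroup.mem_normalizer_iff.1 hnj _).1 ((hQA ⟨x, hAK hx⟩).2 hx))
    · have hxK : x ∈ K := by
        have := mul_mem (mul_mem (inv_mem (n ^ j).2) (hAK hx)) (n ^ j).2
        simpa [mul_assoc] using this
      exact (hQA ⟨x, hxK⟩).1 ((Subgroup.mem_normalizer_iff.1 hnj _).2
        ((hQA (n ^ j * ⟨x, hxK⟩ * (n ^ j)⁻¹)).2 hx))
  have hR' : Φ.act₀ ⟨_, hnA⟩ ∈ R := ⟨_, Subgroup.mem_subgroupOf.2 (n ^ j).2, rfl⟩
  have e : Φ.act₀ ⟨_, hnA⟩ (1, 0) = (0, 1) := Φ.a_inj (by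
    rw [a_act]
    exact congrArg Subtype.val hj)
  have := (hRP hR' : Fix0 _) 1
  rw [e] at this
  exact one_ne_zero this

end Frame

namespace Frame

variable {G : Type u} [Group G] [Finite G] {F : Type w} [Field F] [Fintype F] {S : Subgroup G}
  (Φ : Frame F S) {Sy : Sylow 2 G}

/-- A strongly closed `A` is normal. -/
theorem normal_of_closed (hS : (Sy : Subgroup G) = S) (hP : PropSimple.{u})
    (hO : Cfsg.oddCore G = ⊥) (hA : Cfsg.IsStronglyClosed Φ.A S) : Φ.A.Normal := by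
  haveI : Fact (Nat.Prime 2) := ⟨Nat.prime_two⟩
  haveI : (Cfsg.pCore 2 G).Normal := Goldschmidt53.pCore_normal G
  have hle : Φ.A ≤ Cfsg.pCore 2 G := by
    refine (Φ.decomp_A hS hP hO hA).split.trans (sup_le inf_le_right (iSup_le fun K x hx => ?_))
    have hc : Φ.A ≤ centralizer (K.1 : Set G) := by
      by_contra hKA
      exact Φ.component_false hS hP hO hA K.2 hKA
    exact (Φ.setting hS hP hO hA).center_mem K.2 (z := ⟨x, hx.2⟩)
      (Φ.center_of_comm hS hP hO hA K.2 hx.2 fun k hk =>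
        (mem_centralizer_iff.1 (hc hx.1) k hk).symm)
  refine ⟨fun x hx g => hA.2 x hx g ?_⟩
  rw [← hS]
  exact Cores.pCore_le_sylow Sy (Subgroup.Normal.conj_mem inferInstance x (hle hx) g)

end Frame

end Cfsg.Agent.Lib.L34Sylow67
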