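import Cfsg.Agent.Lib.L34Sylow67.Local
import Cfsg.Agent.Lib.ZStar.Elements
import Cfsg.Agent.Lib.Transfer.Fusion

/-!
# Embedding into `PGL(3,4)` when `A` is normal

helper67.  `C(A) = A`; averaging the projection `S → A` over a transversal gives a cocycle, and
with the linear action this is an affine representation.
-/

set_option autoImplicit false
set_option linter.unusedSectionVars false
set_option linter.style.haveILetI false

open Subgroup Equiv
open scoped Pointwise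

namespace Cfsg.Agent.Lib.L34Sylow67

universe u w

namespace Frame

variable {G : Type u} [Group G] [Finite G] {F : Type w} [Field F] [Fintype F] {S : Subgroup G}
  (Φ : Frame F S) {Sy : Sylow 2 G} (hS : (Sy : Subgroup G) = S)

include hS in
/-- `C(A) = A` for normal `A`. -/
theorem centralizer_eq (hO : Cfsg.oddCore G = ⊥) (hn : Φ.A.Normal) :
    centralizer (Φ.A : Set G) = Φ.A := by
  haveI : Fact (Nat.Prime 2) := ⟨Nat.prime_two⟩
  haveI := hn
  set C := centralizer (Φ.A : Set G) with hC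
  haveI hCn : C.Normal := inferInstance
  have hAC : Φ.A ≤ C := fun x hx => mem_centralizer_iff.2 fun y hy => by
    obtain ⟨v, rfl⟩ := hx
    obtain ⟨v', rfl⟩ := hy
    exact Φ.a_comm v' v
  have hinf : C ⊓ S = Φ.A := le_antisymm (fun x hx => Φ.mem_A_of_comm hx.2
    (v := ((0 : F), (1 : F))) one_ne_zero
    (mem_centralizer_iff.1 hx.1 _ (show Φ.a (0, 1) ∈ (Φ.A : Set G) from ⟨_, rfl⟩)).symm) (le_inf hAC Φ.A_le)
  obtain ⟨Q, hQ⟩ := Transfer.Fusion.exists_sylow_map_eq_inf C Sy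
  rw [hS, hinf] at hQ
  set A' : Subgroup ↥C := Φ.A.subgroupOf C with hA'
  have hQA : (Q : Subgroup ↥C) = A' := by
    rw [hA', ← hQ]
    exact (Subgroup.comap_map_eq_self_of_injective C.subtype_injective _).symm
  have hA'c : ∀ x ∈ A', ∀ c : ↥C, c * x = x * c := fun x hx c =>
    Subtype.ext (mem_centralizer_iff.1 c.2 _ (Subgroup.mem_subgroupOf.1 hx)).symm
  haveI : A'.Normal := ⟨fun x hx c => by rwa [hA'c x hx c, mul_inv_cancel_right]⟩
  have hcop : (Nat.card ↥A').Coprime A'.index := by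
    rw [← hQA]
    exact Sylow.card_coprime_index Q
  obtain ⟨K, hK⟩ := Subgroup.exists_right_complement'_of_coprime hcop
  have hKodd : Odd (Nat.card ↥K) := by
    rw [← hK.symm.index_eq_card, Nat.odd_iff, ← Nat.two_dvd_ne_zero, ← hQA]
    exact Q.not_dvd_index
  have hkey : ∀ c : ↥C, Odd (orderOf c) → c ∈ K := by
    intro c hc
    obtain ⟨⟨⟨x, hx⟩, ⟨k, hk⟩⟩, rfl⟩ := hK.2 c
    have hcom : Commute x k := (hA'c x hx k).symm
    have h1 : (x * k) ^ orderOf (x * k) = 1 := pow_orderOf_eq_one _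
    rw [hcom.mul_pow] at h1
    have hxK : x ^ orderOf (x * k) ∈ A' ⊓ K :=
      ⟨A'.pow_mem hx _, by rw [eq_inv_of_mul_eq_one_left h1]; exact K.inv_mem (K.pow_mem hk _)⟩
    rw [hK.disjoint.eq_bot, Subgroup.mem_bot] at hxK
    have hx2 : x ^ 2 = 1 := by
      obtain ⟨v, hv⟩ := Subgroup.mem_subgroupOf.1 hx
      exact Subtype.ext (by simp [sq, ← hv, Φ.a_sq])
    have hx1 : x = 1 := by
      obtain ⟨j, hj⟩ := hc
      rw [hj, pow_succ, pow_mul, hx2, one_pow, one_mul] at hxK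
      exact hxK
    show x * k ∈ K
    rw [hx1, one_mul]
    exact hk
  have hKn : (K.map C.subtype).Normal := ⟨by
    rintro _ ⟨k, hk, rfl⟩ g
    refine ⟨⟨g * k * g⁻¹, hCn.conj_mem _ k.2 g⟩, hkey _ ?_, rfl⟩
    rw [Subgroup.orderOf_mk, show g * (k : G) * g⁻¹ = MulAut.conj g (k : G) from rfl,
      MulEquiv.orderOf_eq, Subgroup.orderOf_coe]
    exact hKodd.of_dvd_nat (Subgroup.orderOf_dvd_natCard _ hk)⟩
  haveI := hKn
  have hKcard : Nat.card ↥(K.map C.subtype) = Nat.card ↥K :=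
    Subgroup.card_map_of_injective C.subtype_injective
  have hKb : K.map C.subtype = ⊥ :=
    le_bot_iff.1 (hO ▸ ZStar.Elements.le_oddCore (hKcard ▸ hKodd))
  have hK0 : K = ⊥ := (map_eq_bot_iff_of_injective _ C.subtype_injective).1 hKb
  subst hK0
  have hA'top : A' = ⊤ := Subgroup.isComplement'_bot_right.1 hK
  exact le_antisymm (fun x hx => Subgroup.mem_subgroupOf.1
    (hA'top ▸ mem_top (⟨x, hx⟩ : ↥C) : (⟨x, hx⟩ : ↥C) ∈ A')) hAC

/-- The `A`-coordinate in `S`. -/
noncomputable def proj (s : ↥S) : F × F := (Φ.exists_eq s.2).choose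

theorem proj_spec (s : ↥S) : ∃ y : F, (s : G) = Φ.a (Φ.proj s) * Φ.b (0, y) :=
  (Φ.exists_eq s.2).choose_spec

theorem proj_eq {s : ↥S} {v : F × F} {y : F} (h : (s : G) = Φ.a v * Φ.b (0, y)) :
    Φ.proj s = v := by
  obtain ⟨y', hy'⟩ := Φ.proj_spec s
  rw [h] at hy'
  have e : Φ.a (Φ.proj s + v) = Φ.b (0, y' + y) := by
    rw [show ((0 : F), y' + y) = ((0, y') : F × F) + (0, y) from Prod.ext (by simp) rfl, Φ.b_add,
      Φ.a_add]
    calc Φ.a (Φ.proj s) * Φ.a v = Φ.a (Φ.proj s) * (Φ.a v * Φ.b (0, y)) * Φ.b (0, y) := by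
          rw [← mul_assoc, mul_assoc (_ * Φ.a v), Φ.b_sq, mul_one]
      _ = Φ.b (0, y') * Φ.b (0, y) := by rw [hy', ← mul_assoc, Φ.a_sq, one_mul]
  obtain ⟨h2, hw⟩ := Φ.a_eq_b e
  exact Prod.ext (eq_of_add_eq_zero Φ.four (congrArg Prod.fst hw).symm)
    (eq_of_add_eq_zero Φ.four h2)

include hS in
/-- The affine representation. -/
theorem exists_embedding_of_normal (hO : Cfsg.oddCore G = ⊥) (hn : Φ.A.Normal)
    (hl : Φ.Linear) : ∃ f : G →* GL (Fin 3) F ⧸ Subgroup.center (GL (Fin 3) F),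
      Function.Injective f := by
  classical
  haveI := hn
  have htop : normalizer (Φ.A : Set G) = ⊤ := Subgroup.normalizer_eq_top_iff.2 hn
  have hmem : ∀ g : G, g ∈ normalizer (Φ.A : Set G) := fun g => htop ▸ mem_top g
  let ρ : G →* Perm (F × F) := Φ.act₀.comp ((MonoidHom.id G).codRestrict _ hmem)
  have hρ : ∀ g v, Φ.a (ρ g v) = g * Φ.a v * g⁻¹ := fun g v => Φ.a_act _ v
  have hρadd : ∀ g v v', ρ g (v + v') = ρ g v + ρ g v' := fun g v v' => Φ.a_inj (by
    rw [hρ, Φ.a_add, Φ.a_add, hρ, hρ]; group)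
  have hρs : ∀ g (l : F) v, ρ g (l • v) = l • ρ g v := fun g l v => Φ.a_inj
    ((hρ g _).trans (hl g (hmem g) l v _ (hρ g v).symm))
  have hρ0 : ∀ g, ρ g 0 = 0 := fun g => Φ.a_inj (by rw [hρ, Φ.a_zero]; group)
  -- the cocycle on `S`
  have hβS : ∀ s s' : ↥S, Φ.proj (s * s') = Φ.proj s + ρ s (Φ.proj s') := by
    intro s s'
    obtain ⟨y, hy⟩ := Φ.proj_spec s
    obtain ⟨y', hy'⟩ := Φ.proj_spec s'
    refine Φ.proj_eq (y := y + y') ?_
    rw [Subgroup.coe_mul, Φ.a_add, hρ,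
      show ((0 : F), y + y') = ((0, y) : F × F) + (0, y') from Prod.ext (by simp) rfl, Φ.b_add]
    have e : (s : G) * Φ.a (Φ.proj s') * (s : G)⁻¹ =
        Φ.b (0, y) * Φ.a (Φ.proj s') * (Φ.b (0, y))⁻¹ := by
      rw [hy, show Φ.a (Φ.proj s) * Φ.b (0, y) * Φ.a (Φ.proj s') *
          (Φ.a (Φ.proj s) * Φ.b (0, y))⁻¹ = Φ.a (Φ.proj s) *
          (Φ.b (0, y) * Φ.a (Φ.proj s') * (Φ.b (0, y))⁻¹) * (Φ.a (Φ.proj s))⁻¹ by group, Φ.act,
        Φ.a_comm, mul_inv_cancel_right]
    rw [e, hy, hy']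
    group
  -- averaging over a transversal
  haveI : Fintype (G ⧸ S) := Fintype.ofFinite _
  have hidx : (Fintype.card (G ⧸ S) : F) = 1 := by
    have h : Odd (Fintype.card (G ⧸ S)) := by
      rw [← Nat.card_eq_fintype_card, ← Subgroup.index_eq_card, ← hS, Nat.odd_iff,
        ← Nat.two_dvd_ne_zero]
      exact Sy.not_dvd_index
    obtain ⟨j, hj⟩ := h
    rw [hj]
    push_cast
    rw [two_eq_zero Φ.four, zero_mul, zero_add]
  have hσmem : ∀ (g : G) (q : G ⧸ S), (g • q).out⁻¹ * g * q.out ∈ S := fun g q => by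
    rw [mul_assoc, ← QuotientGroup.eq, QuotientGroup.out_eq']
    exact congrArg (fun t => g • t) (QuotientGroup.out_eq' q).symm
  let σ : G → (G ⧸ S) → ↥S := fun g q => ⟨_, hσmem g q⟩
  have hσ : ∀ g h q, σ (g * h) q = σ g (h • q) * σ h q := fun g h q => Subtype.ext (by
    simp only [σ, Subgroup.coe_mul, mul_smul]
    group)
  let β : G → F × F := fun g => ∑ q : G ⧸ S, ρ (g • q).out (Φ.proj (σ g q))
  have hρsum : ∀ (g : G) (t : G ⧸ S → F × F), ρ g (∑ q, t q) = ∑ q, ρ g (t q) := fun g t =>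
    map_sum (AddMonoidHom.mk' (fun v => ρ g v) (hρadd g)) t _
  have hρmul : ∀ g h v, ρ (g * h) v = ρ g (ρ h v) := fun g h v => by
    rw [map_mul, Perm.mul_apply]
  have hβ : ∀ g h, β (g * h) = β g + ρ g (β h) := by
    intro g h
    show ∑ q, _ = _
    simp only [hσ, hβS, hρadd]
    rw [Finset.sum_add_distrib, hρsum]
    congr 1
    · refine Fintype.sum_equiv (MulAction.toPerm h) _ _ fun q => ?_
      simp only [MulAction.toPerm_apply, mul_smul]
    · refine Finset.sum_congr rfl fun q _ => ?_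
      rw [← hρmul, ← hρmul, mul_smul]
      refine congrArg (fun t => ρ t _) ?_
      simp only [σ]
      group
  have hρA : ∀ v w, ρ (Φ.a v) w = w := fun v w => Φ.a_inj (by
    rw [hρ, Φ.a_comm, mul_inv_cancel_right])
  have hβA : ∀ v, β (Φ.a v) = v := by
    intro v
    have hsm : ∀ q : G ⧸ S, Φ.a v • q = q := fun q => by
      induction q using QuotientGroup.induction_on with
      | _ t =>
        rw [MulAction.Quotient.smul_mk, QuotientGroup.eq, smul_eq_mul]
        rw [show (Φ.a v * t)⁻¹ * t = t⁻¹ * (Φ.a v)⁻¹ * t⁻¹⁻¹ by group]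
        exact Φ.A_le (hn.conj_mem _ (inv_mem ⟨v, rfl⟩) t⁻¹)
    have hterm : ∀ q : G ⧸ S, ρ (Φ.a v • q).out (Φ.proj (σ (Φ.a v) q)) = v := fun q => by
      rw [hsm]
      have e : Φ.proj (σ (Φ.a v) q) = ρ q.out⁻¹ v := Φ.proj_eq (y := 0) (by
        rw [show ((0 : F), (0 : F)) = (0 : F × F) from rfl, Φ.b_zero, mul_one, hρ]
        simp only [σ, hsm]
        group)
      rw [e, ← hρmul, mul_inv_cancel, map_one, Perm.one_apply]
    show ∑ q, _ = v
    rw [Finset.sum_congr rfl (fun q _ => hterm q), Finset.sum_const, Finset.card_univ]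
    refine Prod.ext ?_ ?_ <;> simp [hidx]
  -- the matrices
  have hlin : ∀ g v, ρ g v = v.1 • ρ g (1, 0) + v.2 • ρ g (0, 1) := fun g v => by
    rw [← hρs, ← hρs, ← hρadd]
    exact congrArg (ρ g) (Prod.ext (by simp) (by simp))
  let M : G →* Matrix (Fin 3) (Fin 3) F :=
    { toFun := fun g => !![(ρ g (1, 0)).1, (ρ g (0, 1)).1, (β g).1;
        (ρ g (1, 0)).2, (ρ g (0, 1)).2, (β g).2; 0, 0, 1]
      map_one' := by
        have h0 : β 1 = 0 := by
          have := hβA 0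
          rwa [Φ.a_zero] at this
        ext i j
        fin_cases i <;> fin_cases j <;> simp [h0]
      map_mul' := fun g h => by
        have e1 := hlin g (ρ h (1, 0))
        have e2 := hlin g (ρ h (0, 1))
        have e3 := hlin g (β h)
        ext i j
        fin_cases i <;> fin_cases j <;>
          simp [Matrix.mul_apply, Fin.sum_univ_three, hρmul, hβ, e1, e2, e3] <;> ring }
  let f : G →* GL (Fin 3) F ⧸ Subgroup.center (GL (Fin 3) F) :=
    (QuotientGroup.mk' _).comp M.toHomUnits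
  refine ⟨f, (injective_iff_map_eq_one f).2 fun g hg => ?_⟩
  have hc := (QuotientGroup.eq_one_iff _).1 hg
  rw [Matrix.GeneralLinearGroup.center_eq_range_scalar] at hc
  obtain ⟨r, hr⟩ := hc
  have hM : Matrix.scalar (Fin 3) (r : F) = M g := congrArg Units.val hr
  have hr1 : (r : F) = 1 := by
    have := congrFun (congrFun hM 2) 2
    simpa [M] using this
  rw [hr1, map_one] at hM
  have he : ∀ i j, M g i j = (1 : Matrix (Fin 3) (Fin 3) F) i j := fun i j => by rw [← hM]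
  have h00 := he 0 0
  have h10 := he 1 0
  have h01 := he 0 1
  have h11 := he 1 1
  have h02 := he 0 2
  have h12 := he 1 2
  simp [M] at h00 h10 h01 h11 h02 h12
  have hgA : g ∈ Φ.A := by
    rw [← Φ.centralizer_eq hS hO hn]
    refine mem_centralizer_iff.2 ?_
    rintro _ ⟨v, rfl⟩
    have e : ρ g v = v := by
      rw [hlin, show ρ g (1, 0) = (1, 0) from Prod.ext h00 h10,
        show ρ g (0, 1) = (0, 1) from Prod.ext h01 h11]
      refine Prod.ext ?_ ?_ <;> simp
    have e' := hρ g v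
    rw [e] at e'
    exact eq_mul_inv_iff_mul_eq.1 e'
  obtain ⟨v, rfl⟩ := hgA
  rw [hβA] at h02 h12
  rw [show v = 0 from Prod.ext h02 h12, Φ.a_zero]

end Frame

end Cfsg.Agent.Lib.L34Sylow67
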