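import Cfsg.Agent.Lib.L34Sylow67.ClosedNormal
import Cfsg.Agent.Lib.L34Sylow67.Normal
import Cfsg.Agent.Lib.Dichotomy34.Main
import Cfsg.Agent.Lib.StrongEmb10.Main
import Cfsg.Agent.Lib.BenderOne.Final
import Cfsg.Agent.Lib.FTDeps.Row0516
import Cfsg.Agent.Lib.Cores.Basic

/-!
# Both subgroups move the axis: the centralisers of involutions

helper67.  There is one class of involutions and no subgroup of index 2; the centralisers of
involutions are solvable, so their odd cores are trivial and `C(z) ≤ N(S)`.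
-/

set_option autoImplicit false
set_option linter.unusedSectionVars false
set_option linter.style.haveILetI false

open Subgroup

namespace Cfsg.Agent.Lib.L34Sylow67

open Goldschmidt53 (PropSimple)

universe u w

namespace Frame

variable {G : Type u} [Group G] [Finite G] {F : Type w} [Field F] [Fintype F] {S : Subgroup G}
  (Φ : Frame F S)

/-- The coordinates, inside a subgroup containing `S`. -/
def restrict (H : Subgroup G) (h : S ≤ H) : Frame F (S.subgroupOf H) where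
  a v := ⟨Φ.a v, h (Φ.a_mem v)⟩
  b v := ⟨Φ.b v, h (Φ.b_mem v)⟩
  a_mem v := Subgroup.mem_subgroupOf.2 (Φ.a_mem v)
  b_mem v := Subgroup.mem_subgroupOf.2 (Φ.b_mem v)
  a_add v v' := Subtype.ext (Φ.a_add v v')
  b_add v v' := Subtype.ext (Φ.b_add v v')
  a_inj _ _ e := Φ.a_inj (congrArg Subtype.val e)
  b_inj _ _ e := Φ.b_inj (congrArg Subtype.val e)
  axis x := Subtype.ext (Φ.axis x)
  act v w := Subtype.ext (Φ.act v w)
  four := Φ.four
  card := (Nat.card_congr (Subgroup.subgroupOfEquivOfLe h).toEquiv).trans Φ.card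

variable {Sy : Sylow 2 G} (hS : (Sy : Subgroup G) = S)
include hS

/-- If an element of the axis is central, both subgroups are normal. -/
theorem normal_of_central (hP : PropSimple.{u}) (hO : Cfsg.oddCore G = ⊥) {x : F} (hx : x ≠ 0)
    (hc : ∀ g : G, g * Φ.a (x, 0) = Φ.a (x, 0) * g) : Φ.A.Normal ∧ Φ.B.Normal := by
  have key : ∀ Ψ : Frame F S, (∀ g : G, g * Ψ.a (x, 0) = Ψ.a (x, 0) * g) →
      Cfsg.IsStronglyClosed Ψ.B S := by
    intro Ψ hΨ
    refine (Ψ.closed_or_moves Sy hS).resolve_right ?_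
    rintro ⟨n, hn, z, hz⟩
    refine hz (Ψ.axis_stable Sy hS hn hx ?_ z)
    rw [hΨ n, mul_inv_cancel_right, Ψ.mem_B_iff]
  exact ⟨Φ.normal_of_closed hS hP hO (key Φ.symm fun g => by
      show g * Φ.b (x, 0) = Φ.b (x, 0) * g
      rw [← Φ.axis]; exact hc g),
    Φ.symm.normal_of_closed hS hP hO (key Φ hc)⟩

omit hS in
/-- If both subgroups are normal, so is `S`. -/
theorem normal_S (hA : Φ.A.Normal) (hB : Φ.B.Normal) : S.Normal := by
  refine ⟨fun s hs g => ?_⟩
  obtain ⟨v, y, rfl⟩ := Φ.exists_eq hs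
  rw [show g * (Φ.a v * Φ.b (0, y)) * g⁻¹ = g * Φ.a v * g⁻¹ * (g * Φ.b (0, y) * g⁻¹) by group]
  exact mul_mem (Φ.A_le (hA.conj_mem _ ⟨v, rfl⟩ g)) (Φ.B_le (hB.conj_mem _ ⟨_, rfl⟩ g))

/-- The centralisers of the involutions of the axis are solvable. -/
theorem isSolvable_centralizer (hP : PropSimple.{u}) {x : F} (hx : x ≠ 0) :
    Group.IsSolvable ↥(centralizer ({Φ.a (x, 0)} : Set G)) := by
  haveI : Fact (Nat.Prime 2) := ⟨Nat.prime_two⟩
  set C := centralizer ({Φ.a (x, 0)} : Set G) with hC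
  have hSC : S ≤ C := fun s hs => mem_centralizer_singleton_iff.2 (Φ.axis_comm hs x)
  set O := Cfsg.oddCore ↥C with hOdef
  haveI hOn : O.Normal := Cfsg.pPrimeCore_normal 2 ↥C
  set π := QuotientGroup.mk' O with hπ
  have hOodd : Odd (Nat.card ↥O) := ZStar.Elements.oddCore_odd
  have hinj : ∀ s ∈ S.subgroupOf C, π s = 1 → s = 1 := by
    intro s hs h1
    have hsO : s ∈ O := (QuotientGroup.eq_one_iff s).1 h1
    obtain ⟨k, hk⟩ := IsPGroup.iff_orderOf.1 Sy.2 ⟨(s : G), hS ▸ Subgroup.mem_subgroupOf.1 hs⟩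
    rw [Subgroup.orderOf_mk, Subgroup.orderOf_coe] at hk
    exact orderOf_eq_one_iff.1 (Nat.eq_one_of_dvd_coprimes
      (Nat.Coprime.pow_left k (Nat.coprime_two_left.2 hOodd)) (dvd_of_eq hk)
      (Subgroup.orderOf_dvd_natCard O hsO))
  let Ψ := (Φ.restrict C hSC).map π hinj
  let T : Sylow 2 (↥C ⧸ O) :=
    (Sy.subtype (hS ▸ hSC)).mapSurjective (f := π) (QuotientGroup.mk'_surjective O)
  have hT : (T : Subgroup (↥C ⧸ O)) = (S.subgroupOf C).map π := by
    simp only [T, Sylow.coe_mapSurjective, Sylow.coe_subtype, hS]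
  have hOQ : Cfsg.oddCore (↥C ⧸ O) = ⊥ := Cores.pPrimeCore_quotient_pPrimeCore 2
  have hcen : ∀ g : ↥C ⧸ O, g * Ψ.a (x, 0) = Ψ.a (x, 0) * g := by
    intro g
    obtain ⟨c, rfl⟩ := QuotientGroup.mk'_surjective O g
    show π c * π ⟨Φ.a (x, 0), _⟩ = π ⟨Φ.a (x, 0), _⟩ * π c
    rw [← map_mul, ← map_mul]
    exact congrArg π (Subtype.ext (mem_centralizer_singleton_iff.1 c.2))
  obtain ⟨hA, hB⟩ := Ψ.normal_of_central hT hP hOQ hx hcen
  haveI hTn : (T : Subgroup (↥C ⧸ O)).Normal := hT ▸ Ψ.normal_S hA hB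
  haveI : Group.IsSolvable ((↥C ⧸ O) ⧸ (T : Subgroup (↥C ⧸ O))) :=
    OddOrder.FeitThompson.isSolvable_of_odd_card (by
      rw [← Subgroup.index_eq_card, Nat.odd_iff, ← Nat.two_dvd_ne_zero]
      exact T.not_dvd_index)
  haveI : Group.IsSolvable (↥C ⧸ O) := by
    rw [Group.isSolvable_iff_subgroup_quotient (T : Subgroup (↥C ⧸ O))]
    haveI := T.2.isNilpotent
    exact ⟨inferInstance, inferInstance⟩
  rw [Group.isSolvable_iff_subgroup_quotient O]
  exact ⟨OddOrder.FeitThompson.isSolvable_of_odd_card hOodd, inferInstance⟩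

omit hS in
/-- The consequences used by the plane. -/
structure Geometry (Φ : Frame F S) : Prop where
  linA : Φ.Linear
  linB : Φ.symm.Linear
  transA : ∀ v v' : F × F, v ≠ 0 → v' ≠ 0 →
    ∃ n ∈ normalizer (Φ.A : Set G), n * Φ.a v * n⁻¹ = Φ.a v'
  transB : ∀ v v' : F × F, v ≠ 0 → v' ≠ 0 →
    ∃ n ∈ normalizer (Φ.B : Set G), n * Φ.b v * n⁻¹ = Φ.b v'
  cent : ∀ x : F, x ≠ 0 → centralizer ({Φ.a (x, 0)} : Set G) ≤ normalizer (S : Set G)
  self : ∀ g : G, (∀ s ∈ S, g * s = s * g) → Odd (orderOf g) → g = 1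
  noIndexTwo : ∀ N : Subgroup G, N.index ≠ 2

/-- The geometry when both subgroups move the axis. -/
theorem geometry (hP : PropSimple.{u}) (hO : Cfsg.oddCore G = ⊥) (hlA : Φ.Linear)
    (hlB : Φ.symm.Linear) (hmA : Φ.Moves) (hmB : Φ.symm.Moves) : Φ.Geometry := by
  haveI : Fact (Nat.Prime 2) := ⟨Nat.prime_two⟩
  obtain ⟨n, hn, z, hz⟩ := hmA
  obtain ⟨n', hn', z', hz'⟩ := hmB
  have htA : ∀ v v' : F × F, v ≠ 0 → v' ≠ 0 →
      ∃ m ∈ normalizer (Φ.A : Set G), m * Φ.a v * m⁻¹ = Φ.a v' := fun v v' =>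
    Φ.trans Sy hS hlA hn hz
  have htB : ∀ v v' : F × F, v ≠ 0 → v' ≠ 0 →
      ∃ m ∈ normalizer (Φ.B : Set G), m * Φ.b v * m⁻¹ = Φ.b v' := fun v v' =>
    Φ.symm.trans Sy hS hlB hn' hz'
  -- no subgroup of index 2
  have hidx : ∀ N : Subgroup G, N.index ≠ 2 := by
    intro N hN
    haveI := Subgroup.normal_of_index_eq_two hN
    have one : ∀ Ψ : Frame F S, (∀ v v' : F × F, v ≠ 0 → v' ≠ 0 →
        ∃ m ∈ normalizer (Ψ.A : Set G), m * Ψ.a v * m⁻¹ = Ψ.a v') → Ψ.A ≤ N := by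
      intro Ψ ht
      rintro _ ⟨v, rfl⟩
      rcases eq_or_ne v 0 with rfl | hv
      · rw [Ψ.a_zero]; exact one_mem N
      by_contra hvN
      have hall : ∀ v', v' ≠ (0 : F × F) → Ψ.a v' ∉ N := fun v' hv' h => by
        obtain ⟨m, -, e⟩ := ht v' v hv' hv
        exact hvN (e ▸ Subgroup.Normal.conj_mem inferInstance _ h m)
      have h11 : Ψ.a ((1 : F), (1 : F)) ∈ N := by
        rw [show ((1 : F), (1 : F)) = ((1, 0) : F × F) + (0, 1) from Prod.ext (by simp) (by simp),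
          Ψ.a_add, Subgroup.mul_mem_iff_of_index_two hN]
        exact iff_of_false (hall _ (by simp)) (hall _ (by simp))
      exact hall _ (by simp) h11
    have hSN : S ≤ N := fun s hs => by
      obtain ⟨v, y, rfl⟩ := Φ.exists_eq hs
      exact mul_mem (one Φ htA ⟨v, rfl⟩) (one Φ.symm htB ⟨_, rfl⟩)
    have h := Subgroup.index_dvd_of_le hSN
    rw [hN, ← hS] at h
    exact Sy.not_dvd_index h
  -- one class of involutions
  have hclass : ∀ t : G, orderOf t = 2 → ∃ g : G, g * t * g⁻¹ = Φ.a (1, 0) := by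
    intro t ht
    obtain ⟨g, hg⟩ := exists_conj_sylow Sy (R := Subgroup.zpowers t)
      (IsPGroup.of_card (n := 1) (by rw [Nat.card_zpowers, ht, pow_one]))
    have htS : g * t * g⁻¹ ∈ S := hS ▸ hg t (Subgroup.mem_zpowers t)
    have ht2 : g * t * g⁻¹ * (g * t * g⁻¹) = 1 := by
      rw [show g * t * g⁻¹ * (g * t * g⁻¹) = g * (t * t) * g⁻¹ by group, ← sq, ← ht,
        pow_orderOf_eq_one]
      group
    have hne : g * t * g⁻¹ ≠ 1 := fun e => by
      rw [conj_eq_one_iff.1 e, orderOf_one] at ht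
      omega
    rcases Φ.invol htS ht2 with ⟨v, hv⟩ | ⟨v, hv⟩
    · obtain ⟨m, -, hm⟩ := htA v (1, 0) (fun e => hne (by rw [← hv, e, Φ.a_zero])) (by simp)
      exact ⟨m * g, by rw [← hm, hv]; group⟩
    · obtain ⟨m, -, hm⟩ := htB v (1, 0) (fun e => hne (by rw [← hv, e, Φ.b_zero])) (by simp)
      exact ⟨m * g, by rw [Φ.axis, ← hm, hv]; group⟩
  have hsolv : ∀ t : G, orderOf t = 2 → Group.IsSolvable ↥(centralizer ({t} : Set G)) := by
    intro t ht
    obtain ⟨g, hg⟩ := hclass t ht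
    haveI := Φ.isSolvable_centralizer hS hP (one_ne_zero (α := F))
    let f : ↥(centralizer ({t} : Set G)) →* ↥(centralizer ({Φ.a (1, 0)} : Set G)) :=
      ((MulAut.conj g).toMonoidHom.comp (Subgroup.subtype _)).codRestrict _ fun c => by
        rw [mem_centralizer_singleton_iff, ← hg]
        show MulAut.conj g (c : G) * MulAut.conj g t = MulAut.conj g t * MulAut.conj g (c : G)
        rw [← map_mul, ← map_mul, mem_centralizer_singleton_iff.1 c.2]
    exact Group.isSolvable_of_isSolvable_injective (f := f) fun a b e =>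
      Subtype.ext ((MulAut.conj g).injective (congrArg Subtype.val e))
  have hnc : ¬ Cfsg.IsComponentType G := by
    rintro ⟨t, ht, L, -, hLp, hLs⟩
    haveI := hsolv t ht
    haveI : Group.IsSolvable (↥(centralizer ({t} : Set G)) ⧸
        Cfsg.oddCore ↥(centralizer ({t} : Set G))) :=
      Group.isSolvable_of_surjective (f := QuotientGroup.mk' _) (QuotientGroup.mk'_surjective _)
    haveI : Group.IsSolvable ↥L :=
      Group.isSolvable_of_isSolvable_injective (f := L.subtype) L.subtype_injective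
    haveI : Nontrivial (↥L ⧸ Subgroup.center ↥L) := hLs.toNontrivial
    haveI : Nontrivial ↥L :=
      Function.Surjective.nontrivial (QuotientGroup.mk'_surjective (Subgroup.center ↥L))
    exact (Group.IsSolvable.commutator_lt_top_of_nontrivial ↥L).ne hLp.commutator_eq_top
  have h3 : ¬ Cfsg.PRankLE 2 2 G := fun h => by
    have := h Φ.A Φ.elem_A.1 Φ.elem_A.2
    rw [Φ.card_A] at this
    norm_num at this
  obtain ⟨X⟩ := Dichotomy34.exists_ctx h3 hnc
  have hBender : BenderDeps.Row3109.CoreOfStronglyEmbedded.{u} :=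
    fun _ _ _ _ hH => StrongEmb10.row1221 BenderOne.propPartOneFinal hH
  have hcent : ∀ x : F, x ≠ 0 → centralizer ({Φ.a (x, 0)} : Set G) ≤ normalizer (S : Set G) ∧
      ∀ g ∈ centralizer ({Φ.a (x, 0)} : Set G), (∀ a ∈ Φ.A, g * a = a * g) → g ∈ Φ.A := by
    intro x hx
    set C := centralizer ({Φ.a (x, 0)} : Set G) with hC
    have hSC : S ≤ C := fun s hs => mem_centralizer_singleton_iff.2 (Φ.axis_comm hs x)
    have hne : Φ.a (x, 0) ≠ 1 := fun e => hx (congrArg Prod.fst (Φ.a_inj (e.trans Φ.a_zero.symm)))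
    have hord : orderOf (Φ.a (x, 0)) = 2 :=
      orderOf_eq_prime (by rw [sq, Φ.a_sq]) hne
    have hcore : Cfsg.oddCore ↥C = ⊥ := by
      have h0 := X.cores_eq_bot hBender hidx hO hord
      exact (Subgroup.map_eq_bot_iff_of_injective _ C.subtype_injective).1 h0
    have hT : ((Sy.subtype (hS ▸ hSC) : Sylow 2 ↥C) : Subgroup ↥C) = S.subgroupOf C := by
      rw [Sylow.coe_subtype, hS]
    obtain ⟨hA, hB⟩ := (Φ.restrict C hSC).normal_of_central hT hP hcore hx fun g =>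
      Subtype.ext (mem_centralizer_singleton_iff.1 g.2)
    have hn := (Φ.restrict C hSC).normal_S hA hB
    have hCA := (Φ.restrict C hSC).centralizer_eq hT hcore hA
    refine ⟨fun g hg => Subgroup.mem_normalizer_iff.2 fun s => ⟨fun hs => ?_, fun hs => ?_⟩,
      fun g hg hga => ?_⟩
    · exact Subgroup.mem_subgroupOf.1
        (hn.conj_mem ⟨s, hSC hs⟩ (Subgroup.mem_subgroupOf.2 hs) ⟨g, hg⟩)
    · have := Subgroup.mem_subgroupOf.1
        (hn.conj_mem ⟨_, hSC hs⟩ (Subgroup.mem_subgroupOf.2 hs) ⟨g⁻¹, inv_mem hg⟩)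
      simpa [mul_assoc] using this
    · have hmem : (⟨g, hg⟩ : ↥C) ∈ (Φ.restrict C hSC).A := by
        rw [← hCA]
        refine mem_centralizer_iff.2 ?_
        rintro _ ⟨v, rfl⟩
        exact Subtype.ext (hga _ ⟨v, rfl⟩).symm
      obtain ⟨v, hv⟩ := hmem
      exact ⟨v, congrArg Subtype.val hv⟩
  refine ⟨hlA, hlB, htA, htB, fun x hx => (hcent x hx).1, fun g hg hodd => ?_, hidx⟩
  obtain ⟨v, hv⟩ := (hcent 1 one_ne_zero).2 g
    (mem_centralizer_singleton_iff.2 (hg _ (Φ.a_mem _))) fun a ha => hg a (Φ.A_le ha)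
  refine orderOf_eq_one_iff.1 ?_
  obtain ⟨j, hj⟩ := hodd
  have h2 : orderOf g ∣ 2 := orderOf_dvd_of_pow_eq_one (by rw [sq, ← hv, Φ.a_sq])
  rcases (Nat.dvd_prime Nat.prime_two).1 h2 with h | h
  · exact h
  · omega

end Frame

end Cfsg.Agent.Lib.L34Sylow67
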