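import Mathlib

/-!
# The field with four elements

helper67.
-/

set_option autoImplicit false

namespace Cfsg.Agent.Lib.L34Sylow67

universe u

/-- A field with four elements. -/
def IsFour (F : Type u) [Field F] [Fintype F] : Prop := Fintype.card F = 4

variable {F : Type u} [Field F] [Fintype F] (hF : IsFour F)
include hF

theorem two_eq_zero : (2 : F) = 0 := by
  have h := FiniteField.cast_card_eq_zero F
  rw [hF] at h
  have h' : (2 : F) * 2 = 0 := by
    rw [← h]; norm_num
  exact mul_self_eq_zero.1 h'

theorem add_self (x : F) : x + x = 0 := by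
  rw [← two_mul, two_eq_zero hF, zero_mul]

theorem add_add_self (x y : F) : x + (x + y) = y := by
  rw [← add_assoc, add_self hF, zero_add]

theorem add_add_self' (x y : F) : x + y + y = x := by
  rw [add_assoc, add_self hF, add_zero]

theorem eq_of_add_eq_zero {x y : F} (h : x + y = 0) : x = y := by
  have h' := congrArg (fun t => t + y) h
  simpa [add_assoc, add_self hF] using h'

theorem neg_eq (x : F) : -x = x := neg_eq_of_add_eq_zero_left (add_self hF x)

/-- The four elements, given one outside the prime field. -/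
theorem cases_four {c : F} (h0 : c ≠ 0) (h1 : c ≠ 1) (x : F) :
    x = 0 ∨ x = 1 ∨ x = c ∨ x = c + 1 := by
  classical
  have hc : c + 1 ≠ 0 := fun h => h1 (eq_of_add_eq_zero hF h)
  have hc' : c + 1 ≠ 1 := fun h => h0 (by simpa using h)
  have hcc : c + 1 ≠ c := fun h => one_ne_zero (α := F) (by simpa using h)
  have hcard : ({0, 1, c, c + 1} : Finset F).card = 4 := by
    simp [Finset.card_insert_of_notMem, h0.symm, h1.symm, hc.symm, hc'.symm, hcc.symm]
  have huniv : ({0, 1, c, c + 1} : Finset F) = Finset.univ :=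
    Finset.eq_univ_of_card _ (hcard.trans hF.symm)
  have h := Finset.mem_univ x
  rw [← huniv] at h
  simpa using h

theorem sq_eq {c : F} (h0 : c ≠ 0) (h1 : c ≠ 1) : c * c = c + 1 := by
  rcases cases_four hF h0 h1 (c * c) with h | h | h | h
  · exact absurd (mul_self_eq_zero.1 h) h0
  · exfalso
    refine h1 (eq_of_add_eq_zero hF (mul_self_eq_zero.1 ?_))
    calc (c + 1) * (c + 1) = c * c + (c + c) + 1 := by ring
      _ = 0 := by rw [h, add_self hF, add_zero, add_self hF]
  · exact absurd (mul_left_cancel₀ h0 (h.trans (mul_one c).symm)) h1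
  · exact h

theorem exists_gen : ∃ c : F, c ≠ 0 ∧ c ≠ 1 ∧ c * c = c + 1 := by
  classical
  obtain ⟨c, hc⟩ : ∃ c : F, c ∉ ({0, 1} : Finset F) := by
    by_contra! h
    have h' := Finset.card_le_card (fun x _ => h x : (Finset.univ : Finset F) ⊆ {0, 1})
    rw [Finset.card_univ, hF, Finset.card_pair zero_ne_one] at h'
    omega
  simp only [Finset.mem_insert, Finset.mem_singleton, not_or] at hc
  exact ⟨c, hc.1, hc.2, sq_eq hF hc.1 hc.2⟩

/-- Agreement on a basis over the prime field. -/
theorem additive_ext {f g : F → F} (hf : ∀ x y, f (x + y) = f x + f y)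
    (hg : ∀ x y, g (x + y) = g x + g y) {c : F} (h0 : c ≠ 0) (h1 : c ≠ 1)
    (e1 : f 1 = g 1) (ec : f c = g c) (x : F) : f x = g x := by
  have z : ∀ h : F → F, (∀ x y, h (x + y) = h x + h y) → h 0 = 0 := fun h hh => by
    have := hh 0 0
    simpa using this
  rcases cases_four hF h0 h1 x with rfl | rfl | rfl | rfl
  · rw [z f hf, z g hg]
  · exact e1
  · exact ec
  · rw [hf, hg, e1, ec]

theorem add_mul_add (x y : F) : (x + y) * (x + y) = x * x + y * y := by
  calc (x + y) * (x + y) = x * x + y * y + (x * y + x * y) := by ring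
    _ = x * x + y * y := by rw [add_self hF, add_zero]

/-- An additive multiplicative map is the identity or squaring. -/
theorem eq_id_or_sq {ν : F → F} (ha : ∀ x y, ν (x + y) = ν x + ν y) (h1 : ν 1 = 1)
    (hm : ∀ x y, ν (x * y) = ν x * ν y) : (∀ x, ν x = x) ∨ ∀ x, ν x = x * x := by
  obtain ⟨c, hc0, hc1, hcc⟩ := exists_gen hF
  have h0 : ν 0 = 0 := by
    have := ha 0 0
    simpa using this
  have hv : ν c * ν c = ν c + 1 := by rw [← hm, hcc, ha, h1]
  rcases cases_four hF hc0 hc1 (ν c) with h | h | h | h
  · rw [h] at hv; simp at hv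
  · rw [h, add_self hF] at hv; simp at hv
  · exact Or.inl fun x => additive_ext hF ha (g := id) (fun _ _ => rfl) hc0 hc1 h1 h x
  · exact Or.inr fun x => additive_ext hF ha (g := fun x => x * x) (add_mul_add hF) hc0 hc1
      (by rw [h1, one_mul]) (by rw [h, hcc]) x

/-- The antilinear part of an additive map, for a generator `c`. -/
theorem decomp {f : F → F} (hf : ∀ x y, f (x + y) = f x + f y) {c : F} (h0 : c ≠ 0) (h1 : c ≠ 1)
    (x : F) :
    f x = (f 1 + (f c + c * f 1)) * x + (f c + c * f 1) * (x * x) := by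
  have hcc := sq_eq hF h0 h1
  refine additive_ext hF hf
    (g := fun x => (f 1 + (f c + c * f 1)) * x + (f c + c * f 1) * (x * x))
    (fun x y => ?_) h0 h1 ?_ ?_ x
  · simp only [add_mul_add hF]; ring
  · simp only [mul_one]; rw [add_assoc, add_self hF, add_zero]
  · calc f c = f c + 0 * (c + 1) := by ring
      _ = f c + (c * f 1 + c * f 1) + ((f c + c * f 1) * c + (f c + c * f 1) * c) := by
          simp only [add_self hF, zero_mul, add_zero]
      _ = (f 1 + (f c + c * f 1)) * c + (f c + c * f 1) * (c * c) := by rw [hcc]; ring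

end Cfsg.Agent.Lib.L34Sylow67
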