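import Cfsg.Agent.Lib.L34Sylow67.Shear

/-!
# Groups with a shear group as Sylow 2-subgroup are linear over the field with four elements

helper67.  After a change of the complement of the first axis every element commutes with the
scalars.  If the axis is moved, all five lines are images of the axis and the group is transitive
on non-zero points.
-/

set_option autoImplicit false
set_option linter.unusedSectionVars false
set_option linter.style.haveILetI false

open Equiv

namespace Cfsg.Agent.Lib.L34Sylow67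

universe u

variable {F : Type u} [Field F] [Fintype F] (hF : IsFour F)

/-- The change of complement by an additive map `q`. -/
def tau (q : F →+ F) : Perm (F × F) where
  toFun v := (v.1 + q v.2, v.2)
  invFun v := (v.1 - q v.2, v.2)
  left_inv v := by simp
  right_inv v := by simp

@[simp] theorem tau_apply (q : F →+ F) (v : F × F) : tau q v = (v.1 + q v.2, v.2) := rfl

/-- A map commuting with the scalars. -/
def IsLin (g : Perm (F × F)) : Prop := ∀ (l : F) (v : F × F), g (l • v) = l • g v

theorem isLin_one : IsLin (1 : Perm (F × F)) := fun _ _ => rfl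

theorem isLin_mul {g k : Perm (F × F)} (hg : IsLin g) (hk : IsLin k) : IsLin (g * k) :=
  fun l v => by rw [Perm.mul_apply, hk, hg, Perm.mul_apply]

theorem isLin_inv {g : Perm (F × F)} (hg : IsLin g) : IsLin g⁻¹ := fun l v => by
  apply g.injective
  rw [hg]
  simp

theorem isLin_sh (l : F) : IsLin (sh l) := fun m v => by
  refine Prod.ext ?_ rfl
  simp only [sh_apply, Prod.smul_fst, Prod.smul_snd, smul_eq_mul]
  ring

theorem pair_smul (l a : F) : ((l * a, (0 : F)) : F × F) = l • (a, 0) :=
  Prod.ext rfl (by simp)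

include hF in
theorem tau_mul_self (q : F →+ F) : tau q * tau q = 1 := by
  refine Perm.ext fun v => Prod.ext ?_ rfl
  simp only [Perm.mul_apply, tau_apply, Perm.one_apply]
  rw [add_assoc, add_self hF, add_zero]

include hF in
theorem tau_inv (q : F →+ F) : (tau q)⁻¹ = tau q := inv_eq_of_mul_eq_one_right (tau_mul_self hF q)

theorem tau_sh (q : F →+ F) (l : F) : tau q * sh l = sh l * tau q := by
  refine Perm.ext fun v => Prod.ext ?_ rfl
  simp only [Perm.mul_apply, tau_apply, sh_apply]
  ring

theorem tau_add_apply (q : F →+ F) (v w : F × F) : tau q (v + w) = tau q v + tau q w := by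
  refine Prod.ext ?_ rfl
  simp only [tau_apply, Prod.fst_add, Prod.snd_add, map_add]
  ring

namespace Small

variable {X : Subgroup (Perm (F × F))} (h : Small X)
include h

include hF in
/-- If squares of `L`-complement elements lie in `L` and 2-elements do, `L` is everything. -/
theorem top_of_squares {Q : Perm (F × F) → Prop} (hmul : ∀ g ∈ X, ∀ k ∈ X, Q g → Q k → Q (g * k))
    (hinv : ∀ g ∈ X, Q g → Q g⁻¹) (h1 : Q 1)
    (hconj : ∀ g ∈ X, ∀ l : F, Q (g * sh l * g⁻¹))
    (hsq : ∀ g ∈ X, Q (g * g)) {g : Perm (F × F)} (hg : g ∈ X) : Q g := by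
  have hpos : 0 < orderOf g := orderOf_pos g
  obtain ⟨a, m, hm, ham⟩ := Nat.exists_eq_two_pow_mul_odd hpos.ne'
  have h2 : (g ^ m) ^ 2 ^ a = 1 := by
    rw [← pow_mul, mul_comm, ← ham, pow_orderOf_eq_one]
  obtain ⟨k, hk, l, hl⟩ := h.exists_conj_elt hF (pow_mem hg m) h2
  have hgm : Q (g ^ m) := by
    have e : g ^ m = k⁻¹ * sh l * k⁻¹⁻¹ := by rw [← hl]; group
    rw [e]
    exact hconj _ (inv_mem hk) l
  obtain ⟨j, rfl⟩ := hm
  have hpow : ∀ i : ℕ, Q ((g * g) ^ i) := by
    intro i
    induction i with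
    | zero => simpa using h1
    | succ i ih =>
      rw [pow_succ]
      exact hmul _ (pow_mem (mul_mem hg hg) i) _ (mul_mem hg hg) ih (hsq g hg)
  have e : g = ((g * g) ^ j)⁻¹ * g ^ (2 * j + 1) := by
    rw [← pow_two, ← pow_mul, pow_succ, inv_mul_cancel_left]
  rw [e]
  exact hmul _ (inv_mem (pow_mem (mul_mem hg hg) j)) _ (pow_mem hg _)
    (hinv _ (pow_mem (mul_mem hg hg) j) (hpow j)) hgm

include hF in
/-- Conjugation by a change of complement preserves the hypotheses. -/
theorem conj_tau (q : F →+ F) : Small (X.map (MulAut.conj (tau q)).toMonoidHom) := by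
  refine ⟨?_, fun l => ⟨sh l, h.shear l, ?_⟩, ?_⟩
  · rintro _ ⟨g, hg, rfl⟩ v w
    simp only [MulEquiv.coe_toMonoidHom, MulAut.conj_apply, tau_inv hF, Perm.mul_apply]
    rw [tau_add_apply, h.add g hg, tau_add_apply]
  · simp only [MulEquiv.coe_toMonoidHom, MulAut.conj_apply]
    rw [tau_sh, mul_inv_cancel_right]
  · rw [Subgroup.card_map_of_injective (MulAut.conj (tau q)).injective]
    exact h.two

include hF in
/-- If an element maps the first axis to the second, the group is linear, and every non-zero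
point is an image of `(1, 0)` up to scalars. -/
theorem linear_of_swap {x₀ : Perm (F × F)} (hx₀ : x₀ ∈ X) (hswap : ∀ a, (x₀ (a, 0)).1 = 0) :
    (∀ g ∈ X, IsLin g) ∧
      ∀ v : F × F, v ≠ 0 → ∃ g ∈ X, ∃ a : F, a ≠ 0 ∧ g (a, 0) = v := by
  classical
  let π : F → F := fun a => (x₀ (a, 0)).2
  have hπ : ∀ a, x₀ (a, 0) = (0, π a) := fun a => Prod.ext (hswap a) rfl
  have hπi : Function.Injective π := fun a b e =>
    congrArg Prod.fst (x₀.injective (by rw [hπ, hπ, e] : x₀ (a, 0) = x₀ (b, 0)))
  have hπs := Finite.surjective_of_injective hπi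
  set y : F → Perm (F × F) := fun l => x₀ * sh l * x₀⁻¹ with hy
  have hyX : ∀ l, y l ∈ X := fun l => mul_mem (mul_mem hx₀ (h.shear l)) (inv_mem hx₀)
  -- the conjugate shears
  let m : F → F → F := fun l a => π (l * (x₀⁻¹ (a, 0)).2)
  have hy2 : ∀ l b, y l (0, b) = (0, b) := by
    intro l b
    obtain ⟨c, rfl⟩ := hπs b
    have e : x₀⁻¹ (0, π c) = (c, 0) := by rw [← hπ]; simp
    show x₀ (sh l (x₀⁻¹ (0, π c))) = _
    rw [e, sh_apply]
    simp only [mul_zero, add_zero]
    exact hπ c
  have hy1 : ∀ l a, y l (a, 0) = (a, m l a) := by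
    intro l a
    show x₀ (sh l (x₀⁻¹ (a, 0))) = _
    have e : sh l (x₀⁻¹ (a, 0)) = x₀⁻¹ (a, 0) + (l * (x₀⁻¹ (a, 0)).2, 0) :=
      Prod.ext rfl (by simp)
    rw [e, h.add x₀ hx₀, hπ]
    refine Prod.ext ?_ ?_
    · simp
    · simp [m]
  have hsnd : ∀ a, a ≠ 0 → (x₀⁻¹ (a, 0)).2 ≠ 0 := by
    intro a ha e
    have e' : x₀⁻¹ (a, 0) = ((x₀⁻¹ (a, 0)).1, 0) := Prod.ext rfl e
    have := congrArg x₀ e'
    rw [hπ] at this
    exact ha (by simpa using congrArg Prod.fst this)
  have hπ0 : π 0 = 0 := by
    show (x₀ ((0 : F), (0 : F))).2 = 0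
    rw [show ((0 : F), (0 : F)) = (0 : F × F) from rfl, h.map_zero hx₀]
    rfl
  have hm0 : ∀ l a, l ≠ 0 → a ≠ 0 → m l a ≠ 0 := fun l a hl ha e =>
    mul_ne_zero hl (hsnd a ha) (hπi (e.trans hπ0.symm))
  -- they are linear
  have hmlin : ∀ l a, m l a = m l 1 * a := by
    intro l a
    rcases eq_or_ne l 0 with rfl | hl
    · simp [m, hπ0]
    set t := (m l 1)⁻¹ with ht
    set g := (y l)⁻¹ * (sh t * x₀) with hg
    have hgX : g ∈ X := mul_mem (inv_mem (hyX l)) (mul_mem (h.shear t) hx₀)
    obtain ⟨c, hc⟩ := hπs (m l 1)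
    have hgc : g (c, 0) = (1, 0) := by
      rw [hg, Perm.mul_apply, Perm.mul_apply, hπ, hc, Perm.inv_def, Equiv.symm_apply_eq]
      rw [hy1, sh_apply]
      simp only [zero_add, ht, inv_mul_cancel₀ (hm0 l 1 hl one_ne_zero)]
    have hc0 : c ≠ 0 := fun e => hm0 l 1 hl one_ne_zero (by rw [← hc, e, hπ0])
    have hg0 : Fix0 g := h.fix0_of_meet hF hgX hc0 (by rw [hgc])
    obtain ⟨b, hb⟩ : ∃ b, g (b, 0) = (a, 0) := by
      have h' := h.fix0_inv hF hg0 a
      refine ⟨(g⁻¹ (a, 0)).1, ?_⟩
      rw [show ((g⁻¹ (a, 0)).1, (0 : F)) = g⁻¹ (a, 0) from Prod.ext rfl h'.symm]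
      simp
    rw [hg, Perm.mul_apply, Perm.mul_apply, hπ, Perm.inv_def, Equiv.symm_apply_eq, hy1,
      sh_apply] at hb
    simp only [zero_add, Prod.mk.injEq] at hb
    rw [← hb.2, ← hb.1, ht, ← mul_assoc, mul_inv_cancel₀ (hm0 l 1 hl one_ne_zero), one_mul]
  have hylin : ∀ l v, y l v = (v.1, v.2 + m l 1 * v.1) := by
    intro l v
    have e : v = (v.1, 0) + (0, v.2) := Prod.ext (by simp) (by simp)
    conv_lhs => rw [e, h.add _ (hyX l), hy1, hy2, hmlin]
    refine Prod.ext ?_ ?_
    · simp
    · simp [add_comm]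
  have hyL : ∀ l, IsLin (y l) := fun l c v => by
    rw [hylin, hylin]
    refine Prod.ext ?_ ?_ <;> simp only [Prod.smul_fst, Prod.smul_snd, smul_eq_mul]
    ring
  have hall : ∀ t : F, ∃ l, m l 1 = t := by
    refine Finite.surjective_of_injective (fun l l' e => ?_)
    have : y l = y l' := Perm.ext fun v => by rw [hylin, hylin, show m l 1 = m l' 1 from e]
    simp only [hy, mul_left_inj, mul_right_inj] at this
    exact sh_inj this
  -- every point is on an image of the axis, and conjugate shears are linear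
  have hline : ∀ v : F × F, v ≠ 0 → ∃ k ∈ X, ∃ a : F, a ≠ 0 ∧ k (a, 0) = v ∧
      ∀ l, IsLin (k * sh l * k⁻¹) := by
    intro v hv
    by_cases h2 : v.2 = 0
    · refine ⟨1, one_mem X, v.1, fun e => hv (Prod.ext e h2), ?_, fun l => ?_⟩
      · exact Prod.ext rfl h2.symm
      · simpa using isLin_sh l
    · set t := v.1 / v.2 with ht
      obtain ⟨c, hc⟩ := hπs v.2
      refine ⟨sh t * x₀, mul_mem (h.shear t) hx₀, c, fun e => h2 (by rw [← hc, e, hπ0]),
        ?_, fun l => ?_⟩
      · rw [Perm.mul_apply, hπ, hc, sh_apply]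
        refine Prod.ext ?_ rfl
        simp [ht, div_mul_cancel₀ _ h2]
      · rw [show sh t * x₀ * sh l * (sh t * x₀)⁻¹ = sh t * y l * (sh t)⁻¹ by
          simp only [hy]; group]
        exact isLin_mul (isLin_mul (isLin_sh t) (hyL l)) (isLin_inv (isLin_sh t))
  have hne : ∀ g ∈ X, ∀ a : F, a ≠ 0 → g (a, 0) ≠ 0 := fun g hg a ha e =>
    ha (congrArg Prod.fst (g.injective (e.trans (h.map_zero hg).symm) : ((a, (0 : F)) : F × F) = 0))
  have hconj : ∀ g ∈ X, ∀ l, IsLin (g * sh l * g⁻¹) := by
    intro g hg l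
    obtain ⟨k, hk, a, ha, hka, hkl⟩ := hline (g (1, 0)) (hne g hg 1 one_ne_zero)
    have e : (k⁻¹ * g) (1, 0) = (a, 0) := by rw [Perm.mul_apply, ← hka]; simp
    obtain ⟨l', hl'⟩ := h.conj_shear hF (mul_mem (inv_mem hk) hg)
      (h.fix0_of_meet hF (mul_mem (inv_mem hk) hg) one_ne_zero (by rw [e])) l
    rw [show g * sh l * g⁻¹ = k * (k⁻¹ * g * sh l * (k⁻¹ * g)⁻¹) * k⁻¹ by group, hl']
    exact hkl l'
  refine ⟨?_, fun v hv => ?_⟩
  · -- semilinearity
    have hsemi : ∀ g ∈ X, ∃ ν : F → F, (∀ c v, g (ν c • v) = c • g v) ∧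
        ((∀ c, ν c = c) ∨ ∀ c, ν c = c * c) := by
      intro g hg
      let T : F → F × F → F × F := fun c v => g⁻¹ (c • g v)
      have hTa : ∀ c v w, T c (v + w) = T c v + T c w := fun c v w => by
        simp only [T, h.add g hg, smul_add, h.add _ (inv_mem hg)]
      have hT0 : ∀ c, T c 0 = 0 := fun c => by
        simp only [T, h.map_zero hg, smul_zero, h.map_zero (inv_mem hg)]
      have hTs : ∀ c, ∀ s ∈ X, IsLin (g * s * g⁻¹) → ∀ v, T c (s v) = s (T c v) := by
        intro c s _ hs v
        show g⁻¹ (c • g (s v)) = s (g⁻¹ (c • g v))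
        have e : g (s v) = (g * s * g⁻¹) (g v) := by simp
        rw [e, ← hs c]
        simp
      have hTsh : ∀ c l v, T c (sh l v) = sh l (T c v) := fun c l v =>
        hTs c _ (h.shear l) (hconj g hg l) v
      have hTy : ∀ c l v, T c (y l v) = y l (T c v) := fun c l v =>
        hTs c _ (hyX l) (by
          rw [hy, show g * (x₀ * sh l * x₀⁻¹) * g⁻¹ = g * x₀ * sh l * (g * x₀)⁻¹ by group]
          exact hconj _ (mul_mem hg hx₀) l) v
      have hax1 : ∀ c a, T c (a, 0) = ((T c (a, 0)).1, 0) := by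
        intro c a
        have e := hTsh c 1 (a, 0)
        rw [show sh (1 : F) (a, 0) = ((a, 0) : F × F) from (sh_fix one_ne_zero).2 rfl] at e
        exact Prod.ext rfl ((sh_fix one_ne_zero).1 e.symm)
      have hax2 : ∀ c b, T c (0, b) = (0, (T c (0, b)).2) := by
        intro c b
        obtain ⟨l, hl⟩ := hall 1
        have e := hTy c l (0, b)
        rw [hy2, hylin l (T c (0, b)), hl] at e
        have e2 := congrArg Prod.snd e
        refine Prod.ext ?_ rfl
        simpa using e2
      have hp : ∀ c t b, (T c (t * b, 0)).1 = t * (T c (0, b)).2 := by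
        intro c t b
        have e := hTsh c t (0, b)
        rw [hax2 c b, sh_apply, sh_apply,
          show ((0 + t * b, b) : F × F) = (t * b, 0) + (0, b) from Prod.ext (by simp) (by simp),
          hTa, hax1 c (t * b), hax2 c b] at e
        simpa using congrArg Prod.fst e
      have hr : ∀ c a, (T c (0, a)).2 = (T c (a, 0)).1 := by
        intro c a
        have e := hp c 1 a
        rw [one_mul, one_mul] at e
        exact e.symm
      have hν : ∀ c v, T c v = (T c (1, 0)).1 • v := by
        intro c v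
        have hsc : ∀ a, (T c (a, 0)).1 = (T c (1, 0)).1 * a := by
          intro a
          have e := hp c a 1
          rw [mul_one, hr] at e
          rw [e, mul_comm]
        have e : v = (v.1, 0) + (0, v.2) := Prod.ext (by simp) (by simp)
        conv_lhs => rw [e, hTa, hax1, hax2, hr]
        refine Prod.ext ?_ ?_ <;> simp [hsc v.1, hsc v.2]
      let ν : F → F := fun c => (T c (1, 0)).1
      have hgν : ∀ c v, g (ν c • v) = c • g v := fun c v => by
        rw [← hν c v]; simp [T]
      have key : ∀ {c d : F}, (∀ v, c • g v = d • g v) → c = d := by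
        intro c d e
        have := e (g⁻¹ (1, 0))
        simpa using congrArg Prod.fst this
      have hinjν : ∀ {c d : F}, c = d → ν c = ν d := fun e => e ▸ rfl
      have hν1 : ν 1 = 1 := by
        show (g⁻¹ ((1 : F) • g ((1 : F), (0 : F)))).1 = 1
        simp
      have hνa : ∀ c d, ν (c + d) = ν c + ν d := fun c d => by
        show (g⁻¹ ((c + d) • g ((1 : F), (0 : F)))).1 = _
        rw [add_smul, h.add _ (inv_mem hg)]
        rfl
      have hνm : ∀ c d, ν (c * d) = ν c * ν d := fun c d => by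
        show (T (c * d) (1, 0)).1 = ν c * ν d
        have e : T (c * d) (1, 0) = T c (T d (1, 0)) := by
          simp only [T]
          rw [mul_smul]
          simp
        rw [e, hν d, hν c]
        simp [ν]
      exact ⟨ν, hgν, eq_id_or_sq hF hνa hν1 hνm⟩
    intro g hg
    refine h.top_of_squares hF (Q := IsLin) (fun _ _ _ _ => isLin_mul) (fun _ _ => isLin_inv)
      isLin_one hconj (fun k hk => ?_) hg
    obtain ⟨ν, hν, h' | h'⟩ := hsemi k hk
    · have hk' : IsLin k := fun c v => by conv_lhs => rw [← h' c]; exact hν c v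
      exact isLin_mul hk' hk'
    · intro c v
      have e1 : ∀ (d : F) (w : F × F), k (d • w) = (d * d) • k w := by
        intro d w
        rw [← hν (d * d) w, h']
        congr 2
        rcases eq_or_ne d 0 with rfl | hd0
        · simp
        rcases eq_or_ne d 1 with rfl | hd1
        · simp
        have hdd := sq_eq hF hd0 hd1
        calc d = d * d + (1 : F) := by rw [hdd, add_assoc, add_self hF, add_zero]
          _ = (d + 1) * (d + 1) := by rw [add_mul_add hF, one_mul]
          _ = d * d * (d * d) := by rw [hdd]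
      rw [Perm.mul_apply, Perm.mul_apply, e1, e1]
      congr 1
      rcases eq_or_ne c 0 with rfl | hd0
      · simp
      rcases eq_or_ne c 1 with rfl | hd1
      · simp
      have hdd := sq_eq hF hd0 hd1
      calc c * c * (c * c) = (c + 1) * (c + 1) := by rw [hdd]
        _ = c * c + 1 := by rw [add_mul_add hF, one_mul]
        _ = c := by rw [hdd, add_assoc, add_self hF, add_zero]
  · obtain ⟨k, hk, a, ha, hka, -⟩ := hline v hv
    exact ⟨k, hk, a, ha, hka⟩

include hF in
/-- The axis is stable: a change of complement makes the group linear. -/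
theorem linear_of_fix (hfix : ∀ g ∈ X, Fix0 g) :
    ∃ q : F →+ F, ∀ g ∈ X, IsLin (tau q * g * tau q) := by
  classical
  obtain ⟨w, hw0, hw1, hww⟩ := exists_gen hF
  -- diagonal parts
  have hdiag : ∀ g ∈ X, ∃ p : F → F, ∃ ν : F → F, (∀ a, g (a, 0) = (p a, 0)) ∧
      (∀ l b, p (l * b) = ν l * p b) ∧ (∀ b, (g (0, b)).2 * (p 1) = (g (0, 1)).2 * p b) ∧
      ((∀ c, ν c = c) ∨ ∀ c, ν c = c * c) := by
    intro g hg
    let p : F → F := fun a => (g (a, 0)).1
    let r : F → F := fun b => (g (0, b)).2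
    have hp : ∀ a, g (a, 0) = (p a, 0) := fun a => Prod.ext rfl (hfix g hg a)
    have hpa : ∀ a b, p (a + b) = p a + p b := fun a b => by
      show (g (a + b, 0)).1 = _
      rw [show ((a + b, (0 : F)) : F × F) = (a, 0) + (b, 0) from Prod.ext rfl (by simp),
        h.add g hg]
      rfl
    choose μ hμ using fun l => h.conj_shear hF hg (hfix g hg) l
    have hμ' : ∀ l b, p (l * b) = μ l * r b := by
      intro l b
      have e : g * sh l = sh (μ l) * g := by rw [← hμ l]; group
      have e' := congrArg (fun f : Perm (F × F) => (f (0, b)).1) e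
      simp only [Perm.mul_apply, sh_apply] at e'
      rw [show ((0 + l * b, b) : F × F) = (l * b, 0) + (0, b) from Prod.ext (by simp) (by simp),
        h.add g hg, hp, Prod.fst_add, add_comm] at e'
      exact add_left_cancel e'
    have hp0 : ∀ a, a ≠ 0 → p a ≠ 0 := fun a ha e => ha (congrArg Prod.fst
      (g.injective (((hp a).trans (by rw [e]; rfl)).trans (h.map_zero hg).symm) :
        ((a, (0 : F)) : F × F) = 0))
    have hμ1 : μ 1 ≠ 0 := fun e => hp0 1 one_ne_zero (by
      have := hμ' 1 1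
      rw [e, zero_mul, one_mul] at this
      exact this)
    have h1b : ∀ b, p b = μ 1 * r b := fun b => by simpa using hμ' 1 b
    let ν : F → F := fun l => μ l / μ 1
    have hν : ∀ l b, p (l * b) = ν l * p b := fun l b => by
      show p (l * b) = μ l / μ 1 * p b
      rw [hμ', h1b b, ← mul_assoc, div_mul_cancel₀ _ hμ1]
    have hp1 := hp0 1 one_ne_zero
    have hν1 : ν 1 = 1 := div_self hμ1
    have hνl : ∀ l, p l = ν l * p 1 := fun l => by rw [← hν, mul_one]
    have hνa : ∀ c d, ν (c + d) = ν c + ν d := fun c d => mul_right_cancel₀ hp1 (by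
      rw [add_mul, ← hνl, ← hνl, ← hνl, hpa])
    have hνm : ∀ c d, ν (c * d) = ν c * ν d := fun c d => mul_right_cancel₀ hp1 (by
      rw [mul_assoc, ← hνl, ← hνl, hν])
    refine ⟨p, ν, hp, hν, fun b => ?_, eq_id_or_sq hF hνa hν1 hνm⟩
    show r b * p 1 = r 1 * p b
    rw [h1b 1, h1b b]
    ring
  -- linear on the axis
  let Q : Perm (F × F) → Prop := fun g => Fix0 g ∧ ∀ l a : F, g (l * a, 0) = l • g (a, 0)
  have hQmul : ∀ g ∈ X, ∀ k ∈ X, Q g → Q k → Q (g * k) := by
    intro g hg k hk hQg hQk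
    refine ⟨h.fix0_mul hF hQg.1 hQk.1, fun l a => ?_⟩
    rw [Perm.mul_apply, Perm.mul_apply, hQk.2,
      show k (a, 0) = ((k (a, 0)).1, 0) from Prod.ext rfl (hQk.1 a), ← pair_smul, hQg.2]
  have hQinv : ∀ g ∈ X, Q g → Q g⁻¹ := by
    intro g hg hQg
    have hi := h.fix0_inv hF hQg.1
    refine ⟨hi, fun l a => g.injective ?_⟩
    rw [show g⁻¹ (a, 0) = ((g⁻¹ (a, 0)).1, 0) from Prod.ext rfl (hi a), ← pair_smul, hQg.2,
      show ((g⁻¹ (a, 0)).1, (0 : F)) = g⁻¹ (a, 0) from Prod.ext rfl (hi a).symm]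
    simp only [Perm.inv_def, Equiv.apply_symm_apply]
    exact pair_smul l a
  have hQsh : ∀ l : F, Q (sh l) := fun l =>
    ⟨fun a => by simp, fun c a => by simp⟩
  have hQ : ∀ g ∈ X, Q g := fun g hg => h.top_of_squares hF hQmul hQinv
    ⟨fun a => rfl, fun l a => by simp⟩
    (fun k hk l => by
      obtain ⟨l', hl'⟩ := h.conj_shear hF hk (hfix k hk) l
      rw [hl']
      exact hQsh l')
    (fun k hk => by
      obtain ⟨p, ν, hp, hν, -, h' | h'⟩ := hdiag k hk
      · refine hQmul k hk k hk ?_ ?_ <;>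
          exact ⟨hfix k hk, fun l a => by rw [hp, hp, hν, h']; exact pair_smul _ _⟩
      · refine ⟨h.fix0_mul hF (hfix k hk) (hfix k hk), fun l a => ?_⟩
        rw [Perm.mul_apply, Perm.mul_apply, hp (l * a), hν, hp, hν, h', h', hp a, hp, ← pair_smul]
        congr 2
        rcases eq_or_ne l 0 with rfl | hd0
        · simp
        rcases eq_or_ne l 1 with rfl | hd1
        · simp
        have hdd := sq_eq hF hd0 hd1
        calc l * l * (l * l) = (l + 1) * (l + 1) := by rw [hdd]
          _ = l * l + 1 := by rw [add_mul_add hF, one_mul]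
          _ = l := by rw [hdd, add_assoc, add_self hF, add_zero]) hg
  let pc : Perm (F × F) → F := fun g => (g (1, 0)).1
  let rc : Perm (F × F) → F := fun g => (g (0, 1)).2
  let bc : Perm (F × F) → F := fun g => (g (0, w)).1 + w * (g (0, 1)).1
  have hdia : ∀ g ∈ X, pc g ≠ 0 ∧ rc g ≠ 0 ∧ (∀ a, g (a, 0) = (pc g * a, 0)) ∧
      ∀ b, (g (0, b)).2 = rc g * b := by
    intro g hg
    obtain ⟨p, ν, hp, hν, hr, -⟩ := hdiag g hg
    have hpa : ∀ a, g (a, 0) = (pc g * a, 0) := fun a => by
      have e := (hQ g hg).2 a 1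
      rw [mul_one] at e
      rw [e, show g (1, 0) = (pc g, 0) from Prod.ext rfl (hfix g hg 1), ← pair_smul, mul_comm]
    have hp1 : pc g ≠ 0 := fun e => one_ne_zero (congrArg Prod.fst
      (g.injective (((hpa 1).trans (by rw [e, zero_mul]; rfl)).trans (h.map_zero hg).symm) :
        (((1 : F), (0 : F)) : F × F) = 0))
    have hpp : ∀ a, p a = pc g * a := fun a => congrArg Prod.fst ((hp a).symm.trans (hpa a))
    have hrb : ∀ b, (g (0, b)).2 = rc g * b := fun b => by
      have e := hr b
      rw [hpp, hpp, mul_one, ← mul_assoc] at e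
      exact mul_right_cancel₀ hp1 (by rw [e]; ring)
    refine ⟨hp1, fun e => ?_, hpa, hrb⟩
    have e0 : g (0, 1) = g (((g (0, 1)).1 / pc g), 0) := by
      rw [hpa, mul_div_cancel₀ _ hp1]
      exact Prod.ext rfl e
    exact one_ne_zero (congrArg Prod.snd (g.injective e0))
  have hform : ∀ g ∈ X, ∃ α : F, ∀ a b : F,
      g (a, b) = (pc g * a + (α * b + bc g * (b * b)), rc g * b) := by
    intro g hg
    refine ⟨(g (0, 1)).1 + bc g, fun a b => ?_⟩
    obtain ⟨-, -, hpa, hrb⟩ := hdia g hg
    rw [show ((a, b) : F × F) = (a, 0) + (0, b) from Prod.ext (by simp) (by simp), h.add g hg, hpa]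
    refine Prod.ext ?_ (by simp [hrb])
    simp only [Prod.fst_add]
    congr 1
    exact decomp hF (f := fun b => (g (0, b)).1) (fun x y => by
      show (g (0, x + y)).1 = _
      rw [show (((0 : F), x + y) : F × F) = (0, x) + (0, y) from Prod.ext (by simp) rfl,
        h.add g hg]
      rfl) hw0 hw1 b
  -- the changes of complement
  let qm : F → (F →+ F) := fun c =>
    { toFun := fun b => c * (b * b)
      map_zero' := by simp
      map_add' := fun x y => by simp only [add_mul_add hF, mul_add] }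
  let T : Perm (F × F) → F → F := fun g c => (pc g * c + bc g) / (rc g * rc g)
  have hTlin : ∀ g ∈ X, ∀ c c', IsLin (tau (qm c') * g * tau (qm c)) ↔ c' = T g c := by
    intro g hg c c'
    obtain ⟨hp0, hr0, -, -⟩ := hdia g hg
    obtain ⟨α, hα⟩ := hform g hg
    have hev : ∀ a b : F, (tau (qm c') * g * tau (qm c)) (a, b) =
        (pc g * a + α * b + (pc g * c + bc g + c' * (rc g * rc g)) * (b * b), rc g * b) := by
      intro a b
      rw [Perm.mul_apply, Perm.mul_apply, tau_apply, hα, tau_apply]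
      refine Prod.ext ?_ rfl
      simp only [qm, AddMonoidHom.coe_mk, ZeroHom.coe_mk]
      ring
    constructor
    · intro hl
      have e := congrArg Prod.fst (hl w (0, 1))
      rw [show (w • ((0, 1) : F × F)) = (0, w) from Prod.ext (by simp) (by simp), hev, hev] at e
      simp only [Prod.smul_fst, smul_eq_mul] at e
      set K := pc g * c + bc g + c' * (rc g * rc g) with hK
      have : K * (w * w + w) = 0 := by
        have e' : pc g * 0 + α * w + K * (w * w) + (w * (pc g * 0 + α * 1 + K * (1 * 1))) = 0 := by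
          rw [e, add_self hF]
        calc K * (w * w + w) = K * (w * w + w) + (α * w + α * w) := by
              rw [add_self hF, add_zero]
          _ = 0 := by rw [← e']; ring
      rw [hww, add_comm w 1, add_add_self' hF, mul_one] at this
      rw [hK] at this
      rw [eq_div_iff (mul_ne_zero hr0 hr0)]
      exact (eq_of_add_eq_zero hF this).symm
    · rintro rfl
      intro l ⟨a, b⟩
      have hK : pc g * c + bc g + T g c * (rc g * rc g) = 0 := by
        simp only [T, div_mul_cancel₀ _ (mul_ne_zero hr0 hr0)]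
        exact add_self hF _
      rw [Prod.smul_mk, hev, hev, hK]
      refine Prod.ext ?_ ?_ <;> simp <;> ring
  have hT1 : ∀ c, T 1 c = c := by
    intro c
    simp only [T, pc, rc, bc, Perm.one_apply]
    simp
  have hTmul : ∀ g ∈ X, ∀ k ∈ X, ∀ c, T (g * k) c = T g (T k c) := by
    intro g hg k hk c
    symm
    refine (hTlin (g * k) (mul_mem hg hk) c _).1 ?_
    have e : tau (qm (T g (T k c))) * (g * k) * tau (qm c) =
        tau (qm (T g (T k c))) * g * tau (qm (T k c)) *
          (tau (qm (T k c)) * k * tau (qm c)) := by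
      rw [show tau (qm (T g (T k c))) * g * tau (qm (T k c)) *
          (tau (qm (T k c)) * k * tau (qm c)) = tau (qm (T g (T k c))) * g *
          (tau (qm (T k c)) * tau (qm (T k c))) * k * tau (qm c) by group, tau_mul_self hF]
      group
    rw [e]
    exact isLin_mul ((hTlin g hg _ _).2 rfl) ((hTlin k hk _ _).2 rfl)
  letI act : MulAction ↥X F :=
    { smul := fun g c => T g c
      one_smul := hT1
      mul_smul := fun g k c => hTmul g g.2 k k.2 c }
  have hsmul : ∀ (g : ↥X) (c : F), g • c = T g c := fun _ _ => rfl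
  let O : Finset F := (MulAction.orbit ↥X (0 : F)).toFinset
  have hodd : Odd O.card := by
    haveI : Finite ↥X := inferInstance
    haveI := Fintype.ofFinite ↥X
    have h1 := MulAction.card_orbit_mul_card_stabilizer_eq_card_group ↥X (0 : F)
    rw [← Set.toFinset_card] at h1
    have h4 : 4 ∣ Fintype.card ↥(MulAction.stabilizer ↥X (0 : F)) := by
      rw [← Nat.card_eq_fintype_card, ← card_shears hF,
        ← Nat.card_congr (Subgroup.subgroupOfEquivOfLe (h.shears_le hF)).toEquiv]
      refine Subgroup.card_dvd_of_le fun g hg => ?_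
      obtain ⟨l, hl⟩ := Subgroup.mem_subgroupOf.1 hg
      show T g 0 = 0
      simp only [T, pc, rc, bc, ← hl, sh_apply]
      simp [mul_comm w l, add_self hF]
    rw [← Nat.not_even_iff_odd]
    intro hev
    refine h.two ?_
    rw [Nat.card_eq_fintype_card, ← h1, show (8 : ℕ) = 2 * 4 from rfl]
    exact Nat.mul_dvd_mul (even_iff_two_dvd.1 hev) h4
  set c₀ := ∑ c ∈ O, c with hc₀
  have hfixc : ∀ g ∈ X, T g c₀ = c₀ := by
    intro g hg
    have hperm : ∑ c ∈ O, T g c = c₀ := by
      refine Finset.sum_nbij' (fun c => T g c) (fun c => T g⁻¹ c) ?_ ?_ ?_ ?_ (fun _ _ => rfl)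
      · intro c hc
        simp only [O, Finset.mem_coe, Set.mem_toFinset] at hc ⊢
        exact MulAction.mem_orbit_of_mem_orbit (⟨g, hg⟩ : ↥X) hc
      · intro c hc
        simp only [O, Finset.mem_coe, Set.mem_toFinset] at hc ⊢
        exact MulAction.mem_orbit_of_mem_orbit (⟨g, hg⟩⁻¹ : ↥X) hc
      · intro c _
        show T g⁻¹ (T g c) = c
        rw [← hTmul _ (inv_mem hg) _ hg, inv_mul_cancel, hT1]
      · intro c _
        show T g (T g⁻¹ c) = c
        rw [← hTmul _ hg _ (inv_mem hg), mul_inv_cancel, hT1]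
    refine Eq.trans ?_ hperm
    simp only [T]
    rw [← Finset.sum_div, Finset.sum_add_distrib, ← Finset.mul_sum, ← hc₀, Finset.sum_const,
      nsmul_eq_mul]
    obtain ⟨j, hj⟩ := hodd
    rw [hj]
    push_cast
    rw [two_eq_zero hF, zero_mul, zero_add, one_mul]
  exact ⟨qm c₀, fun g hg => (hTlin g hg c₀ c₀).2 (hfixc g hg).symm⟩

include hF in
/-- The group is linear after a change of complement; if it moves the axis it is transitive. -/
theorem exists_linear :
    ∃ q : F →+ F, (∀ g ∈ X, IsLin (tau q * g * tau q)) ∧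
      ((∃ g ∈ X, ¬ Fix0 g) → ∀ v : F × F, v ≠ 0 → ∃ g ∈ X, ∃ a : F, a ≠ 0 ∧ g (a, 0) = v) := by
  classical
  by_cases hfix : ∀ g ∈ X, Fix0 g
  · obtain ⟨q, hq⟩ := h.linear_of_fix hF hfix
    exact ⟨q, hq, fun ⟨g, hg, hne⟩ => absurd (hfix g hg) hne⟩
  push Not at hfix
  obtain ⟨x, hx, hne⟩ := hfix
  let π : F → F := fun a => (x (a, 0)).2
  have hz : ∀ a, a ≠ 0 → π a ≠ 0 := fun a ha e => hne (h.fix0_of_meet hF hx ha e)
  have hπa : ∀ a b, π (a + b) = π a + π b := fun a b => by
    show (x (a + b, 0)).2 = _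
    rw [show ((a + b, (0 : F)) : F × F) = (a, 0) + (b, 0) from Prod.ext rfl (by simp),
      h.add x hx]
    rfl
  have hπi : Function.Injective π := fun a b e => by
    refine eq_of_add_eq_zero hF ?_
    by_contra hab
    exact hz _ hab (by rw [hπa, e, add_self hF])
  let e : F ≃ F := Equiv.ofBijective π ⟨hπi, Finite.surjective_of_injective hπi⟩
  have hea : ∀ a b, e.symm (a + b) = e.symm a + e.symm b := fun a b => by
    rw [Equiv.symm_apply_eq]
    show a + b = π (e.symm a + e.symm b)
    rw [hπa]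
    exact congrArg₂ (· + ·) (e.apply_symm_apply a).symm (e.apply_symm_apply b).symm
  let q : F →+ F := AddMonoidHom.mk' (fun b => (x (e.symm b, 0)).1) fun a b => by
    rw [hea, show ((e.symm a + e.symm b, (0 : F)) : F × F) = (e.symm a, 0) + (e.symm b, 0) from
      Prod.ext rfl (by simp), h.add x hx]
    rfl
  have hX' := h.conj_tau hF q
  have htau0 : ∀ a : F, tau q (a, 0) = (a, 0) := fun a => by simp
  obtain ⟨hlin, htr⟩ := hX'.linear_of_swap hF (x₀ := tau q * x * tau q)
    ⟨x, hx, by simp [tau_inv hF]⟩ (fun a => by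
      rw [Perm.mul_apply, Perm.mul_apply, htau0, tau_apply]
      show (x (a, 0)).1 + (x (e.symm (π a), 0)).1 = 0
      rw [show e.symm (π a) = a from e.symm_apply_apply a]
      exact add_self hF _)
  refine ⟨q, fun g hg => hlin _ ⟨g, hg, by simp [tau_inv hF]⟩, fun _ v hv => ?_⟩
  obtain ⟨_, ⟨g, hg, rfl⟩, a, ha, e'⟩ := htr (tau q v) (fun e0 => hv (by
    have := congrArg (tau q) e0
    rw [← Perm.mul_apply, tau_mul_self hF] at this
    rw [show v = tau q 0 from this]
    refine Prod.ext ?_ rfl
    simp))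
  refine ⟨g, hg, a, ha, (tau q).injective ?_⟩
  rw [← e', MulEquiv.coe_toMonoidHom, MulAut.conj_apply, tau_inv hF, Perm.mul_apply,
    Perm.mul_apply, htau0]

end Small

end Cfsg.Agent.Lib.L34Sylow67
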