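import Cfsg.Agent.Lib.L34Sylow67.Embed
import Cfsg.Agent.Lib.L34Sylow67.Model

/-!
# Groups with Sylow 2-subgroups of type `PSL(3,4)`

helper67.  If one of the two elementary abelian subgroups of order 16 is strongly closed it is
normal and `G` is affine; otherwise `G` acts on the plane.  Row 3198 modulo Goldschmidt's theorem.
-/

set_option autoImplicit false
set_option linter.unusedSectionVars false
set_option linter.style.haveILetI false

open Subgroup

namespace Cfsg.Agent.Lib.L34Sylow67

open Goldschmidt53 (PropSimple)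

universe u w

/-- A group with trivial odd core and coordinates on a Sylow 2-subgroup. -/
theorem Frame.exists_embedding_pgl {G : Type u} [Group G] [Finite G] {F : Type w} [Field F]
    [Fintype F] {S : Subgroup G} (Φ₀ : Frame F S) {Sy : Sylow 2 G} (hS : (Sy : Subgroup G) = S)
    (hP : PropSimple.{u}) (hO : Cfsg.oddCore G = ⊥) :
    ∃ f : G →* GL (Fin 3) F ⧸ Subgroup.center (GL (Fin 3) F), Function.Injective f := by
  obtain ⟨Φ, -, -, hlA, hlB⟩ := Φ₀.exists_linear Sy hS
  rcases Φ.closed_or_moves Sy hS with h | hmA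
  · exact Φ.symm.exists_embedding_of_normal hS hO (Φ.symm.normal_of_closed hS hP hO h) hlB
  rcases Φ.symm.closed_or_moves Sy hS with h | hmB
  · exact Φ.exists_embedding_of_normal hS hO (Φ.normal_of_closed hS hP hO h) hlA
  exact Φ.exists_embedding (Φ.geometry hS hP hO hlA hlB hmA hmB) hS hO

/-- The statement of S3198, given Goldschmidt's theorem. -/
theorem row3198 (hP : PropSimple.{u}) {G : Type u} [Group G] [Finite G] {F : Type w} [Field F]
    [Fintype F] (hF : Fintype.card F = 4) (S : Sylow 2 G)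
    (P : Sylow 2 (Matrix.ProjectiveSpecialLinearGroup (Fin 3) F))
    (hS : Nonempty (↥(S : Subgroup G) ≃*
      ↥(P : Subgroup (Matrix.ProjectiveSpecialLinearGroup (Fin 3) F)))) :
    ∃ f : G ⧸ Cfsg.oddCore G →* GL (Fin 3) F ⧸ Subgroup.center (GL (Fin 3) F),
      Function.Injective f := by
  haveI : Fact (Nat.Prime 2) := ⟨Nat.prime_two⟩
  haveI hn : (Cfsg.oddCore G).Normal := Cfsg.pPrimeCore_normal 2 G
  obtain ⟨e⟩ := hS
  obtain ⟨Φ₀⟩ := exists_frame hF (S : Subgroup G) P e
  have hinj : ∀ s ∈ (S : Subgroup G), QuotientGroup.mk' (Cfsg.oddCore G) s = 1 → s = 1 := by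
    intro s hs h1
    have hsO : s ∈ Cfsg.oddCore G := (QuotientGroup.eq_one_iff s).1 h1
    obtain ⟨k, hk⟩ := IsPGroup.iff_orderOf.1 S.2 ⟨s, hs⟩
    rw [Subgroup.orderOf_mk] at hk
    exact orderOf_eq_one_iff.1 (Nat.eq_one_of_dvd_coprimes
      (Nat.Coprime.pow_left k (Nat.coprime_two_left.2 ZStar.Elements.oddCore_odd)) (dvd_of_eq hk)
      (Subgroup.orderOf_dvd_natCard _ hsO))
  refine (Φ₀.map _ hinj).exists_embedding_pgl
    (Sy := S.mapSurjective (QuotientGroup.mk'_surjective (Cfsg.oddCore G))) ?_ hP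
    (Cores.pPrimeCore_quotient_pPrimeCore 2)
  exact Sylow.coe_mapSurjective _ _

end Cfsg.Agent.Lib.L34Sylow67
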