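import Cfsg.Agent.Lib.L34Sylow67.Cores
import Cfsg.Agent.Lib.CIT.Plane

/-!
# An element of odd order centralising the axis is not inverted

helper67.  `Z` is a Sylow 2-subgroup of the centraliser of such an element, and `N(Z) ≤ N(S)`.
Hence a non-trivial element of `N(A)` fixing all five lines of `A` is not inverted either.
-/

set_option autoImplicit false
set_option linter.unusedSectionVars false
set_option linter.style.haveILetI false

open Subgroup
open Cfsg.Agent.Lib.CIT Cfsg.Agent.Lib.CosetGraph.SylowIn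

namespace Cfsg.Agent.Lib.L34Sylow67

universe u w

/-- The square of a 2-power-free element generates. -/
theorem commute_of_sq {G : Type u} [Group G] {k x : G} (hk : Odd (orderOf k))
    (h : k * k * x = x * (k * k)) : k * x = x * k := by
  obtain ⟨j, hj⟩ := hk
  have e : k = (k * k) ^ (j + 1) := by
    rw [← sq, ← pow_mul, show 2 * (j + 1) = orderOf k + 1 by omega, pow_succ, pow_orderOf_eq_one,
      one_mul]
  rw [e]
  exact (Commute.pow_left (h : Commute (k * k) x) (j + 1)).eq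

namespace Frame

variable {G : Type u} [Group G] [Finite G] {F : Type w} [Field F] [Fintype F] {S : Subgroup G}
  (Φ : Frame F S)

/-- The geometry is symmetrical. -/
theorem Geometry.symm {Φ : Frame F S} (c : Φ.Geometry) : Φ.symm.Geometry where
  linA := c.linB
  linB := c.linA
  transA := c.transB
  transB := c.transA
  cent x hx := by
    show centralizer ({Φ.b (x, 0)} : Set G) ≤ _
    rw [← Φ.axis]
    exact c.cent x hx
  self := c.self
  noIndexTwo := c.noIndexTwo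

variable (c : Φ.Geometry) {Sy : Sylow 2 G} (hS : (Sy : Subgroup G) = S)
include c hS

/-- An element of `N(S)` normalises `A`. -/
theorem normA_of_normS {k : G} (hk : k ∈ normalizer (S : Set G)) :
    k ∈ normalizer (Φ.A : Set G) := by
  refine normalizer_iff_map.2 ((Φ.eq_or_eq ?_ (Φ.conj_sub k) (Φ.card_conj k).ge).resolve_right
    (Φ.not_conj Sy hS k))
  rintro _ ⟨x, hx, rfl⟩
  exact (Subgroup.mem_normalizer_iff.1 hk _).1 (Φ.A_le hx)

/-- An element of odd order in `N(S)` centralising the axis and an element of `A` outside it is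
trivial. -/
theorem eq_one_of_fix {k : G} (hk : k ∈ normalizer (S : Set G)) (hodd : Odd (orderOf k))
    (hax : ∀ x : F, k * Φ.a (x, 0) = Φ.a (x, 0) * k) {u : F × F} (hu : u.2 ≠ 0)
    (hfix : k * Φ.a u = Φ.a u * k) : k = 1 := by
  have hkA := Φ.normA_of_normS c hS hk
  have hkB := Φ.symm.normA_of_normS c.symm hS hk
  have hA : ∀ v, k * Φ.a v = Φ.a v * k := by
    intro v
    have h1 := mul_inv_eq_iff_eq_mul.1 (c.linA k hkA (v.2 / u.2) u u
      (mul_inv_eq_iff_eq_mul.2 hfix))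
    have h2 := hax (v.1 - v.2 / u.2 * u.1)
    have e : v = ((v.2 / u.2) • u) + (v.1 - v.2 / u.2 * u.1, 0) := Prod.ext
      (show v.1 = v.2 / u.2 * u.1 + (v.1 - v.2 / u.2 * u.1) by ring)
      (show v.2 = v.2 / u.2 * u.2 + 0 by rw [div_mul_cancel₀ _ hu, add_zero])
    rw [e, Φ.a_add]
    exact (Commute.mul_right h1 h2).eq
  have hB : ∀ y : F, k * Φ.b (0, y) = Φ.b (0, y) * k := by
    intro y
    obtain ⟨w, hw⟩ := (Subgroup.mem_normalizer_iff.1 hkB _).1
      (⟨(0, y), rfl⟩ : Φ.b (0, y) ∈ Φ.B)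
    change Φ.b w = k * Φ.b (0, y) * k⁻¹ at hw
    have hw2 : w.2 = y := by
      have e1 := Φ.act (0, 1) w
      rw [hw] at e1
      have hkinv : ∀ v, k⁻¹ * Φ.a v * k = Φ.a v := fun v => by
        rw [mul_assoc, ← hA, inv_mul_cancel_left]
      rw [show k * Φ.b (0, y) * k⁻¹ * Φ.a (0, 1) * (k * Φ.b (0, y) * k⁻¹)⁻¹ =
        k * (Φ.b (0, y) * (k⁻¹ * Φ.a (0, 1) * k) * (Φ.b (0, y))⁻¹) * k⁻¹ by group, hkinv, Φ.act,
        hA, mul_inv_cancel_right] at e1
      have := congrArg Prod.fst (Φ.a_inj e1)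
      simpa using this.symm
    have hkb : k * Φ.b (0, y) * k⁻¹ = Φ.a (w.1, 0) * Φ.b (0, y) := by
      rw [← hw, Φ.axis, ← Φ.b_add]
      exact congrArg Φ.b (Prod.ext (by simp) (by simp [hw2]))
    refine commute_of_sq hodd ?_
    rw [← mul_inv_eq_iff_eq_mul,
      show k * k * Φ.b (0, y) * (k * k)⁻¹ = k * (k * Φ.b (0, y) * k⁻¹) * k⁻¹ by group, hkb,
      show k * (Φ.a (w.1, 0) * Φ.b (0, y)) * k⁻¹ =
        k * Φ.a (w.1, 0) * k⁻¹ * (k * Φ.b (0, y) * k⁻¹) by group, hA, mul_inv_cancel_right, hkb,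
      ← mul_assoc, Φ.a_sq, one_mul]
  refine c.self k (fun s hs => ?_) hodd
  obtain ⟨v, y, rfl⟩ := Φ.exists_eq hs
  exact (Commute.mul_right (hA v) (hB y)).eq

/-- A non-trivial element of odd order centralising the axis is not inverted. -/
theorem eq_one_of_inverted {k g : G} (hodd : Odd (orderOf k))
    (hax : ∀ x : F, k * Φ.a (x, 0) = Φ.a (x, 0) * k) (hg : g * k * g⁻¹ = k⁻¹) : k = 1 := by
  haveI : Fact (Nat.Prime 2) := ⟨Nat.prime_two⟩
  by_contra hk1
  have h1 : (1 : F) ≠ 0 := one_ne_zero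
  have hkN : k ∈ normalizer (S : Set G) :=
    c.cent 1 h1 (mem_centralizer_singleton_iff.2 (hax 1))
  set L := centralizer ({k} : Set G) with hL
  set Z := Φ.A ⊓ Φ.B with hZ
  have hZmem : ∀ z ∈ Z, ∃ x : F, Φ.a (x, 0) = z := by
    rintro z ⟨⟨v, rfl⟩, hB⟩
    exact ⟨v.1, congrArg Φ.a (Prod.ext rfl (Φ.mem_B_iff.1 hB).symm)⟩
  have hZax : ∀ x : F, Φ.a (x, 0) ∈ Z := fun x => ⟨⟨_, rfl⟩, Φ.mem_B_iff.2 rfl⟩
  have hZL : Z ≤ L := fun z hz => by
    obtain ⟨x, rfl⟩ := hZmem z hz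
    exact mem_centralizer_singleton_iff.2 (hax x).symm
  have hZS : Z ≤ S := inf_le_left.trans Φ.A_le
  -- `N(Z) ≤ N(S)`
  have hNZ : ∀ r ∈ normalizer (Z : Set G), r ∈ normalizer (S : Set G) := by
    intro r hr
    refine normalizer_iff_map.2 (Subgroup.eq_of_le_of_card_ge ?_
      (Subgroup.card_map_of_injective (MulAut.conj r).injective).ge)
    rintro _ ⟨s, hs, rfl⟩
    show r * s * r⁻¹ ∈ S
    obtain ⟨x, hx⟩ := hZmem _ ((Subgroup.mem_normalizer_iff.1 (inv_mem hr) _).1 (hZax 1))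
    have hN : r * s * r⁻¹ ∈ normalizer (S : Set G) := by
      refine c.cent 1 h1 (mem_centralizer_singleton_iff.2 ?_)
      have e : r * Φ.a (x, 0) * r⁻¹ = Φ.a (1, 0) := by rw [hx]; group
      rw [← e]
      calc r * s * r⁻¹ * (r * Φ.a (x, 0) * r⁻¹) = r * (s * Φ.a (x, 0)) * r⁻¹ := by group
        _ = r * (Φ.a (x, 0) * s) * r⁻¹ := by rw [Φ.axis_comm hs]
        _ = _ := by group
    obtain ⟨j, hj⟩ := IsPGroup.iff_orderOf.1 Sy.2 ⟨s, hS ▸ hs⟩
    rw [Subgroup.orderOf_mk] at hj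
    rw [← hS] at hN ⊢
    refine mem_of_normalizer Sy hN (k := j) ?_
    rw [conj_pow, ← hj, pow_orderOf_eq_one, mul_one, mul_inv_cancel]
  -- elements of `S` centralising `k` lie in `Z`
  have hCS : ∀ r ∈ S, r * k = k * r → r ∈ Z := by
    intro r hr hrk
    obtain ⟨u, y, rfl⟩ := Φ.exists_eq hr
    have hkA := Φ.normA_of_normS c hS hkN
    have hkB := Φ.symm.normA_of_normS c.symm hS hkN
    by_cases hu : u.2 = 0
    · by_cases hy : y = 0
      · subst hy
        rw [show ((0 : F), (0 : F)) = (0 : F × F) from rfl, Φ.b_zero, mul_one,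
          show u = (u.1, 0) from Prod.ext rfl hu]
        exact hZax _
      · refine absurd ?_ hk1
        have e : Φ.a u * Φ.b (0, y) = Φ.b ((u.1, 0) + (0, y)) := by
          rw [Φ.b_add, ← Φ.axis]
          exact congrArg (fun t => Φ.a t * _) (Prod.ext rfl hu)
        refine Φ.symm.eq_one_of_fix c.symm hS hkN hodd (fun x => ?_)
          (u := (u.1, 0) + (0, y)) (by simpa using hy) ?_
        · show k * Φ.b (x, 0) = Φ.b (x, 0) * k
          rw [← Φ.axis]; exact hax x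
        · show k * Φ.b _ = Φ.b _ * k
          rw [← e, hrk]
    · refine absurd (Φ.eq_one_of_fix c hS hkN hodd hax hu (commute_of_sq hodd ?_)) hk1
      obtain ⟨v, hv⟩ := (Subgroup.mem_normalizer_iff.1 hkA _).1 (⟨u, rfl⟩ : Φ.a u ∈ Φ.A)
      obtain ⟨w, hw⟩ := (Subgroup.mem_normalizer_iff.1 hkB _).1 (⟨(0, y), rfl⟩ : Φ.b (0, y) ∈ Φ.B)
      change Φ.b w = k * Φ.b (0, y) * k⁻¹ at hw
      have e : Φ.a (v + u) = Φ.b ((0, y) + w) := by
        rw [Φ.a_add, Φ.b_add]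
        have e1 : Φ.a v * Φ.b w = Φ.a u * Φ.b (0, y) := by
          rw [hv, hw, show k * Φ.a u * k⁻¹ * (k * Φ.b (0, y) * k⁻¹) =
            k * (Φ.a u * Φ.b (0, y)) * k⁻¹ by group, ← hrk, mul_inv_cancel_right]
        calc Φ.a v * Φ.a u = Φ.a v * Φ.a u * (Φ.b (0, y) * Φ.b (0, y)) := by rw [Φ.b_sq, mul_one]
          _ = Φ.a v * (Φ.a u * Φ.b (0, y)) * Φ.b (0, y) := by group
          _ = Φ.a v * (Φ.a v * Φ.b w) * Φ.b (0, y) := by rw [e1]
          _ = Φ.b w * Φ.b (0, y) := by rw [← mul_assoc, Φ.a_sq, one_mul]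
          _ = _ := Φ.b_comm _ _
      have h2 := (Φ.a_eq_b e).1
      have hz : k * Φ.a u * k⁻¹ = Φ.a u * Φ.a ((v + u).1, 0) := by
        rw [← hv, ← Φ.a_add]
        refine congrArg Φ.a ?_
        rw [show (((v + u).1, 0) : F × F) = v + u from Prod.ext rfl h2.symm, add_comm v u,
          ← add_assoc, Φ.self_add, zero_add]
      rw [← mul_inv_eq_iff_eq_mul,
        show k * k * Φ.a u * (k * k)⁻¹ = k * (k * Φ.a u * k⁻¹) * k⁻¹ by group, hz,
        show k * (Φ.a u * Φ.a ((v + u).1, 0)) * k⁻¹ =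
          k * Φ.a u * k⁻¹ * (k * Φ.a ((v + u).1, 0) * k⁻¹) by group, hax, mul_inv_cancel_right, hz,
        mul_assoc, Φ.a_sq, mul_one]
  -- `Z` is a Sylow subgroup of `L`
  have hZ2 : IsPGroup 2 ↥Z := Φ.isPGroup_A.to_le inf_le_left
  obtain ⟨R, hR⟩ := (hZ2.of_equiv (Subgroup.subgroupOfEquivOfLe hZL).symm).exists_le_sylow
  have hRZ : (R : Subgroup ↥L) = Z.subgroupOf L := by
    haveI := R.2.isNilpotent
    by_contra hne
    set Z' : Subgroup ↥(R : Subgroup ↥L) := (Z.subgroupOf L).subgroupOf R with hZ'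
    have hlt : Z' < ⊤ := lt_top_iff_ne_top.2 fun h => hne (le_antisymm
      (Subgroup.subgroupOf_eq_top.1 h) hR)
    obtain ⟨r, hr, hrZ⟩ := SetLike.exists_of_lt (Group.normalizerCondition_of_isNilpotent Z' hlt)
    have hrn : ((r : ↥L) : G) ∈ normalizer (Z : Set G) := by
      refine normalizer_iff_map.2 (Subgroup.eq_of_le_of_card_ge ?_
        (Subgroup.card_map_of_injective (MulAut.conj _).injective).ge)
      rintro _ ⟨z, hz, rfl⟩
      have hzR : (⟨z, hZL hz⟩ : ↥L) ∈ (R : Subgroup ↥L) := hR (Subgroup.mem_subgroupOf.2 hz)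
      have := (Subgroup.mem_normalizer_iff.1 hr ⟨_, hzR⟩).1 (by
        rw [hZ', Subgroup.mem_subgroupOf, Subgroup.mem_subgroupOf]; exact hz)
      rw [hZ', Subgroup.mem_subgroupOf, Subgroup.mem_subgroupOf] at this
      exact this
    obtain ⟨j, hj⟩ := IsPGroup.iff_orderOf.1 R.2 r
    refine hrZ ?_
    rw [hZ', Subgroup.mem_subgroupOf, Subgroup.mem_subgroupOf]
    refine hCS _ (hS ▸ mem_of_normalizer Sy (hS ▸ hNZ _ hrn) (k := j)
      (by rw [← hj, ← SubgroupClass.coe_pow, ← SubgroupClass.coe_pow, pow_orderOf_eq_one,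
        OneMemClass.coe_one, OneMemClass.coe_one])) ?_
    exact mem_centralizer_singleton_iff.1 (r : ↥L).2
  -- Frattini
  have hgL : ∀ x ∈ L, g * x * g⁻¹ ∈ L := by
    intro x hx
    rw [hL, mem_centralizer_singleton_iff] at hx ⊢
    have e : Commute (g * x * g⁻¹) k⁻¹ := by
      rw [← hg]
      show g * x * g⁻¹ * (g * k * g⁻¹) = g * k * g⁻¹ * (g * x * g⁻¹)
      calc g * x * g⁻¹ * (g * k * g⁻¹) = g * (x * k) * g⁻¹ := by group
        _ = g * (k * x) * g⁻¹ := by rw [hx]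
        _ = _ := by group
    exact (Commute.inv_right_iff.1 e).eq
  have hgZ : Z.map (MulAut.conj g).toMonoidHom ≤ L := by
    rintro _ ⟨z, hz, rfl⟩
    exact hgL z (hZL hz)
  obtain ⟨P, hP⟩ := ((hZ2.map (MulAut.conj g).toMonoidHom).of_equiv
    (Subgroup.subgroupOfEquivOfLe hgZ).symm).exists_le_sylow
  obtain ⟨l, hl⟩ := MulAction.exists_smul_eq ↥L P R
  set g' := (l : G) * g with hg'
  have hg'k : g' * k * g'⁻¹ = k⁻¹ := by
    rw [hg', show (l : G) * g * k * ((l : G) * g)⁻¹ = l * (g * k * g⁻¹) * (l : G)⁻¹ by group, hg]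
    have e : Commute (l : G) k⁻¹ :=
      Commute.inv_right (mem_centralizer_singleton_iff.1 l.2)
    rw [e.eq, mul_inv_cancel_right]
  have hg'N : g' ∈ normalizer (S : Set G) := hNZ g' (by
    refine normalizer_iff_map.2 (Subgroup.eq_of_le_of_card_ge ?_
      (Subgroup.card_map_of_injective (MulAut.conj g').injective).ge)
    rintro _ ⟨z, hz, rfl⟩
    have hz' : (MulAut.conj g).toMonoidHom z ∈ Z.map (MulAut.conj g).toMonoidHom := ⟨z, hz, rfl⟩
    have h1 : l * ⟨_, hgZ hz'⟩ * l⁻¹ ∈ ((l • P : Sylow 2 ↥L) : Subgroup ↥L) := by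
      rw [Sylow.coe_subgroup_smul]
      exact ⟨⟨_, hgZ hz'⟩, hP (by simpa [Subgroup.mem_subgroupOf] using hz'), rfl⟩
    rw [hl, hRZ, Subgroup.mem_subgroupOf] at h1
    simpa [hg', mul_assoc] using h1)
  obtain ⟨a, m, hm, ham⟩ := Nat.exists_eq_two_pow_mul_odd (orderOf_pos g').ne'
  have hs : g' ^ m ∈ S := hS ▸ mem_of_normalizer Sy (hS ▸ pow_mem hg'N m) (k := a)
    (by rw [← pow_mul, mul_comm, ← ham, pow_orderOf_eq_one])
  have hgm : g' ^ m * k * (g' ^ m)⁻¹ = k⁻¹ := by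
    obtain ⟨j, rfl⟩ := hm
    have h2 : ∀ i : ℕ, (g' * g') ^ i * k * ((g' * g') ^ i)⁻¹ = k := by
      intro i
      induction i with
      | zero => simp
      | succ i ih =>
        rw [pow_succ, show (g' * g') ^ i * (g' * g') * k * ((g' * g') ^ i * (g' * g'))⁻¹ =
          (g' * g') ^ i * (g' * (g' * k * g'⁻¹) * g'⁻¹) * ((g' * g') ^ i)⁻¹ by group, hg'k,
          show g' * k⁻¹ * g'⁻¹ = (g' * k * g'⁻¹)⁻¹ by group, hg'k, inv_inv, ih]
    rw [pow_succ', pow_mul, sq, show g' * (g' * g') ^ j * k * (g' * (g' * g') ^ j)⁻¹ =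
      g' * ((g' * g') ^ j * k * ((g' * g') ^ j)⁻¹) * g'⁻¹ by group, h2, hg'k]
  have hkk : k⁻¹ * k⁻¹ ∈ S := by
    have h1 : k * (g' ^ m)⁻¹ * k⁻¹ ∈ S :=
      (Subgroup.mem_normalizer_iff.1 hkN _).1 (inv_mem hs)
    have h2 := mul_mem hs h1
    rwa [← mul_assoc, ← mul_assoc, hgm] at h2
  obtain ⟨j, hj⟩ := IsPGroup.iff_orderOf.1 Sy.2 ⟨_, hS ▸ hkk⟩
  rw [Subgroup.orderOf_mk] at hj
  have hkk1 : k⁻¹ * k⁻¹ = 1 := orderOf_eq_one_iff.1 (Nat.eq_one_of_dvd_coprimes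
    (Nat.Coprime.pow_left j (Nat.coprime_two_left.2 hodd)) (dvd_of_eq hj)
    (orderOf_dvd_of_pow_eq_one (by
      rw [← sq, inv_pow, inv_pow, ← pow_mul, mul_comm, pow_mul, pow_orderOf_eq_one, one_pow,
        inv_one])))
  refine hk1 (orderOf_eq_one_iff.1 ?_)
  have h2 : orderOf k ∣ 2 := orderOf_dvd_of_pow_eq_one (by
    rw [sq, ← inv_inj, mul_inv_rev, hkk1, inv_one])
  obtain ⟨i, hi⟩ := hodd
  rcases (Nat.dvd_prime Nat.prime_two).1 h2 with h | h
  · exact h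
  · omega

/-- An element of odd order of `N(A)` that is scalar on `A` and normalises `B` is not inverted. -/
theorem eq_one_of_scalar {k t : G} (hk : k ∈ normalizer (Φ.B : Set G)) (hodd : Odd (orderOf k))
    {l : F} (hl : ∀ v, k * Φ.a v * k⁻¹ = Φ.a (l • v)) (ht : t * k * t⁻¹ = k⁻¹) : k = 1 := by
  have hlin : ∀ (r : F) (v w : F × F), k * Φ.b v * k⁻¹ = Φ.b w →
      k * Φ.b (r • v) * k⁻¹ = Φ.b (r • w) := c.linB k hk
  have hax : ∀ x : F, k * Φ.b (x, 0) * k⁻¹ = Φ.b (l * x, 0) := fun x => by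
    rw [← Φ.axis, ← Φ.axis, hl]
    exact congrArg Φ.a (Prod.ext rfl (by simp))
  by_cases hl1 : l = 1
  · subst hl1
    exact Φ.eq_one_of_inverted c hS hodd (fun x => mul_inv_eq_iff_eq_mul.1 (by
      rw [hl, one_smul])) ht
  have hl1' : 1 + l ≠ 0 := fun e => hl1 (eq_of_add_eq_zero Φ.four e).symm
  obtain ⟨w, hw⟩ := (Subgroup.mem_normalizer_iff.1 hk _).1 (⟨(0, 1), rfl⟩ : Φ.b (0, 1) ∈ Φ.B)
  change Φ.b w = k * Φ.b (0, 1) * k⁻¹ at hw
  have hl0 : l ≠ 0 := fun e => by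
    have := hl (1, 0)
    rw [e, zero_smul, Φ.a_zero, conj_eq_one_iff, ← Φ.a_zero] at this
    exact one_ne_zero (congrArg Prod.fst (Φ.a_inj this))
  have hw2 : w.2 = 1 := by
    have e : Φ.b w * Φ.a (l • ((0, 1) : F × F)) * (Φ.b w)⁻¹ =
        k * (Φ.b (0, 1) * Φ.a (0, 1) * (Φ.b (0, 1))⁻¹) * k⁻¹ := by
      rw [hw, ← hl]; group
    rw [Φ.act, Φ.act, hl] at e
    have e' := congrArg Prod.fst (Φ.a_inj e)
    simp only [Prod.smul_mk, smul_eq_mul, mul_zero, zero_add, mul_one] at e'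
    exact mul_right_cancel₀ hl0 (by simpa using e')
  -- the fixed vector
  set e₀ := w.1 / (1 + l) with he₀
  have hfix : k * Φ.b (e₀, 1) * k⁻¹ = Φ.b (e₀, 1) := by
    rw [show ((e₀, 1) : F × F) = (e₀, 0) + (0, 1) from Prod.ext (by simp) (by simp), Φ.b_add,
      show k * (Φ.b (e₀, 0) * Φ.b (0, 1)) * k⁻¹ =
        k * Φ.b (e₀, 0) * k⁻¹ * (k * Φ.b (0, 1) * k⁻¹) by group, hax, ← hw, ← Φ.b_add, ← Φ.b_add]
    refine congrArg Φ.b (Prod.ext ?_ (by simp [hw2]))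
    simp only [Prod.fst_add, add_zero]
    have h1 : w.1 = e₀ * (1 + l) := (div_mul_cancel₀ _ hl1').symm
    calc l * e₀ + w.1 = e₀ + (l * e₀ + l * e₀) := by rw [h1]; ring
      _ = e₀ := by rw [add_self Φ.four, add_zero]
  obtain ⟨n, hn, hne⟩ := c.transB (e₀, 1) (1, 0) (by simp) (by simp)
  have h1 : n * k * n⁻¹ = 1 := by
    refine Φ.eq_one_of_inverted c hS (g := n * t * n⁻¹) ?_ (fun x => ?_) ?_
    · rw [show n * k * n⁻¹ = MulAut.conj n k from rfl, MulEquiv.orderOf_eq]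
      exact hodd
    · have e1 : n * Φ.b (x • ((e₀, 1) : F × F)) * n⁻¹ = Φ.b (x • ((1, 0) : F × F)) :=
        c.linB n hn x _ _ hne
      have e2 := hlin x _ _ hfix
      rw [Φ.axis, show ((x, (0 : F)) : F × F) = x • ((1, 0) : F × F) from
        Prod.ext (by simp) (by simp), ← e1, ← mul_inv_eq_iff_eq_mul]
      rw [show n * k * n⁻¹ * (n * Φ.b (x • ((e₀, 1) : F × F)) * n⁻¹) * (n * k * n⁻¹)⁻¹ =
        n * (k * Φ.b (x • ((e₀, 1) : F × F)) * k⁻¹) * n⁻¹ by group, e2]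
    · rw [show n * t * n⁻¹ * (n * k * n⁻¹) * (n * t * n⁻¹)⁻¹ = n * (t * k * t⁻¹) * n⁻¹ by group,
        ht]
      group
  exact conj_eq_one_iff.1 h1

end Frame

end Cfsg.Agent.Lib.L34Sylow67
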