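import Cfsg.Agent.Lib.L34Sylow67.Field

/-!
# Groups of additive permutations of a plane with a shear group as Sylow 2-subgroup

helper67.  `X` consists of additive permutations of `F × F`, contains the shears along the first
axis `Z₀`, and 8 does not divide its order.  An element of `X` mapping a non-zero point of `Z₀`
into `Z₀` stabilises `Z₀`.
-/

set_option autoImplicit false
set_option linter.unusedSectionVars false
set_option linter.style.haveILetI false

open Equiv

namespace Cfsg.Agent.Lib.L34Sylow67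

universe u

variable {F : Type u} [Field F] [Fintype F] (hF : IsFour F)

/-- The shear along the first axis. -/
def sh (l : F) : Perm (F × F) where
  toFun v := (v.1 + l * v.2, v.2)
  invFun v := (v.1 - l * v.2, v.2)
  left_inv v := by simp
  right_inv v := by simp

@[simp] theorem sh_apply (l : F) (v : F × F) : sh l v = (v.1 + l * v.2, v.2) := rfl

theorem sh_add (l m : F) : sh (l + m) = sh l * sh m := by
  refine Perm.ext fun v => ?_
  simp only [Perm.mul_apply, sh_apply]
  refine Prod.ext ?_ rfl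
  ring

theorem sh_zero : sh (0 : F) = 1 := by
  refine Perm.ext fun v => ?_
  simp

theorem sh_inj {l m : F} (h : sh l = sh m) : l = m := by
  have := congrArg (fun p : Perm (F × F) => (p (0, 1)).1) h
  simpa using this

include hF in
theorem sh_mul_self (l : F) : sh l * sh l = 1 := by rw [← sh_add, add_self hF, sh_zero]

include hF in
theorem sh_inv (l : F) : (sh l)⁻¹ = sh l := inv_eq_of_mul_eq_one_right (sh_mul_self hF l)

/-- The hypotheses. -/
structure Small (X : Subgroup (Perm (F × F))) : Prop where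
  add : ∀ g ∈ X, ∀ v w : F × F, g (v + w) = g v + g w
  shear : ∀ l : F, sh l ∈ X
  two : ¬ 8 ∣ Nat.card ↥X

/-- `g` stabilises the first axis. -/
def Fix0 (g : Perm (F × F)) : Prop := ∀ a : F, (g (a, 0)).2 = 0

namespace Small

variable {X : Subgroup (Perm (F × F))} (h : Small X)
include h

theorem map_zero {g : Perm (F × F)} (hg : g ∈ X) : g 0 = 0 := by
  have := h.add g hg 0 0
  simpa using this

include hF in
theorem fix0_inv {g : Perm (F × F)} (hgs : Fix0 g) : Fix0 (g⁻¹) := by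
  classical
  intro a
  let f : F → F := fun c => (g (c, 0)).1
  have hinj : Function.Injective f := fun c d e => by
    have : g (c, 0) = g (d, 0) := Prod.ext e ((hgs c).trans (hgs d).symm)
    exact congrArg Prod.fst (g.injective this)
  obtain ⟨c, hc⟩ := Finite.surjective_of_injective hinj a
  have : g (c, 0) = (a, 0) := Prod.ext hc (hgs c)
  rw [← this]
  simp

include hF in
theorem fix0_mul {g k : Perm (F × F)} (hg : Fix0 g) (hk : Fix0 k) : Fix0 (g * k) := by
  intro a
  have : k (a, 0) = ((k (a, 0)).1, 0) := Prod.ext rfl (hk a)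
  rw [Perm.mul_apply, this]
  exact hg _

omit h in
/-- The subgroup of shears. -/
def shears (hF : IsFour F) : Subgroup (Perm (F × F)) where
  carrier := Set.range sh
  one_mem' := ⟨0, sh_zero⟩
  mul_mem' := by rintro _ _ ⟨l, rfl⟩ ⟨m, rfl⟩; exact ⟨l + m, sh_add l m⟩
  inv_mem' := by rintro _ ⟨l, rfl⟩; exact ⟨l, (sh_inv hF l).symm⟩

omit h in
theorem card_shears : Nat.card ↥(shears hF) = 4 := by
  rw [← hF, ← Nat.card_eq_fintype_card]
  refine (Nat.card_congr (Equiv.ofBijective (fun l : F => (⟨sh l, l, rfl⟩ : ↥(shears hF))) ?_)).symm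
  exact ⟨fun l m e => sh_inj (congrArg Subtype.val e),
    fun ⟨_, l, hl⟩ => ⟨l, Subtype.ext hl⟩⟩

include hF in
theorem shears_le : shears hF ≤ X := by rintro _ ⟨l, rfl⟩; exact h.shear l

include hF in
theorem four_dvd : 4 ∣ Nat.card ↥X :=
  card_shears hF ▸ Subgroup.card_dvd_of_le (h.shears_le hF)

include hF in
theorem factorization : (Nat.card ↥X).factorization 2 = 2 := by
  have h0 : Nat.card ↥X ≠ 0 := Nat.card_pos.ne'
  refine le_antisymm ?_ ((Nat.prime_two.pow_dvd_iff_le_factorization h0).1 (h.four_dvd hF))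
  by_contra hc
  exact h.two ((Nat.prime_two.pow_dvd_iff_le_factorization h0).2 (Nat.succ_le_of_lt
    (Nat.lt_of_not_le hc)) : 2 ^ 3 ∣ _)

omit h in
theorem two_le_of_exponent {K : Subgroup (Perm (F × F))} (hK : ∀ k ∈ K, k * k = 1) :
    IsPGroup 2 ↥K := by
  intro k
  refine ⟨1, Subtype.ext ?_⟩
  rw [pow_one, pow_two, Subgroup.coe_mul, Subgroup.coe_one]
  exact hK k k.2

include hF in
/-- A 2-subgroup containing the shears consists of shears. -/
theorem le_shears {K : Subgroup (Perm (F × F))} (hKX : K ≤ X) (hV : shears hF ≤ K)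
    (hK : IsPGroup 2 ↥K) : K ≤ shears hF := by
  haveI : Fact (Nat.Prime 2) := ⟨Nat.prime_two⟩
  obtain ⟨n, hn⟩ := IsPGroup.iff_card.1 hK
  have h1 : 2 ^ n ∣ Nat.card ↥X := hn ▸ Subgroup.card_dvd_of_le hKX
  have h2 : n ≤ 2 := h.factorization hF ▸
    (Nat.prime_two.pow_dvd_iff_le_factorization Nat.card_pos.ne').1 h1
  exact (Subgroup.eq_of_le_of_card_ge hV (by
    rw [hn, card_shears hF]; exact Nat.pow_le_pow_right two_pos h2)).ge

include hF in
/-- A 2-subgroup of `X` is conjugate into the shears. -/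
theorem exists_conj {K : Subgroup (Perm (F × F))} (hKX : K ≤ X) (hK : IsPGroup 2 ↥K) :
    ∃ g ∈ X, ∀ k ∈ K, ∃ l : F, g * k * g⁻¹ = sh l := by
  haveI : Fact (Nat.Prime 2) := ⟨Nat.prime_two⟩
  let V : Sylow 2 ↥X := Sylow.ofCard ((shears hF).subgroupOf X) (by
    rw [Nat.card_congr (Subgroup.subgroupOfEquivOfLe (h.shears_le hF)).toEquiv, card_shears hF,
      h.factorization hF]
    norm_num)
  obtain ⟨P, hP⟩ := (hK.of_equiv (Subgroup.subgroupOfEquivOfLe hKX).symm).exists_le_sylow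
  obtain ⟨g, hg⟩ := MulAction.exists_smul_eq ↥X P V
  refine ⟨g, g.2, fun k hk => ?_⟩
  have h1 : g * ⟨k, hKX hk⟩ * g⁻¹ ∈ ((g • P : Sylow 2 ↥X) : Subgroup ↥X) := by
    rw [Sylow.coe_subgroup_smul]
    exact ⟨⟨k, hKX hk⟩, hP (by simpa [Subgroup.mem_subgroupOf] using hk), rfl⟩
  rw [hg, Sylow.coe_ofCard, Subgroup.mem_subgroupOf] at h1
  obtain ⟨l, hl⟩ := h1
  exact ⟨l, hl.symm⟩

include hF in
/-- A 2-element is conjugate to a shear. -/
theorem exists_conj_elt {x : Perm (F × F)} (hx : x ∈ X) {n : ℕ} (hn : x ^ 2 ^ n = 1) :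
    ∃ g ∈ X, ∃ l : F, g * x * g⁻¹ = sh l := by
  haveI : Fact (Nat.Prime 2) := ⟨Nat.prime_two⟩
  obtain ⟨j, -, hj⟩ := (Nat.dvd_prime_pow Nat.prime_two).1 (orderOf_dvd_of_pow_eq_one hn)
  obtain ⟨g, hg, hgl⟩ := h.exists_conj hF (K := Subgroup.zpowers x) (Subgroup.zpowers_le.2 hx)
    (IsPGroup.of_card (n := j) (by rw [Nat.card_zpowers, hj]))
  exact ⟨g, hg, hgl x (Subgroup.mem_zpowers x)⟩

include hF in
/-- The square of a 2-element is trivial. -/
theorem sq_eq_one {x : Perm (F × F)} (hx : x ∈ X) {n : ℕ} (hn : x ^ 2 ^ n = 1) : x * x = 1 := by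
  obtain ⟨g, -, l, hl⟩ := h.exists_conj_elt hF hx hn
  have h1 : x = g⁻¹ * sh l * g := by rw [← hl]; group
  calc x * x = g⁻¹ * (sh l * sh l) * g := by rw [h1]; group
    _ = 1 := by rw [sh_mul_self hF]; group

omit h in
/-- A non-trivial shear fixes the first axis only. -/
theorem sh_fix {l : F} (hl : l ≠ 0) {v : F × F} : sh l v = v ↔ v.2 = 0 := by
  constructor
  · intro e
    have e' := congrArg Prod.fst e
    simpa [hl] using e'
  · intro e
    refine Prod.ext ?_ rfl
    simp [e]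

omit h in
/-- An element conjugating a non-trivial shear to a shear stabilises the axis. -/
theorem fix0_of_conj {g : Perm (F × F)} {l m : F} (hl : l ≠ 0) (h' : g * sh l * g⁻¹ = sh m) :
    Fix0 g := by
  have hm : m ≠ 0 := by
    rintro rfl
    rw [sh_zero, mul_inv_eq_one, mul_eq_left] at h'
    exact hl (sh_inj (h'.trans sh_zero.symm))
  intro a
  refine (sh_fix hm).1 ?_
  rw [← h', Perm.mul_apply, Perm.mul_apply]
  simp [(sh_fix hl).2 (rfl : ((a, (0 : F)) : F × F).2 = 0)]

include hF in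
/-- An element stabilising the axis normalises the shears. -/
theorem conj_shear {g : Perm (F × F)} (hg : g ∈ X) (hg0 : Fix0 g) (l : F) :
    ∃ m : F, g * sh l * g⁻¹ = sh m := by
  have hsum : ∀ y ∈ X, ∀ v : F × F, ∀ a : F, y (v + (a, 0)) = y v + y (a, 0) :=
    fun y hy v a => h.add y hy v (a, 0)
  let K : Subgroup (Perm (F × F)) :=
    { carrier := {y | y ∈ X ∧ (∀ a : F, y (a, 0) = (a, 0)) ∧ ∀ v, (y v).2 = v.2}
      one_mem' := ⟨one_mem X, fun _ => rfl, fun _ => rfl⟩
      mul_mem' := fun {y k} hy hk => ⟨mul_mem hy.1 hk.1, fun a => by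
        rw [Perm.mul_apply, hk.2.1, hy.2.1], fun v => by
        rw [Perm.mul_apply, hy.2.2, hk.2.2]⟩
      inv_mem' := fun {y} hy => ⟨inv_mem hy.1, fun a => by
        conv_lhs => rw [← hy.2.1 a]
        simp, fun v => by
        have := hy.2.2 (y⁻¹ v)
        simpa using this.symm⟩ }
  have hK2 : IsPGroup 2 ↥K := two_le_of_exponent fun y hy => Perm.ext fun v => by
    have e : y v = v + ((y v).1 + v.1, 0) :=
      Prod.ext (show (y v).1 = v.1 + ((y v).1 + v.1) by
        rw [add_comm (y v).1, add_add_self hF]) (by simpa using hy.2.2 v)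
    calc (y * y) v = y (v + ((y v).1 + v.1, 0)) := congrArg y e
      _ = y v + ((y v).1 + v.1, 0) := by rw [hsum y hy.1, hy.2.1]
      _ = v + (((y v).1 + v.1, 0) + ((y v).1 + v.1, 0)) := by
          rw [← add_assoc]; exact congrArg (fun t => t + ((y v).1 + v.1, (0 : F))) e
      _ = v := by
          rw [show ((((y v).1 + v.1, 0) + ((y v).1 + v.1, 0)) : F × F) = 0 from
            Prod.ext (add_self hF _) (add_zero _), add_zero]
  have hV : shears hF ≤ K := by
    rintro _ ⟨m, rfl⟩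
    exact ⟨h.shear m, fun a => by simp, fun v => rfl⟩
  have hgK : g * sh l * g⁻¹ ∈ K := by
    have hgi := h.fix0_inv hF hg0
    refine ⟨mul_mem (mul_mem hg (h.shear l)) (inv_mem hg), fun a => ?_, fun v => ?_⟩
    · rw [Perm.mul_apply, Perm.mul_apply]
      rw [(show sh l (g⁻¹ (a, 0)) = g⁻¹ (a, 0) from Prod.ext (show (g⁻¹ (a, 0)).1 + l * (g⁻¹ (a, 0)).2 = _ by rw [hgi a, mul_zero, add_zero]) rfl)]
      simp
    · rw [Perm.mul_apply, Perm.mul_apply]
      have e : sh l (g⁻¹ v) = g⁻¹ v + (l * (g⁻¹ v).2, 0) := Prod.ext rfl (by simp)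
      rw [e, h.add g hg]
      simp [hg0 _]
  obtain ⟨m, hm⟩ := h.le_shears hF (K := K) (fun _ hy => hy.1) hV hK2 hgK
  exact ⟨m, hm.symm⟩

include hF in
/-- An element mapping a non-zero point of the axis to the axis stabilises it. -/
theorem fix0_of_meet {x : Perm (F × F)} (hx : x ∈ X) {z : F} (hz : z ≠ 0)
    (hxz : (x (z, 0)).2 = 0) : Fix0 x := by
  by_contra hne
  simp only [Fix0, not_forall] at hne
  obtain ⟨c, hc⟩ := hne
  set z' := (x (z, 0)).1 with hz'
  have hp : x (z, 0) = (z', 0) := Prod.ext rfl hxz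
  have hz'0 : z' ≠ 0 := by
    intro e
    rw [e] at hp
    exact hz (congrArg Prod.fst (x.injective (hp.trans (h.map_zero hx).symm) :
      ((z, (0 : F)) : F × F) = 0))
  set d := x (c, 0) with hd
  -- the two displacement parameters
  set l₀ := z' * d.2⁻¹ with hl₀
  have hl₀0 : l₀ ≠ 0 := mul_ne_zero hz'0 (inv_ne_zero hc)
  have hc0 : c ≠ 0 := fun e => hc (by
    rw [hd, e, show ((0 : F), (0 : F)) = (0 : F × F) from rfl, h.map_zero hx]; rfl)
  have hxi := inv_mem hx
  obtain ⟨c', hc'⟩ : ∃ c', (x⁻¹ (c', 0)).2 ≠ 0 := by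
    by_contra! hall
    have := h.fix0_inv hF (g := x⁻¹) hall
    rw [inv_inv] at this
    exact hc (this c)
  set d' := x⁻¹ (c', 0) with hd'
  set l₁ := z * d'.2⁻¹ with hl₁
  have hl₁0 : l₁ ≠ 0 := mul_ne_zero hz (inv_ne_zero hc')
  -- the four points of the axis
  have haxis : ∀ {y : Perm (F × F)}, y ∈ X → ∀ {p q : F}, p ≠ 0 → (y (p, 0)).2 = 0 →
      (y (q, 0)).2 ≠ 0 → ∀ a, (y (a, 0)).2 = 0 ∨ (y (a, 0)).2 = (y (q, 0)).2 := by
    intro y hy p q hp0 hyp hyq a
    have hq0 : q ≠ 0 := fun e => hyq (by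
      rw [e, show ((0 : F), (0 : F)) = (0 : F × F) from rfl, h.map_zero hy]; rfl)
    have hqp : q ≠ p := fun e => hyq (e ▸ hyp)
    have hq1 : q / p ≠ 0 := div_ne_zero hq0 hp0
    have hq2 : q / p ≠ 1 := fun e => hqp ((div_eq_one_iff_eq hp0).1 e)
    have e0 : (y ((0 : F), (0 : F))).2 = 0 := by
      rw [show ((0 : F), (0 : F)) = (0 : F × F) from rfl, h.map_zero hy]; rfl
    rcases cases_four hF hq1 hq2 (a / p) with e | e | e | e
    · rw [(div_eq_zero_iff.1 e).resolve_right hp0]; exact Or.inl e0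
    · rw [(div_eq_one_iff_eq hp0).1 e]; exact Or.inl hyp
    · rw [(div_left_inj' hp0).1 e]; exact Or.inr rfl
    · have ea : a = q + p := by
        have := congrArg (fun t => t * p) e
        simpa [add_mul, div_mul_cancel₀ _ hp0] using this
      refine Or.inr ?_
      rw [ea, show ((q + p, (0 : F)) : F × F) = (q, 0) + (p, 0) from Prod.ext rfl (by simp),
        h.add y hy, Prod.snd_add, hyp, add_zero]
  set y₀ := x * sh l₁ * x⁻¹ with hy₀
  set u := sh l₀ * y₀ with hu
  have hy₀X : y₀ ∈ X := mul_mem (mul_mem hx (h.shear _)) hxi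
  have huX : u ∈ X := mul_mem (h.shear _) hy₀X
  -- the three-dimensional invariant space
  let H : F × F → Prop := fun v => v.2 = 0 ∨ v.2 = d.2
  have hH : ∀ v w, H v → H w → H (v + w) := by
    rintro v w (e | e) (e' | e') <;> simp [H, e, e', add_self hF]
  have hHx : ∀ a, H (x (a, 0)) := fun a => haxis hx hz hxz hc a
  -- the preimage of `H`
  have hxz' : (x⁻¹ (z', 0)).2 = 0 := by rw [← hp]; simp
  have hH' : ∀ v, H v → (x⁻¹ v).2 = 0 ∨ (x⁻¹ v).2 = d'.2 := by
    intro v hv
    rcases hv with e | e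
    · rw [show v = (v.1, 0) from Prod.ext rfl e]
      exact haxis hxi hz'0 hxz' hc' v.1
    · have e' : v = (v.1 + d.1, 0) + x (c, 0) := Prod.ext
        (show v.1 = v.1 + d.1 + d.1 by rw [add_add_self' hF]) (by simp [e, hd])
      rw [e', h.add _ hxi, Prod.snd_add]
      have : (x⁻¹ (x (c, 0))).2 = 0 := by simp
      rw [this, add_zero]
      exact haxis hxi hz'0 hxz' hc' _
  have hy₀d : ∀ v, ∃ a, y₀ v = v + x (a, 0) ∧ (H v → a = 0 ∨ a = z) := by
    intro v
    refine ⟨l₁ * (x⁻¹ v).2, ?_, fun hv => ?_⟩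
    · rw [hy₀, Perm.mul_apply, Perm.mul_apply]
      have : sh l₁ (x⁻¹ v) = x⁻¹ v + (l₁ * (x⁻¹ v).2, 0) := Prod.ext rfl (by simp)
      rw [this, h.add x hx]
      simp
    · rcases hH' v hv with e | e
      · left; rw [e, mul_zero]
      · right; rw [e, hl₁, mul_assoc, inv_mul_cancel₀ hc', mul_one]
  have hsd : ∀ v, ∃ b, sh l₀ v = v + (b, 0) ∧ (H v → b = 0 ∨ b = z') := fun v =>
    ⟨l₀ * v.2, Prod.ext rfl (by simp), fun hv => by
      rcases hv with e | e
      · left; rw [e, mul_zero]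
      · right; rw [e, hl₀, mul_assoc, inv_mul_cancel₀ hc, mul_one]⟩
  -- displacements of `u`
  have hax : ∀ a : F, H (a, 0) := fun a => Or.inl rfl
  have hud : ∀ v, ∃ e, u v = v + e ∧ H e ∧ (H v → e = 0 ∨ e = (z', 0)) := by
    intro v
    obtain ⟨a, ha, ha'⟩ := hy₀d v
    obtain ⟨b, hb, hb'⟩ := hsd (y₀ v)
    refine ⟨x (a, 0) + (b, 0), ?_, hH _ _ (hHx a) (hax b), fun hv => ?_⟩
    · rw [hu, Perm.mul_apply, hb, ha, add_assoc]
    · have hxa : x (a, 0) = 0 ∨ x (a, 0) = (z', 0) := by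
        rcases ha' hv with rfl | rfl
        · left; rw [show ((0 : F), (0 : F)) = (0 : F × F) from rfl, h.map_zero hx]
        · right; exact hp
      have hw : H (y₀ v) := by rw [ha]; exact hH _ _ hv (hHx a)
      have hbb : ((b, 0) : F × F) = 0 ∨ ((b, 0) : F × F) = (z', 0) := by
        rcases hb' hw with rfl | rfl
        · exact Or.inl rfl
        · exact Or.inr rfl
      rcases hxa with e | e <;> rcases hbb with e' | e' <;>
        simp [e, e', add_self hF]
  have hup : u (z', 0) = (z', 0) := by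
    obtain ⟨a, ha, ha'⟩ := hy₀d (z', 0)
    have hz0 : (x⁻¹ (z', 0)) = (z, 0) := by rw [← hp]; simp
    have e1 : y₀ (z', 0) = (z', 0) := by
      rw [hy₀, Perm.mul_apply, Perm.mul_apply, hz0]
      simpa using hp
    rw [hu, Perm.mul_apply, e1]
    simp
  have hu4 : u ^ 2 ^ 2 = 1 := by
    refine Perm.ext fun v => ?_
    have hself : ∀ w : F × F, w + w = 0 := fun w => Prod.ext (add_self hF _) (add_self hF _)
    have h2 : ∀ w, ∃ e, u (u w) = w + e ∧ (e = 0 ∨ e = (z', 0)) := by
      intro w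
      obtain ⟨e, he, heH, -⟩ := hud w
      obtain ⟨e', he', -, hee⟩ := hud e
      refine ⟨e', ?_, hee heH⟩
      rw [he, h.add u huX, he, he', add_assoc, ← add_assoc e e e', hself, zero_add]
    show (u ^ 4) v = v
    rw [show u ^ 4 = u * u * (u * u) by simp [pow_succ, mul_assoc]]
    simp only [Perm.mul_apply]
    obtain ⟨e, he, hee⟩ := h2 v
    rw [he, h.add u huX, h.add u huX, he]
    rcases hee with rfl | rfl
    · simp [h.map_zero huX]
    · rw [hup, hup, add_assoc, hself, add_zero]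
  have huu := h.sq_eq_one hF huX hu4
  have hy₀2 : y₀ * y₀ = 1 := by
    rw [hy₀]
    calc x * sh l₁ * x⁻¹ * (x * sh l₁ * x⁻¹) = x * (sh l₁ * sh l₁) * x⁻¹ := by group
      _ = 1 := by rw [sh_mul_self hF]; group
  have hcomm : sh l₀ * y₀ = y₀ * sh l₀ := by
    have e1 : (sh l₀ * y₀)⁻¹ = sh l₀ * y₀ := inv_eq_of_mul_eq_one_right huu
    rw [mul_inv_rev, sh_inv hF, inv_eq_of_mul_eq_one_right hy₀2] at e1
    exact e1.symm
  let K : Subgroup (Perm (F × F)) := Subgroup.closure {sh l₀, y₀}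
  haveI hKc : IsMulCommutative ↥K := Subgroup.isMulCommutative_closure (by
    rintro a (rfl | rfl) b (rfl | rfl)
    exacts [rfl, hcomm, hcomm.symm, rfl])
  have hK2 : ∀ k ∈ K, k * k = 1 := by
    intro k hk
    refine Subgroup.closure_induction (p := fun k _ => k * k = 1) ?_ (one_mul 1) ?_ ?_ hk
    · rintro k (rfl | rfl)
      · exact sh_mul_self hF l₀
      · exact hy₀2
    · intro a b ha hb ea eb
      have : b * a = a * b := congrArg Subtype.val
        (mul_comm' (⟨b, hb⟩ : ↥K) ⟨a, ha⟩)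
      calc a * b * (a * b) = a * (b * a) * b := by group
        _ = a * a * (b * b) := by rw [this]; group
        _ = 1 := by rw [ea, eb, one_mul]
    · intro a _ ea
      rw [← mul_inv_rev, ea, inv_one]
  obtain ⟨g, hg, hgK⟩ := h.exists_conj hF
    ((Subgroup.closure_le _).2 (by
      rintro k (rfl | rfl)
      exacts [h.shear _, hy₀X] : ({sh l₀, y₀} : Set (Perm (F × F))) ⊆ X))
    (two_le_of_exponent hK2)
  obtain ⟨a, ha⟩ := hgK (sh l₀) (Subgroup.subset_closure (Set.mem_insert _ _))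
  obtain ⟨b, hb⟩ := hgK y₀ (Subgroup.subset_closure (Set.mem_insert_of_mem _ rfl))
  have hg0 : Fix0 g := fix0_of_conj hl₀0 ha
  have hgx : Fix0 (g * x) := fix0_of_conj (m := b) hl₁0 (by rw [← hb, hy₀]; group)
  have hx0 : Fix0 x := by
    have := h.fix0_mul hF (h.fix0_inv hF hg0) hgx
    rwa [inv_mul_cancel_left] at this
  exact hc (hx0 c)

end Small

end Cfsg.Agent.Lib.L34Sylow67
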